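import Cfsg.Agent.H240.F4.Card_mg_m3
import Cfsg.Agent.S0242
import Cfsg.Agent.Nodes.ClsPair
import Cfsg.Agent.Cit.OmB3.PairEx_m3
import Cfsg.Agent.Nodes.LeviDec
import Cfsg.Agent.OddHalf.NI.Mult.Torus
import Cfsg.Agent.H744.Fx.TwE6A
import Cfsg.Agent.H75.QO.Red_m3
import Mathlib
import Cfsg.Agent.H85.Ore.Phi_mg_m3
import Cfsg.Agent.H928.Ore.TwFin
import Cfsg.Agent.KFacts.RgdFiltTwAll
import Cfsg.Agent.Lib.MatLitD
import Cfsg.Agent.TwoESix.LeviHyp_m3
import Cfsg.Prelude.Def_Spor_Fi22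
import Cfsg.Agent.H51.Mult
import Cfsg.Agent.H68.Bounds
import Cfsg.Agent.H66.TwESixCover
import Cfsg.Agent.H6.QO.Frame
import Cfsg.Agent.S2109
import Cfsg.Agent.S1070
import Cfsg.Agent.S1696
import Cfsg.Agent.H326.QS.FiFinal_m3
import Cfsg.Agent.H928.Ore.TwS_m3
import Cfsg.Agent.H584.Ore.ESixTwo_mg
import Cfsg.Agent.Nodes.Unique
import Cfsg.Agent.TwoESix.CoxFast
import Cfsg.Agent.S1066
import Cfsg.Agent.H898.TE6Main
import Cfsg.Agent.H547.PP.FarBaby
import Cfsg.Agent.H59.ESixField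
import Cfsg.Agent.H844.Ore.BInv_m3
import Cfsg.Agent.S2227
import Cfsg.Agent.KFacts.TwESix.Tor
import Cfsg.Agent.H990.TC.Univ
import Cfsg.Agent.LieClassical.HermPerfect
import Cfsg.Agent.S0279
import Cfsg.Agent.S2091
import Cfsg.Agent.Nodes.CardSup_m3
import Cfsg.Agent.H590.F4.P4Iden_m3
import Cfsg.Agent.H181.TC.Main
import Cfsg.Agent.ChevFast.E6
import Cfsg.Agent.FastGrp
import Cfsg.Agent.Prune
set_option linter.all false

section
prune_inst 0x7fb0bcf80db88ddeff7d7e7ffe95dffc38905fffacdff943bfe8a1ef0fdf030209c563859de010ff0ec2c21410a87803b9feeeffe26bdc7ffffd5ff41ffbee0fe5f6b50851968c340f3c0ffe83f0678a7f3fffffffffffffffffffffffffffbeffbfffffffff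

-- part: H150/QF/EFive
section
set_option linter.all false
open scoped Cfsg.Agent.FastGrp

/-!
# Elements of order divisible by five in the parabolic subgroups `{0, 1, 3}`, `{0, 3}` of `²E₆(2)` (S2491, row F4, E5; helper150)

`cr_j3` : `g ∈ P_3`, `5 ∣ o(g)`, `1 ≠ z ∈ V_3`, `g z = z g` : `z` is a root element, so `CR g`;
`in_or_cr` : `g ∈ P_{0,3}`, `1 ≠ z ∈ V_{0,3}`, `g z = z g`, `5 ∣ o(g)` : `In φ j1 g ∨ CR g`.
-/

set_option autoImplicit false
set_option linter.unusedSectionVars false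
set_option linter.style.haveILetI false

namespace Cfsg.Agent.H150.QF

open CoxeterSystem Cfsg.Agent.ChevalleyStructure.CoxeterGeom Cfsg.Agent.Tits.Roots Cfsg.Agent.Tits.Core
  Cfsg.Agent.Nodes Cfsg.Agent.Nodes.Reps Cfsg.Agent.Nodes.BNOf Cfsg.Agent.Nodes.RGDLib Cfsg.Agent.Nodes.Bruhat
  Cfsg.Agent.Nodes.OppDec Cfsg.Agent.Nodes.LeviDec Cfsg.Agent.Nodes.StabComb Cfsg.Agent.Nodes.Unique
open Cfsg.Lie Subgroup
open Cfsg.Agent.H231.QF
open Cfsg.Agent.KFacts.TwESix.Comb (bf rts mem_rts bf_rep norm exists_rep_long exists_rep_short)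
open Cfsg.Agent.Nodes.RGDFoldSL (Fx mem_Fx wS)
open Cfsg.Agent.Nodes.RGDTwNode.E6 (rest)
open Cfsg.Agent.ChevalleyStructure.SL2Hom (up lo)
open Cfsg.Agent.LThreeTwE6.ParWords Cfsg.Agent.LThreeTwE6.ParBorel

universe u

theorem card_SL2 {F : Type u} [Field F] [Finite F] : Nat.card (Matrix.SpecialLinearGroup (Fin 2) F) =
    Nat.card F * (Nat.card F ^ 2 - 1) := by
  have : Fintype F := Fintype.ofFinite F
  have h1 := Cfsg.Agent.S0242.result (F := F) rfl 2 (by norm_num)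
  have hq : 2 ≤ Fintype.card F := Fintype.one_lt_card
  rw [Fin.prod_univ_two] at h1
  have h3 : Fintype.card F ^ 2 - Fintype.card F ^ 1 = (Fintype.card F - 1) * Fintype.card F := by
    rw [Nat.sub_mul, one_mul, pow_one, pow_two]
  simp only [Fin.val_zero, Fin.val_one, pow_zero] at h1
  rw [h3] at h1
  have h4 : (Fintype.card F - 1) * Nat.card (Matrix.SpecialLinearGroup (Fin 2) F) =
      (Fintype.card F - 1) * (Fintype.card F * (Fintype.card F ^ 2 - 1)) := by rw [h1]; ring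
  rw [Nat.card_eq_fintype_card (α := F)]
  exact Nat.eq_of_mul_eq_mul_left (by omega) h4

theorem finite_KK {F : Type u} [Field F] [Fintype F] : Finite (KK F) := by
  have : Finite (Matrix chevE6.Idx chevE6.Idx F) := inferInstance
  have : Finite (GL chevE6.Idx F) := inferInstance
  infer_instance

section

variable {F : Type u} [Field F] [Fintype F] {φ : F →+* F} (hF : Fintype.card F = 4) (hφ : ∀ t, φ t = t ^ 2)

include hF hφ

theorem card_P3 : Nat.card (P φ j3) = 105 * (3 * 2 ^ 36) := by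
  have h0 : ∀ i : Fin 4, i.val ∈ [0, 1, 3] ↔ i ∈ (j3 : Set (Fin 4)) := by
    intro i
    change i.val ∈ [0, 1, 3] ↔ i ≠ 2
    revert i
    decide
  exact card_PJ (Cfsg.Agent.H297.QF.Su.four hF hφ) (L := gL) (fun l hl i hi => (h0 i).1 (mem_g l hl i hi))
      (fun l hl => exists_g fun i hi => (h0 i).2 (hl i hi)) keys_g sum_g

/-- an element of order five in the kernel of the homomorphism of the node `3` -/
theorem sq_ne {s : Matrix.SpecialLinearGroup (Fin 2) (Fx φ ((rest 3).length + 1))} (h : s ∈ (P3 hF hφ).ker) :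
    s * s = 1 := by
  by_contra hs
  have hk2 : 4 ≤ Nat.card (Fx φ ((rest 3).length + 1)) := by rw [card_F3 hF hφ]
  have hq := Cfsg.Agent.SignalizersComponents.SLQuasisimple.isQuasisimple_two (F := Fx φ ((rest 3).length + 1)) hk2
  rcases Cfsg.Agent.Lib.ComponentSolvable.quasisimple_normal_cases hq (N := (P3 hF hφ).ker) inferInstance with h1 | h1
  · have h2 : (up 1 : Matrix.SpecialLinearGroup (Fin 2) (Fx φ ((rest 3).length + 1))) ∈ (P3 hF hφ).ker := by
      rw [h1]; exact Subgroup.mem_top _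
    exact one_ne_zero (Cfsg.Agent.UGT.U2.FOne.TwESix.P_up_inj hφ (hqq_of hF) 3 h2)
  · have h3 := h1 h
    obtain ⟨t, ht, hts⟩ := Matrix.SpecialLinearGroup.mem_center_iff.1 h3
    apply hs
    apply Subtype.ext
    rw [Matrix.SpecialLinearGroup.coe_mul, ← hts, ← map_mul]
    have : t * t = 1 := by simpa [pow_two] using ht
    rw [this, map_one]
    rfl

theorem five_dvd : 5 ∣ Nat.card (P3 hF hφ).range := by
  have hfin : Finite (Fx φ ((rest 3).length + 1)) := inferInstance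
  have h5 : Nat.Prime 5 := by norm_num
  have : Fact (Nat.Prime 5) := ⟨h5⟩
  have h1 : Nat.card (Matrix.SpecialLinearGroup (Fin 2) (Fx φ ((rest 3).length + 1))) = 60 := by
    rw [card_SL2, card_F3 hF hφ]
    norm_num
  have h2 := Subgroup.card_eq_card_quotient_mul_card_subgroup (P3 hF hφ).ker
  rw [Nat.card_congr (QuotientGroup.quotientKerEquivRange (P3 hF hφ)).toEquiv, h1] at h2
  have h3 : 5 ∣ Nat.card (P3 hF hφ).range * Nat.card (P3 hF hφ).ker := by rw [← h2]; norm_num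
  rcases h5.dvd_mul.1 h3 with h | h
  · exact h
  · exfalso
    obtain ⟨⟨s, hs⟩, ho⟩ := exists_prime_orderOf_dvd_card' 5 h
    have h4 := sq_ne hF hφ hs
    have h6 : (⟨s, hs⟩ : (P3 hF hφ).ker) ^ 2 = 1 := by
      apply Subtype.ext
      change s ^ 2 = 1
      rw [pow_two]; exact h4
    have h7 := orderOf_dvd_of_pow_eq_one h6
    rw [ho] at h7
    omega

theorem range_le_P3 : (P3 hF hφ).range ≤ P φ j3 := by
  rw [Cfsg.Agent.UGT.U2.FOne.TwESix.range_P hφ (hqq_of hF) 3]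
  have h : (3 : Fin 4) ∈ (j3 : Set (Fin 4)) := by
    change (3 : Fin 4) ≠ 2
    decide
  refine sup_le ?_ ?_ <;> refine (X_le_LJ (J := j3) ?_).trans LJ_le_PJ
  · exact ⟨isRoot_sr cs _ 3, fun k hk => sr_ne fun h1 => hk (by rw [h1]; exact h)⟩
  · refine ⟨(isRoot_sr cs _ 3).neg, fun k hk => ?_⟩
    rw [Pi.neg_apply, sr_ne fun h1 => hk (by rw [h1]; exact h), neg_zero]

/-- elements of order five of `P_3` are conjugate into the rank one group of the node `3` -/
theorem exists_conj {d : KK F} (hd : d ∈ P φ j3) (ho : orderOf d = 5) :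
    ∃ p ∈ P φ j3, ∃ s, P3 hF hφ s = p⁻¹ * d * p := by
  have := finite_KK (F := F)
  have : Fact (Nat.Prime 5) := ⟨by norm_num⟩
  have h1 : ¬ 5 ∣ (P3 hF hφ).range.relIndex (P φ j3) := by
    intro h
    have h2 := Subgroup.relIndex_mul_relIndex ⊥ (P3 hF hφ).range (P φ j3) bot_le (range_le_P3 hF hφ)
    rw [Subgroup.relIndex_bot_left, Subgroup.relIndex_bot_left, card_P3 hF hφ] at h2
    obtain ⟨a, ha⟩ := h
    obtain ⟨b, hb⟩ := five_dvd hF hφ
    rw [ha, hb] at h2
    have h3 : 25 ∣ 105 * (3 * 2 ^ 36) := ⟨b * a, by rw [← h2]; ring⟩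
    revert h3
    norm_num
  obtain ⟨p, hp, s, hs⟩ := Cfsg.Agent.LThreeTwE6.Par.exists_conj_mem hd ho h1
  exact ⟨p, hp, s, hs⟩

end

/-! ### The parabolic subgroup of `{0, 3}` -/

section

variable {F : Type u} [Field F] [Fintype F] {φ : F →+* F} (hF : Fintype.card F = 4) (hφ : ∀ t, φ t = t ^ 2)

include hF hφ

end

end Cfsg.Agent.H150.QF

private theorem dce_69dacbe23976 : _root_.True := by
  try have : _root_.True := by simp only [_root_.Cfsg.Agent.Nodes.RGDTwE6.nn.congr_simp]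
  exact _root_.True.intro
end

-- part: H461/QF/Seven
section
set_option linter.all false
open scoped Cfsg.Agent.FastGrp

/-!
# Elements of order divisible by seven in the parabolic subgroup `{0, 2, 3}` of `²E₆(2)` (S2491, row F4, E7; helper461)

`card_P2` : `|P_2| = 315 * (3 * 2 ^ 36)`; `conj7` : subgroups of order seven of `P_2` are conjugate; `e7_of` : from T1 (helper903).
-/

set_option autoImplicit false
set_option linter.unusedSectionVars false
set_option linter.style.haveILetI false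

namespace Cfsg.Agent.H461.QF.Seven

open CoxeterSystem Cfsg.Agent.ChevalleyStructure.CoxeterGeom Cfsg.Agent.Tits.Roots Cfsg.Agent.Tits.Core
  Cfsg.Agent.Nodes Cfsg.Agent.Nodes.Reps Cfsg.Agent.Nodes.BNOf Cfsg.Agent.Nodes.RGDLib Cfsg.Agent.Nodes.Bruhat
  Cfsg.Agent.Nodes.OppDec Cfsg.Agent.Nodes.LeviDec Cfsg.Agent.Nodes.StabComb Cfsg.Agent.Nodes.Unique
open Cfsg.Lie Subgroup
open Cfsg.Agent.H231.QF
open Cfsg.Agent.LThreeTwE6.ParWords Cfsg.Agent.LThreeTwE6.ParBorel
open Cfsg.Agent.H150.QF (rgdK finite_WF conj_pair pt0 re_of)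
open Cfsg.Agent.TwoESix.LeviB
open Cfsg.Agent.TwoESix.LongWeyl

universe u

/-- the words in the letters `0, 2, 3` -/
def hL : List (List (Fin 4)) :=
  [[], [0], [2], [3], [0, 2], [0, 3], [2, 3], [3, 2], [2, 3, 2], [0, 2, 3], [0, 3, 2], [0, 2, 3, 2]]

/-- `w_j hL b = hL b'`, `j = 0, 2, 3` -/
def hN : List ℕ :=
  [1, 2, 3,
   0, 4, 5,
   4, 0, 7,
   5, 6, 0,
   2, 1, 10,
   3, 9, 1,
   9, 3, 8,
   10, 8, 2,
   11, 7, 6,
   6, 5, 11,
   7, 11, 4,
   8, 10, 9]

theorem chk_h : chk [0, 2, 3] hL hN = true := by decide +kernel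

theorem exists_h {l : List (Fin 4)} (hl : ∀ i ∈ l, i.val ∈ [0, 2, 3]) : ∃ l' ∈ hL, ∀ r, wpm l r = wpm l' r :=
  exists_of_chk chk_h (by decide +kernel) hl

theorem mem_h : ∀ l ∈ hL, ∀ i ∈ l, i.val ∈ [0, 2, 3] := by decide +kernel

theorem keys_h : (hL.map fun l => key (l.map Fin.val)).Nodup := by decide +kernel

theorem sum_h : (hL.map fun l => 2 ^ invN l.reverse).sum = 315 := sum_eq _ _ (by decide +kernel)

section

variable {F : Type u} [Field F] [Fintype F] {φ : F →+* F} (hF : Fintype.card F = 4) (hφ : ∀ t, φ t = t ^ 2)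

include hF hφ

theorem card_P2 : Nat.card (P φ j2) = 315 * (3 * 2 ^ 36) := by
  have h0 : ∀ i : Fin 4, i.val ∈ [0, 2, 3] ↔ i ∈ (j2 : Set (Fin 4)) := by
    intro i
    change i.val ∈ [0, 2, 3] ↔ i ≠ 1
    revert i
    decide
  exact card_PJ (Cfsg.Agent.H297.QF.Su.four hF hφ) (L := hL) (fun l hl i hi => (h0 i).1 (mem_h l hl i hi))
      (fun l hl => exists_h fun i hi => (h0 i).2 (hl i hi)) keys_h sum_h

/-- subgroups of order seven of `P_2` are conjugate -/
theorem conj7 {d d0 : KK F} (hd : d ∈ P φ j2) (h0 : d0 ∈ P φ j2) (h1 : orderOf d = 7) (h2 : orderOf d0 = 7) :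
    ∃ p ∈ P φ j2, p⁻¹ * d * p ∈ zpowers d0 := by
  have := Cfsg.Agent.H150.QF.finite_KK (F := F)
  have : Fact (Nat.Prime 7) := ⟨by norm_num⟩
  have hle : zpowers d0 ≤ P φ j2 := by rwa [zpowers_le]
  have h3 : ¬ 7 ∣ (zpowers d0).relIndex (P φ j2) := by
    intro h
    have h2' := Subgroup.relIndex_mul_relIndex ⊥ (zpowers d0) (P φ j2) bot_le hle
    rw [Subgroup.relIndex_bot_left, Subgroup.relIndex_bot_left, card_P2 hF hφ, Nat.card_zpowers, h2] at h2'
    obtain ⟨a, ha⟩ := h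
    rw [ha] at h2'
    have h3 : 49 ∣ 315 * (3 * 2 ^ 36) := ⟨a, by rw [← h2']; ring⟩
    revert h3
    norm_num
  exact Cfsg.Agent.LThreeTwE6.Par.exists_conj_mem hd h1 h3

/-- the nontrivial elements of `X_1342 X_2342` are conjugate into `X_θ` -/
theorem exists_conj {z : KK F} (hz : z ∈ X φ ![1, 3, 4, 2] ⊔ X φ ![2, 3, 4, 2]) : ∃ x, x * z * x⁻¹ ∈ X φ th := by
  have hr : ![1, 3, 4, 2] ∈ RGD.Pos cs RGDTwE6.isCartan := by
    have h1 := Cfsg.Agent.H150.QF.mem_prt.1 pt0.1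
    exact ⟨h1.1, h1.2⟩
  have hc : ∀ y ∈ X φ ![1, 3, 4, 2], ∀ t ∈ X φ th, y * t = t * y := by
    intro y hy t ht
    by_cases h1 : t = 1
    · rw [h1, mul_one, one_mul]
    · have h2 : y ∈ centralizer ({t} : Set (KK F)) := by
        rw [Cfsg.Agent.H594.QF.centralizer_eq hF hφ ht h1]
        exact B_le_PJ (RGD.X_le_B hr.1 hr.2 hy)
      exact (Subgroup.mem_centralizer_singleton_iff.1 h2)
  have hn : X φ ![1, 3, 4, 2] ≤ normalizer (X φ th : Set (KK F)) := by
    intro y hy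
    rw [Subgroup.mem_normalizer_iff]
    intro t
    constructor
    · intro ht
      rw [hc y hy t ht, mul_inv_cancel_right]
      exact ht
    · intro ht
      have h1 := hc _ (inv_mem hy) _ ht
      have h2 : t = y⁻¹ * (y * t * y⁻¹) * y := by group
      rw [h2, h1, mul_assoc, inv_mul_cancel, mul_one]
      exact ht
  have h1 : z ∈ ((X φ ![1, 3, 4, 2] ⊔ X φ th : Subgroup (KK F)) : Set (KK F)) := hz
  rw [Subgroup.coe_mul_of_left_le_normalizer_right _ _ hn, Set.mem_mul] at h1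
  obtain ⟨y, hy, t, ht, rfl⟩ := h1
  obtain ⟨r, hr⟩ := conj_pair hF hφ pt0 hy ht
  exact ⟨_, hr⟩

/-- an element of `P_2` of order divisible by seven which commutes with a nontrivial element of `V_2`: the latter is conjugate
into `X_θ` -/
theorem e7_conj
    (T1 : ∃ d0 : KK F, d0 ∈ P φ j2 ∧ orderOf d0 = 7 ∧ ∀ z ∈ V φ j2, d0 * z = z * d0 →
      z ∈ X φ ![1, 3, 4, 2] ⊔ X φ ![2, 3, 4, 2])
    {g z : KK F} (hg : g ∈ P φ j2) (hz : z ∈ V φ j2) (hgz : g * z = z * g)
    (h7 : 7 ∣ orderOf g) : ∃ x, x * z * x⁻¹ ∈ X φ th := by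
  have := Cfsg.Agent.H150.QF.finite_KK (F := F)
  have : Fact (Nat.Prime 7) := ⟨by norm_num⟩
  have R := rgdK hF hφ
  obtain ⟨d0, hd0, ho0, hT⟩ := T1
  have hg0 : orderOf g ≠ 0 := (orderOf_pos g).ne'
  obtain ⟨d, hd⟩ : ∃ d, d = g ^ (orderOf g / 7) := ⟨_, rfl⟩
  have hdo : orderOf d = 7 := by rw [hd]; exact orderOf_pow_orderOf_div hg0 h7
  have hdz : d * z = z * d := by rw [hd]; exact (Commute.pow_left hgz _)
  obtain ⟨p, hp, hpd⟩ := conj7 hF hφ (d := d) (d0 := d0) (by rw [hd]; exact pow_mem hg _) hd0 hdo ho0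
  have hz' : p⁻¹ * z * p ∈ V φ j2 := by
    have := (Subgroup.mem_normalizer_iff.1 (PJ_le_normalizer_VJ R j2 (inv_mem hp)) z).1 hz
    rwa [inv_inv] at this
  have hc : (p⁻¹ * d * p) * (p⁻¹ * z * p) = p⁻¹ * z * p * (p⁻¹ * d * p) := by
    calc p⁻¹ * d * p * (p⁻¹ * z * p) = p⁻¹ * (d * z) * p := by group
      _ = p⁻¹ * (z * d) * p := by rw [hdz]
      _ = _ := by group
  -- `d0` is a power of the conjugate
  have hd0' : d0 ∈ zpowers (p⁻¹ * d * p) := by
    have ho : orderOf (p⁻¹ * d * p) = 7 := by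
      have e : p⁻¹ * d * p = MulAut.conj p⁻¹ d := by rw [MulAut.conj_apply, inv_inv]
      rw [e, ← hdo]
      exact orderOf_injective (MulAut.conj p⁻¹).toMonoidHom (MulAut.conj p⁻¹).injective d
    have h1 : zpowers (p⁻¹ * d * p) ≤ zpowers d0 := by rwa [zpowers_le]
    have h2 : zpowers (p⁻¹ * d * p) = zpowers d0 :=
      Subgroup.eq_of_le_of_card_ge h1 (by rw [Nat.card_zpowers, Nat.card_zpowers, ho, ho0])
    rw [h2]
    exact mem_zpowers d0
  obtain ⟨m, hm⟩ := Subgroup.mem_zpowers_iff.1 hd0'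
  have hc0 : d0 * (p⁻¹ * z * p) = p⁻¹ * z * p * d0 := by
    rw [← hm]
    exact (Commute.zpow_left hc m)
  obtain ⟨x, hx⟩ := exists_conj hF hφ (hT _ hz' hc0)
  refine ⟨x * p⁻¹, ?_⟩
  have e : x * p⁻¹ * z * (x * p⁻¹)⁻¹ = x * (p⁻¹ * z * p) * x⁻¹ := by group
  rw [e]
  exact hx

/-- **E7** from T1 -/
theorem e7_of
    (T1 : ∃ d0 : KK F, d0 ∈ P φ j2 ∧ orderOf d0 = 7 ∧ ∀ z ∈ V φ j2, d0 * z = z * d0 →
      z ∈ X φ ![1, 3, 4, 2] ⊔ X φ ![2, 3, 4, 2])
    {g z : KK F} (hg : g ∈ P φ j2) (hz : z ∈ V φ j2) (hz1 : z ≠ 1) (hgz : g * z = z * g)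
    (h7 : 7 ∣ orderOf g) : CR g := by
  obtain ⟨x, hx⟩ := e7_conj hF hφ T1 hg hz hgz h7
  exact ⟨z, re_of hF hφ hx hz1, hgz⟩

end

end Cfsg.Agent.H461.QF.Seven
end

-- part: H287/F4/Par
section
prune_inst 0x4c0103a244222100000000004a0001c129a0000020048800000000a0006888c000000802000200112100a000000340460111000800200000000000400000000001088000000000008020010000000000000000000000000000000000000000004000000000
set_option linter.all false
open scoped Cfsg.Agent.FastGrp

-- part: H287/F4/Gen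
section
/-!
Root group data: generation of Levi subgroups, orthogonal nodes, parabolic subgroups acting on the points of a block
(S2491, 2E6(2), box PAR).
-/

set_option autoImplicit false
set_option linter.unusedSectionVars false

namespace Cfsg.Agent.H287.F4.Gen

open CoxeterSystem Cfsg.Agent.ChevalleyStructure.CoxeterGeom Cfsg.Agent.Tits.Roots Cfsg.Agent.Tits.Core
  Cfsg.Agent.Tits.RootComb Cfsg.Agent.Nodes Cfsg.Agent.Nodes.Comb Cfsg.Agent.Nodes.Reps Cfsg.Agent.Nodes.BNOf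
  Cfsg.Agent.Nodes.RGDLib Cfsg.Agent.Nodes.Bruhat Cfsg.Agent.Nodes.OppDec Cfsg.Agent.Nodes.LeviDec
  Cfsg.Agent.Nodes.StabComb Cfsg.Agent.Tits.Exchange
open Cfsg.Agent.OddHalf.NI.Mult (KK)
open Cfsg.Agent.Nodes.CenVV (comm_of_btwn)
open Cfsg.Agent.Nodes.ClsPair (eq_of_supp_two)
open scoped commutatorElement

variable {I W Y : Type*} [Fintype I] [DecidableEq I] [Group W] [Group Y] {M : CoxeterMatrix I}
  {cs : CoxeterSystem M W} {A : I → I → ℤ} {h : IsCartan M A} {p : ℕ} {T : Subgroup Y} {n : I → Y}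
  {X : (I → ℤ) → Subgroup Y} (R : RGD cs h p T n X)

include R

theorem n_mem {H : Subgroup Y} (hT : T ≤ H) {i : I} (hp : X (sr i) ≤ H) (hn : X (-sr i) ≤ H) : n i ∈ H := by
  obtain ⟨u, hu, hu1⟩ := exists_ne_one R i
  have h1 : n i * u * (n i)⁻¹ ∈ X (-sr i) := by
    have := R.conj_mem (rp_simple cs R.nsys i) (isRoot_sr cs h i) hu
    rwa [rep_simple_sr] at this
  have h2 : n i * u * (n i)⁻¹ ≠ 1 := by
    intro h3
    exact hu1 (mul_eq_left.1 (mul_inv_eq_one.1 h3))
  obtain ⟨a, ha, t, ht, b, hb, e⟩ := R.rk1 i _ h1 h2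
  have h3 : n i = (a * t)⁻¹ * (n i * u * (n i)⁻¹) * b⁻¹ := by
    conv_rhs => rw [e]
    group
  rw [h3]
  exact mul_mem (mul_mem (inv_mem (mul_mem (hp ha) (hT ht))) (hn h1)) (inv_mem (hp hb))

theorem rp_mem {H : Subgroup Y} (hT : T ≤ H) {J : Set I} (hJ : ∀ i ∈ J, n i ∈ H) {w : W} (hw : w ∈ WJ cs J) :
    ∀ {g : Y}, Rp cs R.nsys w g → g ∈ H := by
  obtain ⟨ω, hω, rfl⟩ := exists_word_of_mem_WJ cs hw
  clear hw
  induction ω with
  | nil =>
    intro g hg
    rw [wordProd_nil] at hg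
    exact hT hg.mem_of_one
  | cons i ω ih =>
    intro g hg
    have hω' : ∀ j ∈ ω, j ∈ J := fun j hj => hω j (by simp [hj])
    rw [wordProd_cons] at hg
    have h1 : Rp cs R.nsys (cs.wordProd ω) ((n i)⁻¹ * g) := by
      have := (rp_simple cs R.nsys i).inv.mul hg
      rwa [inv_mul_cancel_left] at this
    have h2 := ih hω' h1
    have h3 : g = n i * ((n i)⁻¹ * g) := by group
    rw [h3]
    exact mul_mem (hJ i (hω i (by simp))) h2

/-- **Generation of the Levi subgroup by the fundamental root groups.** -/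
theorem LJ_le [Finite W] {H : Subgroup Y} {J : Set I} (hT : T ≤ H) (hp : ∀ i ∈ J, X (sr i) ≤ H)
    (hn : ∀ i ∈ J, X (-sr i) ≤ H) : LJ cs h T X J ≤ H := by
  have hN : ∀ i ∈ J, n i ∈ H := fun i hi => n_mem R hT (hp i hi) (hn i hi)
  refine sup_le hT (RGD.Sup_le fun x hx => ?_)
  obtain ⟨w, hw, j, hj, rfl⟩ := exists_of_mem_RootsJ hx
  obtain ⟨g, hg⟩ := exists_rp cs R.nsys w
  have hgH := rp_mem R hT hN hw hg
  rw [← R.conj_rp hg (isRoot_sr cs h j)]
  intro y hy
  rw [mem_cj] at hy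
  have e : y = g * (g⁻¹ * y * g) * g⁻¹ := by group
  rw [e]
  exact mul_mem (mul_mem hgH (hp j hj hy)) (inv_mem hgH)

/-- root groups of orthogonal nodes commute -/
theorem comm_two [Finite W] {i j : I} (hij : i ≠ j) (h2 : M i j = 2) :
    ∀ a ∈ KK X (sr i), ∀ b ∈ KK X (sr j), a * b = b * a := by
  have key : ∀ x y : I → ℤ, (x = sr i ∨ x = -sr i) → (y = sr j ∨ y = -sr j) → ∀ a ∈ X x, ∀ b ∈ X y, a * b = b * a := by
    intro x y hx hy a ha b hb
    have hxr : IsRoot cs h x := by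
      rcases hx with rfl | rfl
      · exact isRoot_sr cs h i
      · exact (isRoot_sr cs h i).neg
    have hyr : IsRoot cs h y := by
      rcases hy with rfl | rfl
      · exact isRoot_sr cs h j
      · exact (isRoot_sr cs h j).neg
    have hxi : x i ≠ 0 ∧ x j = 0 ∧ ∀ k, k ≠ i → x k = 0 := by
      rcases hx with rfl | rfl <;> simp only [sr, hij.symm, _root_.Pi.single_eq_same, _root_.ne_eq, _root_.one_ne_zero, _root_.not_false_eq_true, _root_.Pi.single_eq_of_ne, _root_.true_and, _root_.Pi.neg_apply, _root_.Int.reduceNeg, _root_.neg_eq_zero, _root_.neg_zero] <;> intro k hk <;> simp [hk]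
    have hyj : y j ≠ 0 ∧ y i = 0 ∧ ∀ k, k ≠ j → y k = 0 := by
      rcases hy with rfl | rfl <;> simp only [sr, hij, _root_.Pi.single_eq_same, _root_.ne_eq, _root_.one_ne_zero, _root_.not_false_eq_true, _root_.Pi.single_eq_of_ne, _root_.true_and, _root_.Pi.neg_apply, _root_.Int.reduceNeg, _root_.neg_eq_zero, _root_.neg_zero] <;> intro k hk <;> simp [hk]
    have : Fintype W := Fintype.ofFinite W
    refine comm_of_btwn R hxr hyr ?_ ?_ ?_ ha hb
    · rintro rfl
      exact hxi.1 hyj.2.1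
    · intro e
      apply hxi.1
      rw [e, Pi.neg_apply, hyj.2.1, neg_zero]
    · rintro w ⟨hw, m, a', b', hm, ha', hb', e⟩
      have hs : Supp i j w := by
        intro k hki hkj
        have := congrFun e k
        simp only [Pi.smul_apply, Pi.add_apply, smul_eq_mul] at this
        rw [hxi.2.2 k hki, hyj.2.2 k hkj] at this
        simp only [mul_zero, add_zero, mul_eq_zero] at this
        exact this.resolve_left hm.ne'
      have h1 : w i ≠ 0 := by
        intro h0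
        have := congrFun e i
        simp only [Pi.smul_apply, Pi.add_apply, smul_eq_mul] at this
        rw [h0, hyj.2.1] at this
        simp only [mul_zero, add_zero, zero_eq_mul] at this
        rcases this with h3 | h3
        · exact ha'.ne' h3
        · exact hxi.1 h3
      have h3 : w j ≠ 0 := by
        intro h0
        have := congrFun e j
        simp only [Pi.smul_apply, Pi.add_apply, smul_eq_mul] at this
        rw [h0, hxi.2.1] at this
        simp only [mul_zero, zero_add, zero_eq_mul] at this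
        rcases this with h3 | h3
        · exact hb'.ne' h3
        · exact hyj.1 h3
      obtain ⟨c, hc, hwc⟩ := eq_of_supp_two hij h2 hw hs
      rcases hc with rfl | rfl
      · apply h3
        rcases hwc with rfl | rfl <;> simp [sr, hij.symm]
      · apply h1
        rcases hwc with rfl | rfl <;> simp [sr, hij]
  intro a ha b hb
  have h1 : KK X (sr i) ≤ Subgroup.centralizer (KK X (sr j) : Set Y) := by
    have h3 : ∀ x, (x = sr i ∨ x = -sr i) → KK X (sr j) ≤ Subgroup.centralizer (X x : Set Y) := by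
      intro x hx
      unfold KK
      refine sup_le ?_ ?_
      · intro y hy
        rw [Subgroup.mem_centralizer_iff]
        exact fun z hz => key x _ hx (Or.inl rfl) z hz y hy
      · intro y hy
        rw [Subgroup.mem_centralizer_iff]
        exact fun z hz => key x _ hx (Or.inr rfl) z hz y hy
    unfold KK
    exact sup_le (Subgroup.le_centralizer_iff.1 (h3 _ (Or.inl rfl))) (Subgroup.le_centralizer_iff.1 (h3 _ (Or.inr rfl)))
  have h3 := h1 ha
  rw [Subgroup.mem_centralizer_iff] at h3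
  exact (h3 b hb).symm

/-! ### Blocks -/

section

variable {J J0 J1 : Set I} {K0 S : Subgroup Y}

/-- `P_J = S K₀ V_J` -/
theorem frame [Finite W] (hJ : ∀ i ∈ J, i ∈ J0 ∨ i ∈ J1) (hT : T ≤ S) (h0 : ∀ i ∈ J0, KK X (sr i) ≤ K0)
    (h1 : ∀ i ∈ J1, KK X (sr i) ≤ S) (hn : S ≤ Subgroup.normalizer (K0 : Set Y)) {g : Y} (hg : g ∈ PJ cs h T X J) :
    ∃ s ∈ S, ∃ k ∈ K0, ∃ v ∈ VJ cs h X J, g = s * k * v := by
  obtain ⟨l, hl, v, hv, rfl⟩ := (mem_PJ R).1 hg
  have h2 : LJ cs h T X J ≤ S ⊔ K0 := by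
    refine LJ_le R (le_trans hT le_sup_left) (fun i hi => ?_) (fun i hi => ?_)
    · rcases hJ i hi with h3 | h3
      · exact le_trans (le_trans le_sup_left (h0 i h3)) le_sup_right
      · exact le_trans (le_trans le_sup_left (h1 i h3)) le_sup_left
    · rcases hJ i hi with h3 | h3
      · exact le_trans (le_trans le_sup_right (h0 i h3)) le_sup_right
      · exact le_trans (le_trans le_sup_right (h1 i h3)) le_sup_left
  have h3 : l ∈ ((S ⊔ K0 : Subgroup Y) : Set Y) := h2 hl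
  rw [Subgroup.coe_mul_of_left_le_normalizer_right _ _ hn, Set.mem_mul] at h3
  obtain ⟨s, hs, k, hk, e⟩ := h3
  exact ⟨s, hs, k, hk, v, hv, by rw [← e]⟩

omit R [Fintype I] [DecidableEq I] [Group W] in
/-- powers of `s ν` -/
theorem pow_sn {N : Subgroup Y} {s ν : Y} (hs : s ∈ Subgroup.normalizer (N : Set Y)) (hν : ν ∈ N) (m : ℕ) :
    ∃ μ ∈ N, (s * ν) ^ m = s ^ m * μ := by
  induction m with
  | zero => exact ⟨1, one_mem _, by rw [pow_zero, pow_zero, mul_one]⟩
  | succ m ih =>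
    obtain ⟨μ, hμ, e⟩ := ih
    refine ⟨s⁻¹ * μ * s * ν, mul_mem ?_ hν, ?_⟩
    · have h1 := (Subgroup.mem_normalizer_iff.1 (inv_mem hs) μ).1 hμ
      rwa [inv_inv] at h1
    · rw [pow_succ, e, pow_succ]
      group

/-- elements of prime order of `K₀ V_J` -/
theorem eq_one_of [Finite W] [hp : Fact p.Prime] (hKL : K0 ≤ LJ cs h T X J) {e : ℕ} (he : ∀ k ∈ K0, k ^ e = 1) {r : ℕ}
    (hr : r.Prime) (hrp : r ≠ p) (hre : ¬ r ∣ e) {x : Y} (hx : x ∈ K0 ⊔ VJ cs h X J) (hxr : x ^ r = 1) : x = 1 := by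
  have hn : K0 ≤ Subgroup.normalizer (VJ cs h X J : Set Y) := le_trans hKL (LJ_le_normalizer_VJ R J)
  have h1 : x ∈ ((K0 ⊔ VJ cs h X J : Subgroup Y) : Set Y) := hx
  rw [Subgroup.coe_mul_of_left_le_normalizer_right _ _ hn, Set.mem_mul] at h1
  obtain ⟨k, hk, v, hv, rfl⟩ := h1
  obtain ⟨μ, hμ, e1⟩ := pow_sn (hn hk) hv e
  rw [he k hk, one_mul] at e1
  have hV : IsPGroup p ↥(VJ cs h X J) := R.isPGroup_of_pos fun x hx => ⟨hx.1, hx.2.1⟩
  obtain ⟨a, ha⟩ := hV ⟨μ, hμ⟩
  have h2 : μ ^ p ^ a = 1 := by simpa only [_root_.SubmonoidClass.mk_pow, _root_.OneMemClass.coe_one] using congrArg Subtype.val ha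
  have h3 : (k * v) ^ (e * p ^ a) = 1 := by rw [pow_mul, e1, h2]
  have h4 : orderOf (k * v) ∣ 1 := by
    have hc : Nat.Coprime r (e * p ^ a) :=
      Nat.Coprime.mul_right ((Nat.Prime.coprime_iff_not_dvd hr).2 hre)
        (Nat.Coprime.pow_right a ((Nat.coprime_primes hr hp.out).2 hrp))
    rw [← hc.gcd_eq_one]
    exact Nat.dvd_gcd (orderOf_dvd_of_pow_eq_one hxr) (orderOf_dvd_of_pow_eq_one h3)
  exact orderOf_eq_one_iff.1 (Nat.dvd_one.1 h4)

end

end Cfsg.Agent.H287.F4.Gen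
end

-- part: H287/F4/Hom
section
/-!
The homomorphism `SL₃(q²) → ²E₆(q)` on the nodes `2, 3` (S2491, 2E6(2), box PAR).

* `exists_pi` : with its values on the transvections of the nodes.
-/

set_option autoImplicit false
set_option linter.unusedSectionVars false

namespace Cfsg.Agent.H287.F4.Hom

open Matrix Subgroup Cfsg Cfsg.Lie Cfsg.Lie.ChevalleyDatum
open Cfsg.Agent.ChevalleyStructure Cfsg.Agent.ChevalleyStructure.Elts Cfsg.Agent.ChevalleyStructure.CoxeterGeom
  Cfsg.Agent.ChevalleyStructure.SL2Rep Cfsg.Agent.ChevalleyStructure.SL2Hom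
open Cfsg.Agent.TitsThree.KExcBase Cfsg.Agent.TitsThree.KExcRT Cfsg.Agent.AGraded
open Cfsg.Agent.H92.ExcSL2 (SL2 ph ph_eq_one ph_commute coe_ph phi_up phi_lo OrthB Orth4 commute_of_up_lo xG_commute
  orderOf_ph thr orderOf_thr wel wel_sq orderOf_wel ph_injective)
open Cfsg.Agent.H254.Fx Cfsg.Agent.H807.Fx
open Cfsg.Agent.H783.ExoX2 Cfsg.Agent.H343 Cfsg.Agent.ETable.Exc
open Cfsg.Agent.H744.Fx.TwE6 (rA sA tA rB sB tB orthAB)
open Cfsg.Agent.Nodes.RGDFoldSL (Fx mem_Fx psi psi_up psi_lo hv)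
open Cfsg.Agent.H231.QS.TwCen (Q2 Q3)
open scoped commutatorElement

universe u

section

variable {K : Type u} [Field K]

/-- the elements of the twisted system -/
noncomputable def xx (φ : K →+* K) (i j : Fin 3) (t : K) : GL chevE6.Idx K :=
  xr inList_E6 rA sA i j t * xr inList_E6 rB sB i j (φ t)

theorem xx_def (φ : K →+* K) (i j : Fin 3) (t : K) : xx φ i j t =
    xG inList_E6 (rA i j) ((sA i j : K) * t) * xG inList_E6 (rB i j) ((sB i j : K) * φ t) := rfl

theorem stein_xx (φ : K →+* K) : SteinRel (xx φ) := by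
  refine stein_mul_twist (stein inList_E6 tA.a tA.b tA.c tA.d) (stein inList_E6 tB.a tB.b tB.c tB.d) ?_ φ
  intro i j k l hij hkl s t
  exact xG_commute inList_E6 (tA.a i j hij) (tB.a k l hkl) (orthAB i j hij k l hkl) _ _

theorem xx01 (φ : K →+* K) (t : K) : xx φ 0 1 t = xG inList_E6 56 t * xG inList_E6 36 (φ t) := by
  rw [xx_def]
  simp [rA, sA, rB, sB]

theorem xx10 (φ : K →+* K) (t : K) : xx φ 1 0 t = xG inList_E6 15 t * xG inList_E6 35 (φ t) := by
  rw [xx_def]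
  simp [rA, sA, rB, sB]

theorem xx12 (φ : K →+* K) (t : K) : xx φ 1 2 t = xG inList_E6 42 (-t) * xG inList_E6 37 (φ (-t)) := by
  rw [xx_def]
  simp only [rA, sA, rB, sB, _root_.Fin.isValue, _root_.Matrix.cons_val', _root_.Matrix.cons_val, _root_.Matrix.cons_val_fin_one, _root_.Matrix.cons_val_one, _root_.Matrix.cons_val_zero, _root_.Int.reduceNeg, _root_.Int.cast_neg, _root_.Int.cast_one, _root_.neg_mul, _root_.one_mul, _root_.map_neg]

theorem xx21 (φ : K →+* K) (t : K) : xx φ 2 1 t = xG inList_E6 29 (-t) * xG inList_E6 34 (φ (-t)) := by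
  rw [xx_def]
  simp [rA, sA, rB, sB]

variable [Fintype K] {φ : K →+* K} {q : ℕ} (hφ : ∀ t, φ t = t ^ q) (hqq : ∀ t : K, (t ^ q) ^ q = t)

theorem coe_Q3 (A : Matrix.SpecialLinearGroup (Fin 2) (Fx φ 2)) : ((Q3 hφ hqq A : ↥(twistedE6 K q)) : GL chevE6.Idx K) =
    _root_.Cfsg.Agent.Nodes.RGDFoldSL.psi inList_E6 K 56 (Matrix.SpecialLinearGroup.map (Fx φ 2).subtype A) *
      _root_.Cfsg.Agent.Nodes.RGDFoldSL.psi inList_E6 K 36 (Matrix.SpecialLinearGroup.map φ (Matrix.SpecialLinearGroup.map (Fx φ 2).subtype A)) := by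
  change _root_.Cfsg.Agent.Nodes.RGDFoldSL.psi inList_E6 K 56 (Matrix.SpecialLinearGroup.map (Fx φ 2).subtype A) *
    (_root_.Cfsg.Agent.Nodes.RGDFoldSL.psi inList_E6 K 36 (Matrix.SpecialLinearGroup.map φ (Matrix.SpecialLinearGroup.map (Fx φ 2).subtype A)) * 1) = _
  rw [mul_one]

theorem coe_Q2 (A : Matrix.SpecialLinearGroup (Fin 2) (Fx φ 2)) : ((Q2 hφ hqq A : ↥(twistedE6 K q)) : GL chevE6.Idx K) =
    _root_.Cfsg.Agent.Nodes.RGDFoldSL.psi inList_E6 K 42 (Matrix.SpecialLinearGroup.map (Fx φ 2).subtype A) *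
      _root_.Cfsg.Agent.Nodes.RGDFoldSL.psi inList_E6 K 37 (Matrix.SpecialLinearGroup.map φ (Matrix.SpecialLinearGroup.map (Fx φ 2).subtype A)) := by
  change _root_.Cfsg.Agent.Nodes.RGDFoldSL.psi inList_E6 K 42 (Matrix.SpecialLinearGroup.map (Fx φ 2).subtype A) *
    (_root_.Cfsg.Agent.Nodes.RGDFoldSL.psi inList_E6 K 37 (Matrix.SpecialLinearGroup.map φ (Matrix.SpecialLinearGroup.map (Fx φ 2).subtype A)) * 1) = _
  rw [mul_one]

include hφ hqq

omit [Fintype K] in
theorem mem_two (t : K) : t ∈ Fx φ 2 := mem_Fx.2 (by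
  change φ (φ t) = t
  rw [hφ, hφ, hqq])

theorem e01 (t : Fx φ 2) : xx φ 0 1 (t : K) = ((Q3 hφ hqq (Cfsg.Agent.OddHalf.NI.Mult.up t) : ↥(twistedE6 K q)) :
    GL chevE6.Idx K) := by
  have e : (Cfsg.Agent.OddHalf.NI.Mult.up t : Matrix.SpecialLinearGroup (Fin 2) (Fx φ 2)) = SL2Hom.up t := rfl
  rw [coe_Q3, e, Cfsg.Agent.Nodes.RGDFoldSL.map_up, Cfsg.Agent.Nodes.RGDFoldSL.map_up, psi_up inList_E6 (by decide),
    psi_up inList_E6 (by decide), xx01]
  rfl

theorem e10 (t : Fx φ 2) : xx φ 1 0 (t : K) = ((Q3 hφ hqq (Cfsg.Agent.OddHalf.NI.Mult.lo t) : ↥(twistedE6 K q)) :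
    GL chevE6.Idx K) := by
  have e : (Cfsg.Agent.OddHalf.NI.Mult.lo t : Matrix.SpecialLinearGroup (Fin 2) (Fx φ 2)) = SL2Hom.lo t := rfl
  rw [coe_Q3, e, Cfsg.Agent.Nodes.RGDFoldSL.map_lo, Cfsg.Agent.Nodes.RGDFoldSL.map_lo, psi_lo inList_E6 (by decide),
    psi_lo inList_E6 (by decide), xx10]
  rfl

theorem e12 (t : Fx φ 2) : xx φ 1 2 (t : K) = ((Q2 hφ hqq (Cfsg.Agent.OddHalf.NI.Mult.up (-t)) : ↥(twistedE6 K q)) :
    GL chevE6.Idx K) := by
  have e : (Cfsg.Agent.OddHalf.NI.Mult.up (-t) : Matrix.SpecialLinearGroup (Fin 2) (Fx φ 2)) = SL2Hom.up (-t) := rfl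
  rw [coe_Q2, e, Cfsg.Agent.Nodes.RGDFoldSL.map_up, Cfsg.Agent.Nodes.RGDFoldSL.map_up, psi_up inList_E6 (by decide),
    psi_up inList_E6 (by decide), xx12]
  rfl

theorem e21 (t : Fx φ 2) : xx φ 2 1 (t : K) = ((Q2 hφ hqq (Cfsg.Agent.OddHalf.NI.Mult.lo (-t)) : ↥(twistedE6 K q)) :
    GL chevE6.Idx K) := by
  have e : (Cfsg.Agent.OddHalf.NI.Mult.lo (-t) : Matrix.SpecialLinearGroup (Fin 2) (Fx φ 2)) = SL2Hom.lo (-t) := rfl
  rw [coe_Q2, e, Cfsg.Agent.Nodes.RGDFoldSL.map_lo, Cfsg.Agent.Nodes.RGDFoldSL.map_lo, psi_lo inList_E6 (by decide),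
    psi_lo inList_E6 (by decide), xx21]
  rfl

theorem xx_mem : ∀ i j, i ≠ j → ∀ t, xx φ i j t ∈ twistedE6 K q := by
  have h01 : ∀ t, xx φ 0 1 t ∈ twistedE6 K q := fun t => by
    have e := e01 hφ hqq ⟨t, mem_two hφ hqq t⟩
    rw [show xx φ 0 1 t = _ from e]
    exact SetLike.coe_mem _
  have h10 : ∀ t, xx φ 1 0 t ∈ twistedE6 K q := fun t => by
    have e := e10 hφ hqq ⟨t, mem_two hφ hqq t⟩
    rw [show xx φ 1 0 t = _ from e]
    exact SetLike.coe_mem _
  have h12 : ∀ t, xx φ 1 2 t ∈ twistedE6 K q := fun t => by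
    have e := e12 hφ hqq ⟨t, mem_two hφ hqq t⟩
    rw [show xx φ 1 2 t = _ from e]
    exact SetLike.coe_mem _
  have h21 : ∀ t, xx φ 2 1 t ∈ twistedE6 K q := fun t => by
    have e := e21 hφ hqq ⟨t, mem_two hφ hqq t⟩
    rw [show xx φ 2 1 t = _ from e]
    exact SetLike.coe_mem _
  have h := stein_xx φ
  have h02 : ∀ t, xx φ 0 2 t ∈ twistedE6 K q := fun t => by
    have e := h.br 0 1 2 (by decide) (by decide) (by decide) t 1
    rw [mul_one, commutatorElement_def] at e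
    rw [← e]
    exact mul_mem (mul_mem (mul_mem (h01 _) (h12 _)) (inv_mem (h01 _))) (inv_mem (h12 _))
  have h20 : ∀ t, xx φ 2 0 t ∈ twistedE6 K q := fun t => by
    have e := h.br 2 1 0 (by decide) (by decide) (by decide) t 1
    rw [mul_one, commutatorElement_def] at e
    rw [← e]
    exact mul_mem (mul_mem (mul_mem (h21 _) (h10 _)) (inv_mem (h21 _))) (inv_mem (h10 _))
  intro i j hij t
  have key : ∀ i j : Fin 3, i ≠ j → (i = 0 ∧ j = 1) ∨ (i = 1 ∧ j = 0) ∨ (i = 1 ∧ j = 2) ∨ (i = 2 ∧ j = 1) ∨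
      (i = 0 ∧ j = 2) ∨ (i = 2 ∧ j = 0) := by decide
  rcases key i j hij with ⟨rfl, rfl⟩ | ⟨rfl, rfl⟩ | ⟨rfl, rfl⟩ | ⟨rfl, rfl⟩ | ⟨rfl, rfl⟩ | ⟨rfl, rfl⟩
  exacts [h01 t, h10 t, h12 t, h21 t, h02 t, h20 t]

/-- **`SL₃(q²) → ²E₆(q)`.** -/
theorem exists_pi : ∃ π : _root_.Matrix.SpecialLinearGroup (Fin 3) K →* ↥(twistedE6 K q),
    (∀ t : Fx φ 2, π (SpecialLinearGroup.transvection (show (0 : Fin 3) ≠ 1 by decide) (t : K)) =
      Q3 hφ hqq (Cfsg.Agent.OddHalf.NI.Mult.up t)) ∧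
    (∀ t : Fx φ 2, π (SpecialLinearGroup.transvection (show (1 : Fin 3) ≠ 0 by decide) (t : K)) =
      Q3 hφ hqq (Cfsg.Agent.OddHalf.NI.Mult.lo t)) ∧
    (∀ t : Fx φ 2, π (SpecialLinearGroup.transvection (show (1 : Fin 3) ≠ 2 by decide) (t : K)) =
      Q2 hφ hqq (Cfsg.Agent.OddHalf.NI.Mult.up (-t))) ∧
    (∀ t : Fx φ 2, π (SpecialLinearGroup.transvection (show (2 : Fin 3) ≠ 1 by decide) (t : K)) =
      Q2 hφ hqq (Cfsg.Agent.OddHalf.NI.Mult.lo (-t))) ∧
    π.ker ≤ Subgroup.center (_root_.Matrix.SpecialLinearGroup (Fin 3) K) := by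
  classical
  obtain ⟨π, hπ, _, hker⟩ := Cfsg.Agent.H120.SLHom.exists_hom (m := 2) le_rfl (stein_xx φ)
  have hmem : ∀ g, π g ∈ twistedE6 K q := by
    intro g
    refine Cfsg.Agent.LieClassical.SLGen.transvection_induction (fun g => π g ∈ twistedE6 K q) ?_ ?_ g
    · intro i j hij c
      rw [hπ i j hij]
      exact xx_mem hφ hqq i j hij c
    · intro A B hA hB
      rw [map_mul]
      exact mul_mem hA hB
  refine ⟨π.codRestrict (twistedE6 K q) hmem, fun t => ?_, fun t => ?_, fun t => ?_, fun t => ?_, ?_⟩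
  · apply Subtype.ext
    rw [← e01 hφ hqq t]
    exact hπ 0 1 (by decide) _
  · apply Subtype.ext
    rw [← e10 hφ hqq t]
    exact hπ 1 0 (by decide) _
  · apply Subtype.ext
    rw [← e12 hφ hqq t]
    exact hπ 1 2 (by decide) _
  · apply Subtype.ext
    rw [← e21 hφ hqq t]
    exact hπ 2 1 (by decide) _
  · intro g hg
    refine hker ⟨0, 1, by decide, 1, ?_⟩ (congrArg Subtype.val hg)
    intro h
    have h1 := e01 hφ hqq 1
    rw [show ((1 : Fx φ 2) : K) = 1 from rfl, h] at h1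
    have h2 : Q3 hφ hqq (Cfsg.Agent.OddHalf.NI.Mult.up 1) = Q3 hφ hqq (Cfsg.Agent.OddHalf.NI.Mult.up 0) := by
      have h3 : Q3 hφ hqq (Cfsg.Agent.OddHalf.NI.Mult.up 1) = 1 := Subtype.ext h1.symm
      have h4 : (Cfsg.Agent.OddHalf.NI.Mult.up (0 : Fx φ 2)) = 1 := by
        apply Subtype.ext
        change !![(1 : Fx φ 2), 0; 0, 1] = 1
        exact Matrix.one_fin_two.symm
      rw [h3, h4, map_one]
    have h5 := Cfsg.Agent.H958.TS.TwCommon.P_up_inj hφ hqq 3 (a := 1) (b := 0) h2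
    exact one_ne_zero h5

end

end Cfsg.Agent.H287.F4.Hom
end

-- part: H287/F4/Mat
section
/-!
Elements of `SL₂(4)`, `SL₃(4)` (S2491, 2E6(2), box PAR).

* `pow_eq_one` : a matrix of determinant 1 with irreducible characteristic polynomial;
* `eig` : eigenvectors; `sl3`, `sl2` : `D` has an eigenvector or an order divisible by 7, 5.
-/

set_option autoImplicit false

namespace Cfsg.Agent.H287.F4.Mat

open Matrix Polynomial

section

variable {K : Type*} [Field K] [Fintype K]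

/-- an irreducible matrix -/
theorem pow_eq_det {n : ℕ} (D : Matrix (Fin n) (Fin n) K) (hirr : Irreducible D.charpoly)
    {N : ℕ} (hN : (Fintype.card K ^ n - 1) / (Fintype.card K - 1) = N) : D ^ N = Matrix.scalar (Fin n) D.det := by
  classical
  have : Fact (Irreducible D.charpoly) := ⟨hirr⟩
  have hm := D.charpoly_monic
  have hne : D.charpoly ≠ 0 := hm.ne_zero
  let pb := AdjoinRoot.powerBasis hne
  have : Module.Finite K (AdjoinRoot D.charpoly) := pb.finite
  have : Finite (AdjoinRoot D.charpoly) := Module.finite_of_finite K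
  have hdim : Module.finrank K (AdjoinRoot D.charpoly) = n := by
    rw [pb.finrank, AdjoinRoot.powerBasis_dim, D.charpoly_natDegree_eq_dim, Fintype.card_fin]
  have hnorm := FiniteField.algebraMap_norm_eq_pow (K := K) (K' := AdjoinRoot D.charpoly)
    (x := AdjoinRoot.root D.charpoly)
  have hgen : pb.gen = AdjoinRoot.root D.charpoly := AdjoinRoot.powerBasis_gen hne
  have hmin : minpoly K (AdjoinRoot.root D.charpoly) = D.charpoly := by
    rw [← AdjoinRoot.powerBasis_gen hne, AdjoinRoot.minpoly_powerBasis_gen_of_monic hm]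
  have h1 : Algebra.norm K (AdjoinRoot.root D.charpoly) = D.det := by
    have h2 := Algebra.PowerBasis.norm_gen_eq_coeff_zero_minpoly pb
    rw [hgen, hmin] at h2
    rw [h2]
    have h3 : pb.dim = n := by
      rw [AdjoinRoot.powerBasis_dim, D.charpoly_natDegree_eq_dim, Fintype.card_fin]
    rw [h3]
    have h4 := D.det_eq_sign_charpoly_coeff
    rw [Fintype.card_fin] at h4
    exact h4.symm
  rw [h1] at hnorm
  have hcard : Nat.card (AdjoinRoot D.charpoly) = Fintype.card K ^ n := by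
    rw [Module.natCard_eq_pow_finrank (K := K), hdim, Nat.card_eq_fintype_card]
  rw [hcard, Nat.card_eq_fintype_card, hN] at hnorm
  have h5 : AdjoinRoot.mk D.charpoly (X ^ N - C D.det) = 0 := by
    rw [map_sub, map_pow, AdjoinRoot.mk_X, ← hnorm, AdjoinRoot.mk_C]
    exact sub_self _
  obtain ⟨Q, hQ⟩ := AdjoinRoot.mk_eq_zero.1 h5
  have h6 := congrArg (Polynomial.aeval D) hQ
  rw [map_mul, D.aeval_self_charpoly, zero_mul, map_sub, map_pow, aeval_X, aeval_C, sub_eq_zero] at h6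
  rw [h6]
  rfl

theorem pow_eq_one {n : ℕ} (D : Matrix (Fin n) (Fin n) K) (hdet : D.det = 1) (hirr : Irreducible D.charpoly)
    {N : ℕ} (hN : (Fintype.card K ^ n - 1) / (Fintype.card K - 1) = N) : D ^ N = 1 := by
  rw [pow_eq_det D hirr hN, hdet, map_one]

end

section

variable {K : Type*} [Field K]

/-- an eigenvector from a singular matrix -/
theorem eig {n : ℕ} {D : Matrix (Fin n) (Fin n) K} {a : K} (h : (D - Matrix.scalar (Fin n) a).det = 0) :
    ∃ v : Fin n → K, v ≠ 0 ∧ D *ᵥ v = a • v := by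
  obtain ⟨v, hv, h1⟩ := Matrix.exists_mulVec_eq_zero_iff.2 h
  refine ⟨v, hv, ?_⟩
  rw [Matrix.sub_mulVec, sub_eq_zero] at h1
  rw [h1]
  ext i
  simp [Matrix.scalar_apply, Matrix.mulVec_diagonal]

theorem eig_of_root {n : ℕ} {D : Matrix (Fin n) (Fin n) K} {a : K} (h : D.charpoly.IsRoot a) :
    ∃ v : Fin n → K, v ≠ 0 ∧ D *ᵥ v = a • v := by
  refine eig ?_
  rw [IsRoot.def, Matrix.eval_charpoly] at h
  have h1 : D - Matrix.scalar (Fin n) a = -(Matrix.scalar (Fin n) a - D) := by abel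
  rw [h1, Matrix.det_neg, h, mul_zero]

variable [Fintype K]

omit [Fintype K] in
/-- no eigenvector: irreducible (dimension 2 or 3) -/
theorem irr {n : ℕ} (h2 : 2 ≤ n) (h3 : n ≤ 3) {D : Matrix (Fin n) (Fin n) K}
    (h : ¬ ∃ (v : Fin n → K) (a : K), v ≠ 0 ∧ D *ᵥ v = a • v) : Irreducible D.charpoly := by
  have hd : D.charpoly.natDegree = n := by rw [D.charpoly_natDegree_eq_dim, Fintype.card_fin]
  rw [Polynomial.irreducible_iff_roots_eq_zero_of_degree_le_three (by rw [hd]; exact h2) (by rw [hd]; exact h3)]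
  rw [Multiset.eq_zero_iff_forall_notMem]
  intro a ha
  rw [Polynomial.mem_roots D.charpoly_monic.ne_zero] at ha
  obtain ⟨v, hv, h1⟩ := eig_of_root ha
  exact h ⟨v, a, hv, h1⟩

theorem exists_omega (hK : Fintype.card K = 4) : (∃ w : K, w * w + w + 1 = 0) ∧ (2 : K) = 0 := by
  have h2 : (2 : K) = 0 := by
    have h1 : ((Fintype.card K : ℕ) : K) = 0 := Nat.cast_card_eq_zero K
    rw [hK] at h1
    have h3 : (2 : K) * 2 = 0 := by
      have : ((4 : ℕ) : K) = 2 * 2 := by norm_num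
      rw [← this]; exact h1
    exact mul_self_eq_zero.1 h3
  refine ⟨?_, h2⟩
  have h1 : ∃ w : K, w ≠ 0 ∧ w ≠ 1 := by
    by_contra hcon
    push Not at hcon
    have h3 : Fintype.card K ≤ 2 := by
      classical
      have : (Finset.univ : Finset K) ⊆ {0, 1} := by
        intro x _
        by_cases hx : x = 0
        · simp only [hx, _root_.Finset.mem_insert, _root_.Finset.mem_singleton, _root_.zero_ne_one, _root_.or_false]
        · simp only [hcon x hx, _root_.Finset.mem_insert, _root_.one_ne_zero, _root_.Finset.mem_singleton, _root_.or_true]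
      calc Fintype.card K = (Finset.univ : Finset K).card := rfl
        _ ≤ ({0, 1} : Finset K).card := Finset.card_le_card this
        _ ≤ 2 := Finset.card_le_two
    omega
  obtain ⟨w, hw, hw1⟩ := h1
  refine ⟨w, ?_⟩
  have h3 := FiniteField.pow_card_sub_one_eq_one w hw
  rw [hK] at h3
  have h4 : (w - 1) * (w * w + w + 1) = 0 := by
    have : (w - 1) * (w * w + w + 1) = w ^ 3 - 1 := by ring
    rw [this, h3, sub_self]
  exact (mul_eq_zero.1 h4).resolve_left (sub_ne_zero.2 hw1)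

/-- an element of order 1 or 3 has an eigenvector -/
theorem eig_three (hK : Fintype.card K = 4) {n : ℕ} (hn : 0 < n) {D : Matrix (Fin n) (Fin n) K} (h : D ^ 3 = 1) :
    ∃ (v : Fin n → K) (a : K), v ≠ 0 ∧ D *ᵥ v = a • v := by
  obtain ⟨⟨w, hw⟩, h2⟩ := exists_omega hK
  have hs : ∀ a : K, Matrix.scalar (Fin n) a * D = D * Matrix.scalar (Fin n) a := fun a =>
    (Matrix.scalar_commute a (fun _ => mul_comm _ _) D).eq
  have h1 : (D - Matrix.scalar (Fin n) 1) * (D - Matrix.scalar (Fin n) w) * (D - Matrix.scalar (Fin n) (w * w)) = 0 := by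
    have e1 : Matrix.scalar (Fin n) (1 : K) = 1 := map_one _
    have e2 : Matrix.scalar (Fin n) w * Matrix.scalar (Fin n) (w * w) = 1 := by
      rw [← map_mul, ← e1]
      congr 1
      have : w * (w * w) - 1 = (w - 1) * (w * w + w + 1) := by ring
      rw [← sub_eq_zero, this, hw, mul_zero]
    have e3 : Matrix.scalar (Fin n) w + Matrix.scalar (Fin n) (w * w) = -1 := by
      rw [← map_add, ← e1, ← map_neg]
      congr 1
      have : w + w * w = (w * w + w + 1) - 1 := by ring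
      rw [this, hw, zero_sub]
    have e4 : (D - Matrix.scalar (Fin n) w) * (D - Matrix.scalar (Fin n) (w * w)) = D * D + D + 1 := by
      rw [sub_mul, mul_sub, mul_sub, e2, hs w]
      have : D * D - D * Matrix.scalar (Fin n) (w * w) - (D * Matrix.scalar (Fin n) w - 1) =
          D * D - D * (Matrix.scalar (Fin n) w + Matrix.scalar (Fin n) (w * w)) + 1 := by
        rw [mul_add]; abel
      rw [this, e3]
      noncomm_ring
    rw [mul_assoc, e4, e1]
    have : (D - 1) * (D * D + D + 1) = D ^ 3 - 1 := by noncomm_ring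
    rw [this, h, sub_self]
  have h3 := congrArg Matrix.det h1
  rw [Matrix.det_mul, Matrix.det_mul] at h3
  have : Nonempty (Fin n) := ⟨⟨0, hn⟩⟩
  rw [Matrix.det_zero] at h3
  rcases mul_eq_zero.1 h3 with h4 | h4
  · rcases mul_eq_zero.1 h4 with h5 | h5
    · obtain ⟨v, hv, h6⟩ := eig h5
      exact ⟨v, _, hv, h6⟩
    · obtain ⟨v, hv, h6⟩ := eig h5
      exact ⟨v, _, hv, h6⟩
  · obtain ⟨v, hv, h6⟩ := eig h4
    exact ⟨v, _, hv, h6⟩

/-- `SL₃(4)` -/
theorem sl3 (hK : Fintype.card K = 4) {D : Matrix (Fin 3) (Fin 3) K} (hD : D.det = 1) :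
    (∃ (v : Fin 3 → K) (a : K), v ≠ 0 ∧ D *ᵥ v = a • v) ∨ (D ^ 21 = 1 ∧ D ^ 3 ≠ 1) := by
  by_cases h : ∃ (v : Fin 3 → K) (a : K), v ≠ 0 ∧ D *ᵥ v = a • v
  · exact Or.inl h
  · refine Or.inr ⟨pow_eq_one D hD (irr (by norm_num) le_rfl h) (by rw [hK]; norm_num), fun h3 => h (eig_three hK (by norm_num) h3)⟩

/-- `GL₂(4)` -/
theorem gl2 (hK : Fintype.card K = 4) {D : Matrix (Fin 2) (Fin 2) K}
    (h : ¬ ∃ (v : Fin 2 → K) (a : K), v ≠ 0 ∧ D *ᵥ v = a • v) : D ^ 5 = Matrix.scalar (Fin 2) D.det :=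
  pow_eq_det D (irr le_rfl (by norm_num) h) (by rw [hK]; norm_num)

end

end Cfsg.Agent.H287.F4.Mat
end

-- part: H287/F4/Fst
section
/-!
Elements of `SL₂(K)`, `SL₃(K)` fixing a point (S2491, 2E6(2), box PAR).

* `exists_fst3`, `exists_fst2`, `conj_fst` : an eigenvector gives a conjugate with first column `(a, 0, 0)`;
* `mem3`, `mem2` : such an element lies in every subgroup containing the generators of the parabolic subgroup.
-/

set_option autoImplicit false

namespace Cfsg.Agent.H287.F4.Fst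

open Matrix
open Cfsg.Agent.H928.Ore.Block (dg3)

variable {K : Type*} [Field K]

theorem exists_fst3 {v : Fin 3 → K} (hv : v ≠ 0) : ∃ E : Matrix.SpecialLinearGroup (Fin 3) K,
    (E : Matrix (Fin 3) (Fin 3) K) *ᵥ (Pi.single 0 1) = v := by
  by_cases h0 : v 0 = 0
  · by_cases h1 : v 1 = 0
    · have h2 : v 2 ≠ 0 := by
        intro h2
        apply hv
        funext i
        fin_cases i
        · exact h0
        · exact h1
        · exact h2
      refine ⟨⟨!![0, 0, (v 2)⁻¹; 0, -1, 0; v 2, 0, 0], ?_⟩, ?_⟩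
      · rw [Matrix.det_fin_three]; simp [h2]
      · rw [Matrix.mulVec_single_one]
        funext i
        (revert i; simp only [Matrix.col, h0, h1, _root_.Fin.forall_fin_succ, Fin.isValue, _root_.Matrix.transpose_apply, _root_.Matrix.of_apply, _root_.Matrix.cons_val', _root_.Matrix.cons_val_zero, _root_.Matrix.cons_val_fin_one, _root_.Matrix.cons_val_succ, _root_.Fin.succ_zero_eq_one, _root_.Fin.succ_one_eq_two, _root_.IsEmpty.forall_iff, _root_.and_self])
    · refine ⟨⟨!![0, -(v 1)⁻¹, 0; v 1, 0, 0; v 2, 0, 1], ?_⟩, ?_⟩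
      · rw [Matrix.det_fin_three]; simp [h1]
      · rw [Matrix.mulVec_single_one]
        funext i
        (revert i; simp only [Matrix.col, h0, _root_.Fin.forall_fin_succ, Fin.isValue, _root_.Matrix.transpose_apply, _root_.Matrix.of_apply, _root_.Matrix.cons_val', _root_.Matrix.cons_val_zero, _root_.Matrix.cons_val_fin_one, _root_.Matrix.cons_val_succ, _root_.Fin.succ_zero_eq_one, _root_.Fin.succ_one_eq_two, _root_.IsEmpty.forall_iff, _root_.and_self])
  · refine ⟨⟨!![v 0, 0, 0; v 1, (v 0)⁻¹, 0; v 2, 0, 1], ?_⟩, ?_⟩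
    · rw [Matrix.det_fin_three]; simp [h0]
    · rw [Matrix.mulVec_single_one]
      funext i
      (revert i; simp only [Matrix.col, _root_.Fin.forall_fin_succ, Fin.isValue, _root_.Matrix.transpose_apply, _root_.Matrix.of_apply, _root_.Matrix.cons_val', _root_.Matrix.cons_val_zero, _root_.Matrix.cons_val_fin_one, _root_.Matrix.cons_val_succ, _root_.Fin.succ_zero_eq_one, _root_.Fin.succ_one_eq_two, _root_.IsEmpty.forall_iff, _root_.and_self])

theorem exists_fst2 {v : Fin 2 → K} (hv : v ≠ 0) : ∃ E : Matrix.SpecialLinearGroup (Fin 2) K,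
    (E : Matrix (Fin 2) (Fin 2) K) *ᵥ (Pi.single 0 1) = v := by
  by_cases h0 : v 0 = 0
  · have h1 : v 1 ≠ 0 := by
      intro h2
      apply hv
      funext i
      fin_cases i
      · exact h0
      · exact h2
    refine ⟨⟨!![0, -(v 1)⁻¹; v 1, 0], ?_⟩, ?_⟩
    · rw [Matrix.det_fin_two]; simp [h1]
    · rw [Matrix.mulVec_single_one]
      funext i
      (revert i; simp only [Matrix.col, h0, _root_.Fin.forall_fin_succ, Fin.isValue, _root_.Matrix.transpose_apply, _root_.Matrix.of_apply, _root_.Matrix.cons_val', _root_.Matrix.cons_val_zero, _root_.Matrix.cons_val_fin_one, _root_.Matrix.cons_val_succ, _root_.Fin.succ_zero_eq_one, _root_.IsEmpty.forall_iff, _root_.and_self])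
  · refine ⟨⟨!![v 0, 0; v 1, (v 0)⁻¹], ?_⟩, ?_⟩
    · rw [Matrix.det_fin_two]; simp [h0]
    · rw [Matrix.mulVec_single_one]
      funext i
      fin_cases i <;> simp [Matrix.col]

theorem conj_fst {n : ℕ} [NeZero n] {D E : Matrix.SpecialLinearGroup (Fin n) K} {v : Fin n → K} {a : K}
    (hE : (E : Matrix (Fin n) (Fin n) K) *ᵥ (Pi.single 0 1) = v) (hD : (D : Matrix (Fin n) (Fin n) K) *ᵥ v = a • v) :
    ∀ i, i ≠ 0 → ((E⁻¹ * D * E : Matrix.SpecialLinearGroup (Fin n) K) : Matrix (Fin n) (Fin n) K) i 0 = 0 := by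
  intro i hi
  have h1 : ((E⁻¹ * D * E : Matrix.SpecialLinearGroup (Fin n) K) : Matrix (Fin n) (Fin n) K) *ᵥ (Pi.single 0 1) =
      a • Pi.single 0 1 := by
    rw [Matrix.SpecialLinearGroup.coe_mul, Matrix.SpecialLinearGroup.coe_mul, ← Matrix.mulVec_mulVec, hE,
      ← Matrix.mulVec_mulVec, hD, Matrix.mulVec_smul, ← hE, Matrix.mulVec_mulVec, ← Matrix.SpecialLinearGroup.coe_mul,
      inv_mul_cancel, Matrix.SpecialLinearGroup.coe_one, Matrix.one_mulVec]
  have h2 := congrFun h1 i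
  rw [Matrix.mulVec_single_one] at h2
  simpa only [Matrix.col, hi, _root_.Matrix.SpecialLinearGroup.coe_mul, _root_.Matrix.SpecialLinearGroup.coe_inv, _root_.Matrix.transpose_apply, _root_.Pi.smul_apply, _root_.ne_eq, _root_.not_false_eq_true, _root_.Pi.single_eq_of_ne, _root_.smul_eq_mul, _root_.MulZeroClass.mul_zero] using h2

/-- the lower block -/
def blk : Matrix.SpecialLinearGroup (Fin 2) K →* Matrix.SpecialLinearGroup (Fin 3) K where
  toFun A := ⟨!![1, 0, 0; 0, A 0 0, A 0 1; 0, A 1 0, A 1 1], by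
    rw [Matrix.det_fin_three]
    have h := A.2
    rw [Matrix.det_fin_two] at h
    simp only [Matrix.of_apply, Matrix.cons_val', Matrix.cons_val_zero, Matrix.cons_val_one, Matrix.cons_val]
    linear_combination h⟩
  map_one' := by
    apply Subtype.ext
    ext i j
    (revert i j; simp only [_root_.Fin.forall_fin_succ, Fin.isValue, _root_.Matrix.SpecialLinearGroup.coe_one, _root_.Matrix.one_apply_eq, _root_.ne_eq, _root_.zero_ne_one, _root_.not_false_eq_true, _root_.Matrix.one_apply_ne, _root_.one_ne_zero, _root_.Matrix.of_apply, _root_.Matrix.cons_val', _root_.Matrix.cons_val_fin_one, _root_.Matrix.cons_val_zero, _root_.Matrix.cons_val_succ, _root_.IsEmpty.forall_iff, _root_.and_true, Nat.reduceAdd, _root_.Fin.succ_zero_eq_one, _root_.Fin.succ_one_eq_two, Fin.reduceEq, _root_.and_self, _root_.Fin.succ_ne_zero, _root_.true_and])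
  map_mul' A B := by
    apply Subtype.ext
    change !![1, 0, 0; 0, (A * B) 0 0, (A * B) 0 1; 0, (A * B) 1 0, (A * B) 1 1] =
      !![1, 0, 0; 0, A 0 0, A 0 1; 0, A 1 0, A 1 1] * !![1, 0, 0; 0, B 0 0, B 0 1; 0, B 1 0, B 1 1]
    ext i j
    (revert i j; simp only [Matrix.mul_apply, Fin.sum_univ_three, Fin.sum_univ_two, _root_.Fin.forall_fin_succ, Fin.isValue, _root_.Matrix.SpecialLinearGroup.coe_mul, _root_.Matrix.of_apply, _root_.Matrix.cons_val', _root_.Matrix.cons_val_fin_one, _root_.Matrix.cons_val_zero, _root_.Matrix.cons_val_one, _root_.Matrix.cons_val, _root_.mul_one, _root_.MulZeroClass.mul_zero, _root_.add_zero, _root_.Matrix.cons_val_succ, _root_.zero_add, _root_.forall_const, _root_.true_and, _root_.MulZeroClass.zero_mul, _root_.and_self, _root_.implies_true])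

theorem mem3 {M : Subgroup (Matrix.SpecialLinearGroup (Fin 3) K)}
    (h01 : ∀ c, Matrix.SpecialLinearGroup.transvection (show (0 : Fin 3) ≠ 1 by decide) c ∈ M)
    (h02 : ∀ c, Matrix.SpecialLinearGroup.transvection (show (0 : Fin 3) ≠ 2 by decide) c ∈ M)
    (h12 : ∀ c, Matrix.SpecialLinearGroup.transvection (show (1 : Fin 3) ≠ 2 by decide) c ∈ M)
    (h21 : ∀ c, Matrix.SpecialLinearGroup.transvection (show (2 : Fin 3) ≠ 1 by decide) c ∈ M)
    (hd : ∀ a : Kˣ, dg3 a 1 ∈ M) {D : Matrix.SpecialLinearGroup (Fin 3) K}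
    (h1 : (D : Matrix (Fin 3) (Fin 3) K) 1 0 = 0) (h2 : (D : Matrix (Fin 3) (Fin 3) K) 2 0 = 0) : D ∈ M := by
  have hb : M.comap blk = ⊤ := Cfsg.Agent.OddHalf.NI.Mult.mem_of_up_lo
    (fun a => by
      rw [Subgroup.mem_comap]
      have e : blk (Cfsg.Agent.OddHalf.NI.Mult.up a) =
          Matrix.SpecialLinearGroup.transvection (show (1 : Fin 3) ≠ 2 by decide) a := by
        apply Subtype.ext
        change !![1, 0, 0; 0, _, _; 0, _, _] = 1 + Matrix.single 1 2 a
        ext i j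
        (revert i j; simp only [Cfsg.Agent.OddHalf.NI.Mult.up, Matrix.single, _root_.Fin.forall_fin_succ, Fin.isValue, _root_.Matrix.of_apply, _root_.Matrix.cons_val', _root_.Matrix.cons_val_zero, _root_.Matrix.cons_val_fin_one, _root_.Matrix.cons_val_one, _root_.Matrix.add_apply, Fin.reduceEq, _root_.and_false, ↓reduceIte, _root_.add_zero, _root_.Matrix.cons_val_succ, _root_.Fin.succ_zero_eq_one, _root_.Fin.succ_one_eq_two, _root_.and_true, _root_.IsEmpty.forall_iff, _root_.Matrix.one_apply_eq, Nat.reduceAdd, _root_.ne_eq, _root_.zero_ne_one, _root_.not_false_eq_true, _root_.Matrix.one_apply_ne, _root_.one_ne_zero, _root_.and_self, _root_.Fin.succ_ne_zero, _root_.zero_add, _root_.true_and])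
      rw [e]
      exact h12 a)
    (fun a => by
      rw [Subgroup.mem_comap]
      have e : blk (Cfsg.Agent.OddHalf.NI.Mult.lo a) =
          Matrix.SpecialLinearGroup.transvection (show (2 : Fin 3) ≠ 1 by decide) a := by
        apply Subtype.ext
        change !![1, 0, 0; 0, _, _; 0, _, _] = 1 + Matrix.single 2 1 a
        ext i j
        (revert i j; simp only [Cfsg.Agent.OddHalf.NI.Mult.lo, Matrix.single, _root_.Fin.forall_fin_succ, Fin.isValue, _root_.Matrix.of_apply, _root_.Matrix.cons_val', _root_.Matrix.cons_val_zero, _root_.Matrix.cons_val_fin_one, _root_.Matrix.cons_val_one, _root_.Matrix.add_apply, _root_.one_ne_zero, _root_.and_false, ↓reduceIte, _root_.add_zero, _root_.Matrix.cons_val_succ, _root_.Fin.succ_zero_eq_one, _root_.and_true, _root_.Fin.succ_one_eq_two, Fin.reduceEq, _root_.IsEmpty.forall_iff, _root_.Matrix.one_apply_eq, Nat.reduceAdd, _root_.ne_eq, _root_.zero_ne_one, _root_.not_false_eq_true, _root_.Matrix.one_apply_ne,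 _root_.and_self, _root_.Fin.succ_ne_zero, _root_.true_and, _root_.zero_add])
      rw [e]
      exact h21 a)
  have hdet := D.2
  rw [Matrix.det_fin_three] at hdet
  have e1 : (D.1 1 0 : K) = 0 := h1
  have e2 : (D.1 2 0 : K) = 0 := h2
  rw [e1, e2] at hdet
  have hdet' : D.1 0 0 * (D.1 1 1 * D.1 2 2 - D.1 1 2 * D.1 2 1) = 1 := by linear_combination hdet
  have ha : D.1 0 0 ≠ 0 := by
    intro h
    rw [h, zero_mul] at hdet'
    exact zero_ne_one hdet'
  obtain ⟨a, ha'⟩ : ∃ a : Kˣ, (a : K) = D.1 0 0 := ⟨Units.mk0 _ ha, rfl⟩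
  obtain ⟨D1, hD1⟩ : ∃ D1 : Matrix.SpecialLinearGroup (Fin 2) K,
      D1 = ⟨!![a * D.1 1 1, a * D.1 1 2; D.1 2 1, D.1 2 2], by
        rw [Matrix.det_fin_two_of, ha']
        linear_combination hdet'⟩ := ⟨_, rfl⟩
  have h3 : blk D1 ∈ M := by
    have : D1 ∈ M.comap blk := by rw [hb]; exact Subgroup.mem_top _
    exact this
  have h4 : D = Matrix.SpecialLinearGroup.transvection (show (0 : Fin 3) ≠ 1 by decide)
      ((a : K) * (D.1 0 1 * D.1 2 2 - D.1 0 2 * D.1 2 1)) *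
      Matrix.SpecialLinearGroup.transvection (show (0 : Fin 3) ≠ 2 by decide)
      ((a : K) * (D.1 0 2 * D.1 1 1 - D.1 0 1 * D.1 1 2)) * dg3 a 1 * blk D1 := by
    apply Subtype.ext
    change D.1 = (1 + Matrix.single 0 1 ((a : K) * (D.1 0 1 * D.1 2 2 - D.1 0 2 * D.1 2 1))) *
      (1 + Matrix.single 0 2 ((a : K) * (D.1 0 2 * D.1 1 1 - D.1 0 1 * D.1 1 2))) *
      Matrix.diagonal ![(a : K), ((a⁻¹ * 1 : Kˣ) : K), ((1⁻¹ : Kˣ) : K)] *
      !![1, 0, 0; 0, D1 0 0, D1 0 1; 0, D1 1 0, D1 1 1]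
    have hai : (a : K)⁻¹ * a = 1 := inv_mul_cancel₀ a.ne_zero
    rw [hD1]
    rw [← ha'] at hdet'
    (refine And.elim (fun cj1 => And.elim fun cj2 => And.elim fun cj3 => And.elim fun cj4 => And.elim fun cj5 => And.elim fun cj6 => And.elim fun cj7 => And.elim fun cj8 cj9 => by ext i j; fin_cases i <;> fin_cases j; exacts [cj1, cj2, cj3, cj4, cj5, cj6, cj7, cj8, cj9]) ?_; simp only [Matrix.mul_apply, Fin.sum_univ_three, Matrix.single, Matrix.diagonal, e1, e2, ha', _root_.Fin.zero_eta, _root_.Fin.isValue, _root_.Nat.succ_eq_add_one, _root_.Nat.reduceAdd, _root_.mul_one, _root_.Units.val_inv_eq_inv_val, _root_.inv_one, _root_.Units.val_one, _root_.Matrix.of_apply, _root_.Matrix.cons_val', _root_.Matrix.cons_val_zero, _root_.Matrix.cons_val_fin_one, _root_.Matrix.cons_val_one, _root_.Matrix.add_apply, _root_.true_and, _root_.Matrix.one_apply_eq, _root_.one_ne_zero, ↓ _root_.reduceIte, _root_.add_zero, _root_.one_mul, _root_.ne_eq,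 _root_.zero_ne_one, _root_.not_false_eq_true, _root_.Matrix.one_apply_ne, _root_.zero_add, _root_.false_and, _root_.Fin.reduceEq, _root_.MulZeroClass.zero_mul, _root_.mul_ite, _root_.MulZeroClass.mul_zero, _root_.Finset.sum_ite_eq', _root_.Finset.mem_univ, _root_.Matrix.cons_val, _root_.Fin.mk_one, _root_.Fin.reduceFinMk, and_self, and_true, true_and] <;> and_intros)
    · rw [← ha']
      linear_combination (-(D.1 0 1)) * hdet' - (a : K) * (D.1 0 1 * D.1 2 2 - D.1 0 2 * D.1 2 1) * D.1 1 1 * hai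
    · rw [← ha']
      linear_combination (-(D.1 0 2)) * hdet' - (a : K) * (D.1 0 1 * D.1 2 2 - D.1 0 2 * D.1 2 1) * D.1 1 2 * hai
    · rw [inv_mul_cancel_left₀ ha]
    · rw [inv_mul_cancel_left₀ ha]
  rw [h4]
  exact mul_mem (mul_mem (mul_mem (h01 _) (h02 _)) (hd a)) h3

/-- the upper block -/
def blu : Matrix.SpecialLinearGroup (Fin 2) K →* Matrix.SpecialLinearGroup (Fin 3) K where
  toFun A := ⟨!![A 0 0, A 0 1, 0; A 1 0, A 1 1, 0; 0, 0, 1], by
    rw [Matrix.det_fin_three]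
    have h := A.2
    rw [Matrix.det_fin_two] at h
    simp only [Matrix.of_apply, Matrix.cons_val', Matrix.cons_val_zero, Matrix.cons_val_one, Matrix.cons_val]
    linear_combination h⟩
  map_one' := by
    apply Subtype.ext
    ext i j
    (revert i j; simp only [_root_.Fin.forall_fin_succ, Fin.isValue, _root_.Matrix.SpecialLinearGroup.coe_one, _root_.Matrix.one_apply_eq, _root_.ne_eq, _root_.zero_ne_one, _root_.not_false_eq_true, _root_.Matrix.one_apply_ne, _root_.one_ne_zero, _root_.Matrix.of_apply, _root_.Matrix.cons_val', _root_.Matrix.cons_val_fin_one, _root_.Matrix.cons_val_zero, _root_.Matrix.cons_val_succ, _root_.IsEmpty.forall_iff, _root_.and_true, Nat.reduceAdd, _root_.Fin.succ_zero_eq_one, _root_.Fin.succ_one_eq_two, Fin.reduceEq, _root_.and_self, _root_.Fin.succ_ne_zero, _root_.true_and])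
  map_mul' A B := by
    apply Subtype.ext
    change !![(A * B) 0 0, (A * B) 0 1, 0; (A * B) 1 0, (A * B) 1 1, 0; 0, 0, 1] =
      !![A 0 0, A 0 1, 0; A 1 0, A 1 1, 0; 0, 0, 1] * !![B 0 0, B 0 1, 0; B 1 0, B 1 1, 0; 0, 0, 1]
    ext i j
    (revert i j; simp only [Matrix.mul_apply, Fin.sum_univ_three, Fin.sum_univ_two, _root_.Fin.forall_fin_succ, Fin.isValue, _root_.Matrix.SpecialLinearGroup.coe_mul, _root_.Matrix.of_apply, _root_.Matrix.cons_val', _root_.Matrix.cons_val_fin_one, _root_.Matrix.cons_val_zero, _root_.Matrix.cons_val_one, _root_.Matrix.cons_val, _root_.MulZeroClass.mul_zero, _root_.add_zero, _root_.Matrix.cons_val_succ, _root_.mul_one, _root_.zero_add, _root_.implies_true, _root_.and_true, _root_.and_self, _root_.MulZeroClass.zero_mul])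

theorem blu_up (a : K) : blu (Cfsg.Agent.OddHalf.NI.Mult.up a) =
    Matrix.SpecialLinearGroup.transvection (show (0 : Fin 3) ≠ 1 by decide) a := by
  apply Subtype.ext
  change !![_, _, 0; _, _, 0; 0, 0, 1] = 1 + Matrix.single 0 1 a
  ext i j
  (revert i j; simp only [Cfsg.Agent.OddHalf.NI.Mult.up, Matrix.single, _root_.Fin.forall_fin_succ, Fin.isValue, _root_.Matrix.of_apply, _root_.Matrix.cons_val', _root_.Matrix.cons_val_zero, _root_.Matrix.cons_val_fin_one, _root_.Matrix.cons_val_one, _root_.Matrix.add_apply, _root_.one_ne_zero, _root_.and_false, ↓reduceIte, _root_.add_zero, _root_.Matrix.cons_val_succ, _root_.Fin.succ_zero_eq_one, _root_.and_true, _root_.Fin.succ_one_eq_two, Fin.reduceEq, _root_.IsEmpty.forall_iff, _root_.Matrix.one_apply_eq, Nat.reduceAdd, _root_.ne_eq, _root_.zero_ne_one, _root_.not_false_eq_true, _root_.Matrix.one_apply_ne, _root_.zero_add, _root_.and_self, _root_.Fin.succ_ne_zero, _root_.true_and])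

theorem blu_lo (a : K) : blu (Cfsg.Agent.OddHalf.NI.Mult.lo a) =
    Matrix.SpecialLinearGroup.transvection (show (1 : Fin 3) ≠ 0 by decide) a := by
  apply Subtype.ext
  change !![_, _, 0; _, _, 0; 0, 0, 1] = 1 + Matrix.single 1 0 a
  ext i j
  (revert i j; simp only [Cfsg.Agent.OddHalf.NI.Mult.lo, Matrix.single, _root_.Fin.forall_fin_succ, Fin.isValue, _root_.Matrix.of_apply, _root_.Matrix.cons_val', _root_.Matrix.cons_val_zero, _root_.Matrix.cons_val_fin_one, _root_.Matrix.cons_val_one, _root_.Matrix.add_apply, _root_.and_true, _root_.Matrix.cons_val_succ, _root_.Fin.succ_zero_eq_one, _root_.zero_ne_one, _root_.and_false, ↓reduceIte, _root_.add_zero, _root_.Fin.succ_one_eq_two, Fin.reduceEq, _root_.IsEmpty.forall_iff, _root_.Matrix.one_apply_eq, _root_.one_ne_zero, Nat.reduceAdd, _root_.ne_eq, _root_.not_false_eq_true, _root_.Matrix.one_apply_ne, _root_.and_self, _root_.Fin.succ_ne_zero, _root_.zero_add, _root_.right_eq_ite_iff])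

/-- block diagonal matrices -/
def mx (B : Matrix (Fin 2) (Fin 2) K) (c : K) : Matrix (Fin 3) (Fin 3) K := !![B 0 0, B 0 1, 0; B 1 0, B 1 1, 0; 0, 0, c]

theorem mx_mul (B B' : Matrix (Fin 2) (Fin 2) K) (c c' : K) : mx B c * mx B' c' = mx (B * B') (c * c') := by
  unfold mx
  ext i j
  (revert i j; simp only [Matrix.mul_apply, Fin.sum_univ_three, Fin.sum_univ_two, _root_.Fin.forall_fin_succ, Fin.isValue, _root_.Matrix.of_apply, _root_.Matrix.cons_val', _root_.Matrix.cons_val_fin_one, _root_.Matrix.cons_val_zero, _root_.Matrix.cons_val_one, _root_.Matrix.cons_val, _root_.MulZeroClass.mul_zero, _root_.add_zero, _root_.Matrix.cons_val_succ, _root_.zero_add, _root_.forall_const, _root_.MulZeroClass.zero_mul, _root_.and_self, _root_.implies_true])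

theorem mx_scalar (b : K) : mx (Matrix.scalar (Fin 2) b) b = Matrix.scalar (Fin 3) b := by
  unfold mx
  ext i j
  (revert i j; simp only [Matrix.scalar_apply, _root_.Fin.forall_fin_succ, Fin.isValue, _root_.Matrix.diagonal_apply_eq, _root_.ne_eq, _root_.zero_ne_one, _root_.not_false_eq_true, _root_.Matrix.diagonal_apply_ne, _root_.one_ne_zero, _root_.Matrix.of_apply, _root_.Matrix.cons_val', _root_.Matrix.cons_val_fin_one, _root_.Matrix.cons_val_zero, _root_.Matrix.cons_val_succ, _root_.Fin.succ_zero_eq_one, _root_.Fin.succ_one_eq_two, _root_.IsEmpty.forall_iff, _root_.and_true, Fin.reduceEq, _root_.and_self, _root_.Fin.succ_ne_zero, _root_.true_and])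

theorem mx_one : mx (1 : Matrix (Fin 2) (Fin 2) K) 1 = 1 := by
  have := mx_scalar (1 : K)
  rwa [map_one, map_one] at this

theorem mx_pow (B : Matrix (Fin 2) (Fin 2) K) (c : K) (n : ℕ) : mx B c ^ n = mx (B ^ n) (c ^ n) := by
  induction n with
  | zero => rw [pow_zero, pow_zero, pow_zero, mx_one]
  | succ n ih => rw [pow_succ, ih, mx_mul, pow_succ, pow_succ]

theorem dg3_blu (a b : Kˣ) (A : Matrix.SpecialLinearGroup (Fin 2) K) :
    ((dg3 a b * blu A : Matrix.SpecialLinearGroup (Fin 3) K) : Matrix (Fin 3) (Fin 3) K) =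
      mx (Matrix.diagonal ![(a : K), (a : K)⁻¹ * b] * (A : Matrix (Fin 2) (Fin 2) K)) (b : K)⁻¹ := by
  change Matrix.diagonal ![(a : K), ((a⁻¹ * b : Kˣ) : K), ((b⁻¹ : Kˣ) : K)] *
      !![A 0 0, A 0 1, 0; A 1 0, A 1 1, 0; 0, 0, 1] = _
  unfold mx
  ext i j
  (revert i j; simp only [_root_.Fin.forall_fin_succ, _root_.Nat.succ_eq_add_one, Nat.reduceAdd, _root_.Units.val_mul, _root_.Units.val_inv_eq_inv_val, Fin.isValue, _root_.Matrix.diagonal_mul, _root_.Matrix.of_apply, _root_.Matrix.cons_val', _root_.Matrix.cons_val_fin_one, _root_.Matrix.cons_val_zero, _root_.Matrix.cons_val_one, _root_.Matrix.cons_val_succ, _root_.forall_const, _root_.MulZeroClass.mul_zero, _root_.and_self, _root_.mul_one, _root_.implies_true])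

/-- generation of `SL₃` -/
theorem gen3 {M : Subgroup (Matrix.SpecialLinearGroup (Fin 3) K)}
    (h01 : ∀ c, Matrix.SpecialLinearGroup.transvection (show (0 : Fin 3) ≠ 1 by decide) c ∈ M)
    (h10 : ∀ c, Matrix.SpecialLinearGroup.transvection (show (1 : Fin 3) ≠ 0 by decide) c ∈ M)
    (h12 : ∀ c, Matrix.SpecialLinearGroup.transvection (show (1 : Fin 3) ≠ 2 by decide) c ∈ M)
    (h21 : ∀ c, Matrix.SpecialLinearGroup.transvection (show (2 : Fin 3) ≠ 1 by decide) c ∈ M) :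
    ∀ D, D ∈ M := by
  have h02 : ∀ c, Matrix.SpecialLinearGroup.transvection (show (0 : Fin 3) ≠ 2 by decide) c ∈ M := by
    intro c
    have e : Matrix.SpecialLinearGroup.transvection (show (0 : Fin 3) ≠ 2 by decide) c =
        Matrix.SpecialLinearGroup.transvection (show (0 : Fin 3) ≠ 1 by decide) c *
        Matrix.SpecialLinearGroup.transvection (show (1 : Fin 3) ≠ 2 by decide) 1 *
        Matrix.SpecialLinearGroup.transvection (show (0 : Fin 3) ≠ 1 by decide) (-c) *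
        Matrix.SpecialLinearGroup.transvection (show (1 : Fin 3) ≠ 2 by decide) (-1) := by
      apply Subtype.ext
      change 1 + Matrix.single 0 2 c = (1 + Matrix.single 0 1 c) * (1 + Matrix.single 1 2 1) *
        (1 + Matrix.single 0 1 (-c)) * (1 + Matrix.single 1 2 (-1))
      ext i j
      (simp only [Cfsg.Agent.Lib.MatLit.p3, Cfsg.Agent.Lib.MatLit.e3]; revert i j; simp only [Cfsg.Agent.Lib.MatLit.one3, Cfsg.Agent.Lib.MatLit.zero3, Cfsg.Agent.Lib.MatLit.ext3]; and_intros) <;> simp only [Matrix.mul_apply, Fin.sum_univ_three, Matrix.single, _root_.Fin.isValue, _root_.Fin.zero_eta, _root_.Matrix.add_apply, _root_.Matrix.one_apply_eq, _root_.Matrix.of_apply, _root_.Fin.reduceEq, _root_.and_false, ↓ _root_.reduceIte, _root_.add_zero, _root_.true_and, _root_.one_ne_zero, _root_.false_and, _root_.one_mul, _root_.ne_eq, _root_.zero_ne_one, _root_.not_false_eq_true, _root_.Matrix.one_apply_ne, _root_.zero_add, _root_.MulZeroClass.zero_mul,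 _root_.MulZeroClass.mul_zero, _root_.mul_one, _root_.neg_add_cancel, _root_.Fin.mk_one, _root_.Nat.reduceAdd, _root_.Fin.reduceFinMk, _root_.and_self, _root_.and_true, _root_.mul_neg, _root_.neg_zero]
    rw [e]
    exact mul_mem (mul_mem (mul_mem (h01 _) (h12 _)) (h01 _)) (h12 _)
  have h20 : ∀ c, Matrix.SpecialLinearGroup.transvection (show (2 : Fin 3) ≠ 0 by decide) c ∈ M := by
    intro c
    have e : Matrix.SpecialLinearGroup.transvection (show (2 : Fin 3) ≠ 0 by decide) c =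
        Matrix.SpecialLinearGroup.transvection (show (2 : Fin 3) ≠ 1 by decide) c *
        Matrix.SpecialLinearGroup.transvection (show (1 : Fin 3) ≠ 0 by decide) 1 *
        Matrix.SpecialLinearGroup.transvection (show (2 : Fin 3) ≠ 1 by decide) (-c) *
        Matrix.SpecialLinearGroup.transvection (show (1 : Fin 3) ≠ 0 by decide) (-1) := by
      apply Subtype.ext
      change 1 + Matrix.single 2 0 c = (1 + Matrix.single 2 1 c) * (1 + Matrix.single 1 0 1) *
        (1 + Matrix.single 2 1 (-c)) * (1 + Matrix.single 1 0 (-1))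
      ext i j
      (simp only [Cfsg.Agent.Lib.MatLit.p3, Cfsg.Agent.Lib.MatLit.e3]; revert i j; simp only [Cfsg.Agent.Lib.MatLit.one3, Cfsg.Agent.Lib.MatLit.zero3, Cfsg.Agent.Lib.MatLit.ext3]; and_intros) <;> simp only [Matrix.mul_apply, Fin.sum_univ_three, Matrix.single, _root_.Fin.isValue, _root_.Fin.zero_eta, _root_.Matrix.add_apply, _root_.Matrix.one_apply_eq, _root_.Matrix.of_apply, _root_.Fin.reduceEq, _root_.and_true, ↓ _root_.reduceIte, _root_.add_zero, _root_.false_and, _root_.one_ne_zero, _root_.one_mul, _root_.ne_eq, _root_.zero_ne_one, _root_.not_false_eq_true, _root_.Matrix.one_apply_ne, _root_.true_and, _root_.MulZeroClass.zero_mul, _root_.mul_one, _root_.zero_add, _root_.mul_neg, _root_.neg_zero, _root_.MulZeroClass.mul_zero, _root_.Fin.mk_one, _root_.Nat.reduceAdd, _root_.and_self, _root_.and_false, _root_.Fin.reduceFinMk, _root_.add_neg_cancel]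
    rw [e]
    exact mul_mem (mul_mem (mul_mem (h21 _) (h10 _)) (h21 _)) (h10 _)
  intro D
  refine Cfsg.Agent.LieClassical.SLGen.transvection_induction (fun D => D ∈ M) ?_ ?_ D
  · intro i j hij c
    have key : ∀ i j : Fin 3, i ≠ j → (i = 0 ∧ j = 1) ∨ (i = 1 ∧ j = 0) ∨ (i = 1 ∧ j = 2) ∨ (i = 2 ∧ j = 1) ∨
      (i = 0 ∧ j = 2) ∨ (i = 2 ∧ j = 0) := by decide
    rcases key i j hij with ⟨rfl, rfl⟩ | ⟨rfl, rfl⟩ | ⟨rfl, rfl⟩ | ⟨rfl, rfl⟩ | ⟨rfl, rfl⟩ | ⟨rfl, rfl⟩
    exacts [h01 c, h10 c, h12 c, h21 c, h02 c, h20 c]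
  · intro A B hA hB
    exact mul_mem hA hB

theorem mem02 {M : Subgroup (Matrix.SpecialLinearGroup (Fin 3) K)}
    (h01 : ∀ c, Matrix.SpecialLinearGroup.transvection (show (0 : Fin 3) ≠ 1 by decide) c ∈ M)
    (h12 : ∀ c, Matrix.SpecialLinearGroup.transvection (show (1 : Fin 3) ≠ 2 by decide) c ∈ M) (c : K) :
    Matrix.SpecialLinearGroup.transvection (show (0 : Fin 3) ≠ 2 by decide) c ∈ M := by
  have e : Matrix.SpecialLinearGroup.transvection (show (0 : Fin 3) ≠ 2 by decide) c =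
      Matrix.SpecialLinearGroup.transvection (show (0 : Fin 3) ≠ 1 by decide) c *
      Matrix.SpecialLinearGroup.transvection (show (1 : Fin 3) ≠ 2 by decide) 1 *
      Matrix.SpecialLinearGroup.transvection (show (0 : Fin 3) ≠ 1 by decide) (-c) *
      Matrix.SpecialLinearGroup.transvection (show (1 : Fin 3) ≠ 2 by decide) (-1) := by
    apply Subtype.ext
    change 1 + Matrix.single 0 2 c = (1 + Matrix.single 0 1 c) * (1 + Matrix.single 1 2 1) *
      (1 + Matrix.single 0 1 (-c)) * (1 + Matrix.single 1 2 (-1))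
    ext i j
    (simp only [Cfsg.Agent.Lib.MatLit.p3, Cfsg.Agent.Lib.MatLit.e3]; revert i j; simp only [Cfsg.Agent.Lib.MatLit.one3, Cfsg.Agent.Lib.MatLit.zero3, Cfsg.Agent.Lib.MatLit.ext3]; and_intros) <;> simp only [Matrix.mul_apply, Fin.sum_univ_three, Matrix.single, _root_.Fin.isValue, _root_.Fin.zero_eta, _root_.Matrix.add_apply, _root_.Matrix.one_apply_eq, _root_.Matrix.of_apply, _root_.Fin.reduceEq, _root_.and_false, ↓ _root_.reduceIte, _root_.add_zero, _root_.true_and, _root_.one_ne_zero, _root_.false_and, _root_.one_mul, _root_.ne_eq, _root_.zero_ne_one, _root_.not_false_eq_true, _root_.Matrix.one_apply_ne, _root_.zero_add, _root_.MulZeroClass.zero_mul, _root_.MulZeroClass.mul_zero, _root_.mul_one, _root_.neg_add_cancel, _root_.Fin.mk_one, _root_.Nat.reduceAdd, _root_.Fin.reduceFinMk, _root_.and_self, _root_.and_true, _root_.mul_neg, _root_.neg_zero]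
  rw [e]
  exact mul_mem (mul_mem (mul_mem (h01 _) (h12 _)) (h01 _)) (h12 _)

/-- the diagonal matrices as a homomorphism -/
theorem dg3_mul (a b a' b' : Kˣ) : dg3 (a * a') (b * b') = dg3 a b * dg3 a' b' := by
  apply Subtype.ext
  change Matrix.diagonal _ = Matrix.diagonal _ * Matrix.diagonal _
  rw [Matrix.diagonal_mul_diagonal]
  congr 1
  funext i
  (revert i; simp only [mul_mul_mul_comm, mul_comm, _root_.Fin.forall_fin_succ, _root_.Nat.succ_eq_add_one, Nat.reduceAdd, _root_.Units.val_mul, _root_.mul_inv_rev, _root_.Units.val_inv_eq_inv_val, Fin.isValue, _root_.Matrix.cons_val_zero, _root_.Matrix.cons_val_succ, _root_.Matrix.cons_val_fin_one, _root_.implies_true, _root_.and_self])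

end Cfsg.Agent.H287.F4.Fst
end

-- part: H287/F4/Blk
section
/-!
`²E₆(2)`: the block `SL₃(4)` on the nodes `2, 3` and the torus (S2491, box PAR).
-/

set_option autoImplicit false
set_option linter.unusedSectionVars false

namespace Cfsg.Agent.H287.F4.Blk

open CoxeterSystem Cfsg.Agent.ChevalleyStructure.CoxeterGeom Cfsg.Agent.Tits.Roots Cfsg.Agent.Tits.Core
  Cfsg.Agent.Nodes Cfsg.Agent.Nodes.Reps Cfsg.Agent.Nodes.BNOf Cfsg.Agent.Nodes.RGDLib Cfsg.Agent.Nodes.Bruhat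
  Cfsg.Agent.Nodes.OppDec Cfsg.Agent.Nodes.LeviDec Cfsg.Agent.Nodes.StabComb
open Cfsg.Lie Subgroup
open Cfsg.Agent.H231.QF
open Cfsg.Agent.Nodes.RGDFoldSL (Fx mem_Fx)
open Cfsg.Agent.H231.QS.TwCen (Q0 Q1 Q2 Q3)
open Cfsg.Agent.OddHalf.NI.Mult (KK up lo dg nn dgHom)
open Cfsg.Agent.H928.Ore.Block (dg3 dg3_eq hel)
open Cfsg.Agent.H164.F4.OutV (charTwo hqq gg_top)
open Cfsg.Agent.H287.F4.Fst

universe u

/-- the group -/
local notation "YY" => Cfsg.Agent.H231.QF.KK

variable {F : Type u} [Field F] [Fintype F] (hF : Fintype.card F = 4) {φ : F →+* F} (hφ : ∀ t, φ t = t ^ 2)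

theorem ne01 : (0 : Fin 3) ≠ 1 := by decide
theorem ne10 : (1 : Fin 3) ≠ 0 := by decide
theorem ne12 : (1 : Fin 3) ≠ 2 := by decide
theorem ne21 : (2 : Fin 3) ≠ 1 := by decide

/-- transvections -/
local notation "tv01" => Matrix.SpecialLinearGroup.transvection ne01
local notation "tv10" => Matrix.SpecialLinearGroup.transvection ne10
local notation "tv12" => Matrix.SpecialLinearGroup.transvection ne12
local notation "tv21" => Matrix.SpecialLinearGroup.transvection ne21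

/-- the data of the block -/
structure Bk (φ : F →+* F) (hφ : ∀ t, φ t = t ^ 2) (hq : ∀ t : F, (t ^ 2) ^ 2 = t)
    (π : Matrix.SpecialLinearGroup (Fin 3) F →* YY F) : Prop where
  p01 : ∀ t : Fx φ 2, π (tv01 (t : F)) = Q3 hφ hq (up t)
  p10 : ∀ t : Fx φ 2, π (tv10 (t : F)) = Q3 hφ hq (lo t)
  p12 : ∀ t : Fx φ 2, π (tv12 (t : F)) = Q2 hφ hq (up (-t))
  p21 : ∀ t : Fx φ 2, π (tv21 (t : F)) = Q2 hφ hq (lo (-t))
  ker : π.ker ≤ center (Matrix.SpecialLinearGroup (Fin 3) F)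

include hF in
theorem exists_bk : ∃ π : Matrix.SpecialLinearGroup (Fin 3) F →* YY F, Bk φ hφ (hqq hF) π := by
  obtain ⟨π, h1, h2, h3, h4, h5⟩ := Cfsg.Agent.H287.F4.Hom.exists_pi hφ (hqq hF)
  exact ⟨π, h1, h2, h3, h4, h5⟩

variable {hq : ∀ t : F, (t ^ 2) ^ 2 = t} {π : Matrix.SpecialLinearGroup (Fin 3) F →* YY F} (B : Bk φ hφ hq π)

include B

theorem tv01_mem (c : F) : π (tv01 c) ∈ X φ (sr 3) := by
  have e := B.p01 ⟨c, Hom.mem_two hφ hq c⟩
  rw [show π (tv01 c) = _ from e]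
  exact (Cfsg.Agent.H958.TS.TwCommon.coordP hφ hq).mem_up 3 _

theorem tv10_mem (c : F) : π (tv10 c) ∈ X φ (-sr 3) := by
  have e := B.p10 ⟨c, Hom.mem_two hφ hq c⟩
  rw [show π (tv10 c) = _ from e]
  exact (Cfsg.Agent.H958.TS.TwCommon.coordP hφ hq).mem_lo 3 _

theorem tv12_mem (c : F) : π (tv12 c) ∈ X φ (sr 2) := by
  have e := B.p12 ⟨c, Hom.mem_two hφ hq c⟩
  rw [show π (tv12 c) = _ from e]
  exact (Cfsg.Agent.H958.TS.TwCommon.coordP hφ hq).mem_up 2 _

theorem tv21_mem (c : F) : π (tv21 c) ∈ X φ (-sr 2) := by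
  have e := B.p21 ⟨c, Hom.mem_two hφ hq c⟩
  rw [show π (tv21 c) = _ from e]
  exact (Cfsg.Agent.H958.TS.TwCommon.coordP hφ hq).mem_lo 2 _

theorem exists_tv01 {x : YY F} (hx : x ∈ X φ (sr 3)) : ∃ c, π (tv01 c) = x := by
  obtain ⟨a, rfl⟩ := (Cfsg.Agent.H958.TS.TwCommon.coordP hφ hq).exists_up (i := 3) hx
  exact ⟨_, B.p01 a⟩

theorem exists_tv10 {x : YY F} (hx : x ∈ X φ (-sr 3)) : ∃ c, π (tv10 c) = x := by
  obtain ⟨a, rfl⟩ := (Cfsg.Agent.H958.TS.TwCommon.coordP hφ hq).exists_lo (i := 3) hx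
  exact ⟨_, B.p10 a⟩

theorem exists_tv12 {x : YY F} (hx : x ∈ X φ (sr 2)) : ∃ c, π (tv12 c) = x := by
  have h1 : ∃ a : Fx φ 2, Q2 hφ hq (up a) = x := (Cfsg.Agent.H958.TS.TwCommon.coordP hφ hq).exists_up (i := 2) hx
  obtain ⟨a, rfl⟩ := h1
  refine ⟨_, (B.p12 (-a)).trans ?_⟩
  rw [neg_neg]

theorem exists_tv21 {x : YY F} (hx : x ∈ X φ (-sr 2)) : ∃ c, π (tv21 c) = x := by
  have h1 : ∃ a : Fx φ 2, Q2 hφ hq (lo a) = x := (Cfsg.Agent.H958.TS.TwCommon.coordP hφ hq).exists_lo (i := 2) hx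
  obtain ⟨a, rfl⟩ := h1
  refine ⟨_, (B.p21 (-a)).trans ?_⟩
  rw [neg_neg]

/-- `hel` of one is trivial -/
theorem dg3_a1 (a : Fˣ) (b : (Fx φ 2)ˣ) (hab : ((b : Fx φ 2) : F) = a) : π (dg3 a 1) = Q3 hφ hq (dg b) := by
  have e1 : (hel (show (1 : Fin 3) ≠ 2 by decide) (1 : Fˣ) : Matrix.SpecialLinearGroup (Fin 3) F) = 1 := by
    unfold hel
    rw [inv_one, Units.val_one]
    have h1 : ∀ c : F, tv12 (-c) = (tv12 c)⁻¹ := fun c => by
      rw [eq_inv_iff_mul_eq_one]
      apply Subtype.ext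
      change (1 + Matrix.single 1 2 (-c)) * (1 + Matrix.single 1 2 c) = 1
      ext i j
      (simp only [Cfsg.Agent.Lib.MatLit.p3, Cfsg.Agent.Lib.MatLit.e3]; revert i j; simp only [Cfsg.Agent.Lib.MatLit.one3, Cfsg.Agent.Lib.MatLit.zero3, Cfsg.Agent.Lib.MatLit.ext3]; and_intros) <;> simp [Matrix.mul_apply, Fin.sum_univ_three, Matrix.single]
    have h2 : ∀ c : F, tv21 (-c) = (tv21 c)⁻¹ := fun c => by
      rw [eq_inv_iff_mul_eq_one]
      apply Subtype.ext
      change (1 + Matrix.single 2 1 (-c)) * (1 + Matrix.single 2 1 c) = 1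
      ext i j
      (simp only [Cfsg.Agent.Lib.MatLit.p3, Cfsg.Agent.Lib.MatLit.e3]; revert i j; simp only [Cfsg.Agent.Lib.MatLit.one3, Cfsg.Agent.Lib.MatLit.zero3, Cfsg.Agent.Lib.MatLit.ext3]; and_intros) <;> simp [Matrix.mul_apply, Fin.sum_univ_three, Matrix.single]
    rw [h1 1]
    have h3 : Matrix.SpecialLinearGroup.transvection (show (1 : Fin 3) ≠ 2 by decide).symm (-(1 : F)) =
        (Matrix.SpecialLinearGroup.transvection (show (1 : Fin 3) ≠ 2 by decide).symm (1 : F))⁻¹ := h2 1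
    rw [h3]
    group
  have e2 : dg3 a 1 = hel (show (0 : Fin 3) ≠ 1 by decide) a := by rw [dg3_eq, e1, mul_one]
  rw [e2]
  unfold hel
  have hb : ((b⁻¹ : (Fx φ 2)ˣ) : Fx φ 2) = ((b : Fx φ 2))⁻¹ := Units.val_inv_eq_inv_val b
  have f1 : π (tv01 (a : F)) = Q3 hφ hq (up (b : Fx φ 2)) := by rw [← hab]; exact B.p01 b
  have f2 : π (Matrix.SpecialLinearGroup.transvection (show (0 : Fin 3) ≠ 1 by decide).symm (-((a⁻¹ : Fˣ) : F))) =
      Q3 hφ hq (lo (-((b⁻¹ : (Fx φ 2)ˣ) : Fx φ 2))) := by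
    have h1 := B.p10 (-((b⁻¹ : (Fx φ 2)ˣ) : Fx φ 2))
    rw [← h1]
    congr 2
    rw [hb, Units.val_inv_eq_inv_val, ← hab]
    rfl
  have f3 : π (tv01 (-1 : F)) = Q3 hφ hq (up (-1)) := B.p01 (-1)
  have f4 : π (Matrix.SpecialLinearGroup.transvection (show (0 : Fin 3) ≠ 1 by decide).symm (1 : F)) =
      Q3 hφ hq (lo 1) := B.p10 1
  rw [map_mul, map_mul, map_mul, map_mul, map_mul, f1, f2, f3, f4, ← map_mul, ← map_mul, ← map_mul, ← map_mul,
    ← map_mul]
  congr 1
  have e5 : (Cfsg.Agent.OddHalf.NI.Mult.wn : Matrix.SpecialLinearGroup (Fin 2) (Fx φ 2)) = nn 1 := rfl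
  rw [Cfsg.Agent.OddHalf.NI.Mult.dg_eq, e5, Cfsg.Agent.OddHalf.NI.Mult.nn_inv, Cfsg.Agent.OddHalf.NI.Mult.nn_eq,
    Cfsg.Agent.OddHalf.NI.Mult.nn_eq]
  have e6 : (((-1 : (Fx φ 2)ˣ)⁻¹ : (Fx φ 2)ˣ) : Fx φ 2) = -1 := by
    rw [Units.val_inv_eq_inv_val, Units.val_neg, Units.val_one, inv_neg, inv_one]
  rw [e6, Units.val_neg, Units.val_one, neg_neg]

theorem dg3_1b (a : Fˣ) (b : (Fx φ 2)ˣ) (hab : ((b : Fx φ 2) : F) = a) (h2 : (2 : F) = 0) :
    π (dg3 1 a) = Q2 hφ hq (dg b) := by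
  have hneg : ∀ t : Fx φ 2, -t = t := fun t => by
    have h3 : (2 : Fx φ 2) = 0 := Subtype.ext h2
    rw [neg_eq_iff_add_eq_zero, ← two_mul, h3, zero_mul]
  have hnegF : ∀ t : F, -t = t := fun t => by
    rw [neg_eq_iff_add_eq_zero, ← two_mul, h2, zero_mul]
  have e1 : (hel (show (0 : Fin 3) ≠ 1 by decide) (1 : Fˣ) : Matrix.SpecialLinearGroup (Fin 3) F) = 1 := by
    unfold hel
    rw [inv_one, Units.val_one]
    have h1 : ∀ c : F, tv01 (-c) = (tv01 c)⁻¹ := fun c => by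
      rw [eq_inv_iff_mul_eq_one]
      apply Subtype.ext
      change (1 + Matrix.single 0 1 (-c)) * (1 + Matrix.single 0 1 c) = 1
      ext i j
      (simp only [Cfsg.Agent.Lib.MatLit.p3, Cfsg.Agent.Lib.MatLit.e3]; revert i j; simp only [Cfsg.Agent.Lib.MatLit.one3, Cfsg.Agent.Lib.MatLit.zero3, Cfsg.Agent.Lib.MatLit.ext3]; and_intros) <;> simp [Matrix.mul_apply, Fin.sum_univ_three, Matrix.single]
    have h2 : ∀ c : F, tv10 (-c) = (tv10 c)⁻¹ := fun c => by
      rw [eq_inv_iff_mul_eq_one]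
      apply Subtype.ext
      change (1 + Matrix.single 1 0 (-c)) * (1 + Matrix.single 1 0 c) = 1
      ext i j
      (simp only [Cfsg.Agent.Lib.MatLit.p3, Cfsg.Agent.Lib.MatLit.e3]; revert i j; simp only [Cfsg.Agent.Lib.MatLit.one3, Cfsg.Agent.Lib.MatLit.zero3, Cfsg.Agent.Lib.MatLit.ext3]; and_intros) <;> simp [Matrix.mul_apply, Fin.sum_univ_three, Matrix.single]
    rw [h1 1]
    have h3 : Matrix.SpecialLinearGroup.transvection (show (0 : Fin 3) ≠ 1 by decide).symm (-(1 : F)) =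
        (Matrix.SpecialLinearGroup.transvection (show (0 : Fin 3) ≠ 1 by decide).symm (1 : F))⁻¹ := h2 1
    rw [h3]
    group
  have e2 : dg3 1 a = hel (show (1 : Fin 3) ≠ 2 by decide) a := by rw [dg3_eq, e1, one_mul]
  rw [e2]
  unfold hel
  have hb : ((b⁻¹ : (Fx φ 2)ˣ) : Fx φ 2) = ((b : Fx φ 2))⁻¹ := Units.val_inv_eq_inv_val b
  have f1 : π (tv12 (a : F)) = Q2 hφ hq (up (b : Fx φ 2)) := by
    rw [← hab, B.p12, hneg]
  have f2 : π (Matrix.SpecialLinearGroup.transvection (show (1 : Fin 3) ≠ 2 by decide).symm (-((a⁻¹ : Fˣ) : F))) =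
      Q2 hφ hq (lo (-((b⁻¹ : (Fx φ 2)ˣ) : Fx φ 2))) := by
    have h1 := B.p21 ((b⁻¹ : (Fx φ 2)ˣ) : Fx φ 2)
    rw [← h1, hnegF]
    congr 2
    rw [hb, Units.val_inv_eq_inv_val, ← hab]
    rfl
  have f3 : π (tv12 (-1 : F)) = Q2 hφ hq (up (-1)) := by
    rw [hnegF]
    exact B.p12 1
  have f4 : π (Matrix.SpecialLinearGroup.transvection (show (1 : Fin 3) ≠ 2 by decide).symm (1 : F)) =
      Q2 hφ hq (lo 1) := by
    have := B.p21 1
    rwa [hneg] at this
  rw [map_mul, map_mul, map_mul, map_mul, map_mul, f1, f2, f3, f4, ← map_mul, ← map_mul, ← map_mul, ← map_mul,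
    ← map_mul]
  congr 1
  have e5 : (Cfsg.Agent.OddHalf.NI.Mult.wn : Matrix.SpecialLinearGroup (Fin 2) (Fx φ 2)) = nn 1 := rfl
  rw [Cfsg.Agent.OddHalf.NI.Mult.dg_eq, e5, Cfsg.Agent.OddHalf.NI.Mult.nn_inv, Cfsg.Agent.OddHalf.NI.Mult.nn_eq,
    Cfsg.Agent.OddHalf.NI.Mult.nn_eq]
  have e6 : (((-1 : (Fx φ 2)ˣ)⁻¹ : (Fx φ 2)ˣ) : Fx φ 2) = -1 := by
    rw [Units.val_inv_eq_inv_val, Units.val_neg, Units.val_one, inv_neg, inv_one]
  rw [e6, Units.val_neg, Units.val_one, neg_neg]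

/-- the diagonal subgroup of `SL₃` -/
def dgH (F : Type u) [Field F] : Fˣ × Fˣ →* Matrix.SpecialLinearGroup (Fin 3) F where
  toFun x := dg3 x.1 x.2
  map_one' := by
    apply Subtype.ext
    change Matrix.diagonal _ = 1
    rw [← Matrix.diagonal_one]
    congr 1
    funext i
    (revert i; simp only [_root_.Fin.forall_fin_succ, _root_.Nat.succ_eq_add_one, Nat.reduceAdd, _root_.Prod.fst_one, _root_.Units.val_one, _root_.inv_one, _root_.Prod.snd_one, _root_.mul_one, Fin.isValue, _root_.Matrix.cons_val_zero, _root_.Matrix.cons_val_succ, _root_.Matrix.cons_val_fin_one, _root_.implies_true, _root_.and_self])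
  map_mul' x y := dg3_mul _ _ _ _

omit B in
include hF hφ in
theorem unit_one (b : (Fx φ 1)ˣ) : b = 1 := by
  have h1 := Cfsg.Agent.H928.Ore.TwFin.card_Fx (by norm_num : 1 < 2) (by rw [hF]; norm_num) hφ
  have h2 : Nat.card (Fx φ 1)ˣ = 1 := by rw [Nat.card_units, h1]
  have := (Nat.card_eq_one_iff_unique.1 h2).1
  exact Subsingleton.elim _ _

include hF in
/-- **The torus.** -/
theorem T_le : RGDTwE6.T F 2 ≤ (dgH F).range.map π := by
  have : CharP F 2 := charTwo hF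
  have : Fact (Nat.Prime 2) := ⟨Nat.prime_two⟩
  have : Finite CoxeterMatrix.F₄.Group :=
    Cfsg.Agent.Nodes.RGDFold.finite_W (hp := RGDTwE6.hp) cs RGDTwE6.isCartan RGDTwE6.foldData
  have h2 : (2 : F) = 0 := (Cfsg.Agent.H287.F4.Mat.exists_omega hF).2
  rw [Cfsg.Agent.OddHalf.NI.Mult.torus (RGDTwE6.rgd cs hφ hq 2) (Cfsg.Agent.H958.TS.TwCommon.coordP hφ hq)
    (RGDTwE6.G1_eq_top cs hφ hq)]
  refine iSup_le fun i => ?_
  rintro _ ⟨t, rfl⟩
  fin_cases i
  · have e : t = 1 := unit_one hF hφ t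
    rw [e, map_one]
    exact one_mem _
  · have e : t = 1 := unit_one hF hφ t
    rw [e, map_one]
    exact one_mem _
  · refine ⟨dg3 1 (Units.map (Fx φ 2).subtype.toMonoidHom t), ⟨(1, _), rfl⟩, ?_⟩
    exact dg3_1b hφ B _ t rfl h2
  · refine ⟨dg3 (Units.map (Fx φ 2).subtype.toMonoidHom t) 1, ⟨(_, 1), rfl⟩, ?_⟩
    exact dg3_a1 hφ B _ t rfl

end Cfsg.Agent.H287.F4.Blk
end

-- part: H287/F4/Par
section
/-!
# `²E₆(2)`: elements commuting with an involution (S2491, row F4, box PAR)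

* `case_j2` : `g ∈ P₂` is conjugate into `P₄` or `7 ∣ orderOf g`;
* `case_j3` : `g ∈ P₃` is conjugate into `P₄` or `5 ∣ orderOf g`;
* `par` : an element commuting with an involution is conjugate into `P₁` or `P₄`, or `5 ∣ orderOf g` or `7 ∣ orderOf g`.
-/

set_option autoImplicit false
set_option linter.unusedSectionVars false

namespace Cfsg.Agent.H287.F4.Par

open CoxeterSystem Cfsg.Agent.ChevalleyStructure.CoxeterGeom Cfsg.Agent.Tits.Roots Cfsg.Agent.Tits.Core
  Cfsg.Agent.Nodes Cfsg.Agent.Nodes.Reps Cfsg.Agent.Nodes.BNOf Cfsg.Agent.Nodes.RGDLib Cfsg.Agent.Nodes.Bruhat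
  Cfsg.Agent.Nodes.OppDec Cfsg.Agent.Nodes.LeviDec Cfsg.Agent.Nodes.StabComb
open Cfsg.Lie Subgroup
open Cfsg.Agent.H231.QF (cs X V Lv P j1 j2 j3 j4 In Out CR Sm)
open Cfsg.Agent.Nodes.RGDFoldSL (Fx mem_Fx)
open Cfsg.Agent.H231.QS.TwCen (Q0 Q1 Q2 Q3)
open Cfsg.Agent.OddHalf.NI.Mult (KK up lo dg nn dgHom)
open Cfsg.Agent.H928.Ore.Block (dg3 dg3_eq hel)
open Cfsg.Agent.H164.F4.OutV (charTwo hqq gg_top)
open Cfsg.Agent.H287.F4.Fst Cfsg.Agent.H287.F4.Blk

universe u

/-- the group -/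
local notation "YY" => Cfsg.Agent.H231.QF.KK

variable {F : Type u} [Field F] [Fintype F] (hF : Fintype.card F = 4) {φ : F →+* F} (hφ : ∀ t, φ t = t ^ 2)

theorem finW : Finite CoxeterMatrix.F₄.Group :=
  Cfsg.Agent.Nodes.RGDFold.finite_W (hp := RGDTwE6.hp) cs RGDTwE6.isCartan RGDTwE6.foldData

include hF hφ

theorem rg : RGD cs RGDTwE6.isCartan 2 (RGDTwE6.T F 2) (RGDTwE6.nn hφ) (X φ) := by
  have : CharP F 2 := charTwo hF
  have : Fact (Nat.Prime 2) := ⟨Nat.prime_two⟩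
  exact RGDTwE6.rgd cs hφ (hqq hF) 2

omit hF hφ [Fintype F] in
theorem X_le_P {i : Fin 4} {J : Set (Fin 4)} : X φ (sr i) ≤ P φ J :=
  le_trans (RGD.X_le_B (isRoot_sr cs RGDTwE6.isCartan i) (sr_nonneg i)) B_le_PJ

omit hF hφ [Fintype F] in
theorem Xn_le_L {i : Fin 4} {J : Set (Fin 4)} (hi : i ∈ J) : KK (X φ) (sr i) ≤ Lv φ J := by
  have hri : sr i ∈ RootsJ cs RGDTwE6.isCartan J := PosJ_subset J (sr_mem_PosJ hi)
  exact sup_le (X_le_LJ hri) (X_le_LJ (RootsJ.neg hri))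

omit hF hφ [Fintype F] in
theorem PJ_mono {J J' : Set (Fin 4)} (hJ : J ⊆ J') : P φ J ≤ P φ J' :=
  sup_le (le_trans (LJ_mono hJ) LJ_le_PJ) (le_trans (VJ_le_B J) B_le_PJ)

omit hF hφ [Fintype F] in
theorem norm_of_comm {K0 : Subgroup (YY F)} {a : YY F} (h : ∀ k ∈ K0, a * k = k * a) :
    a ∈ Subgroup.normalizer (K0 : Set (YY F)) := by
  rw [Subgroup.mem_normalizer_iff]
  intro k
  constructor
  · intro hk
    rw [h k hk, mul_assoc, mul_inv_cancel, mul_one]
    exact hk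
  · intro hk
    have h1 := h _ hk
    have h2 : k = a⁻¹ * (a * k * a⁻¹) * a := by group
    have h3 : a⁻¹ * (a * k * a⁻¹) * a = a * k * a⁻¹ := by
      rw [mul_assoc, ← h1, inv_mul_cancel_left]
    rw [h2, h3]
    exact hk

omit hφ in
theorem card_sl2 (hφ : ∀ t, φ t = t ^ 2) (A : Matrix.SpecialLinearGroup (Fin 2) (Fx φ 1)) : A ^ 6 = 1 := by
  have h1 := Cfsg.Agent.H928.Ore.TwFin.card_Fx (by norm_num : 1 < 2) (by rw [hF]; norm_num) hφ
  have := Fintype.ofFinite (Fx φ 1)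
  have h2 := Cfsg.Agent.ClassicalGeometry.PSL2Basic.card_SL2 (F := Fx φ 1)
  rw [← Nat.card_eq_fintype_card, h1] at h2
  have h3 : Nat.card (Matrix.SpecialLinearGroup (Fin 2) (Fx φ 1)) = 6 := by rw [h2]; norm_num
  rw [← h3]
  exact pow_card_eq_one'

omit hφ in
theorem card_sl3 (hφ : ∀ t, φ t = t ^ 2) (A : Matrix.SpecialLinearGroup (Fin 3) (Fx φ 1)) : A ^ 168 = 1 := by
  have h1 := Cfsg.Agent.H928.Ore.TwFin.card_Fx (by norm_num : 1 < 2) (by rw [hF]; norm_num) hφ
  have := Fintype.ofFinite (Fx φ 1)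
  have h2 := Cfsg.Agent.ClassicalGeometry.PSL2Basic.card_SL2 (F := Fx φ 1)
  rw [← Nat.card_eq_fintype_card, h1] at h2
  have h4 := Cfsg.Agent.H231.QS.Lift.card_three (F := Fx φ 1)
  rw [h2, h1] at h4
  have h3 : Nat.card (Matrix.SpecialLinearGroup (Fin 3) (Fx φ 1)) = 168 := by rw [h4]; norm_num
  rw [← h3]
  exact pow_card_eq_one'

variable {hq : ∀ t : F, (t ^ 2) ^ 2 = t} {π : Matrix.SpecialLinearGroup (Fin 3) F →* YY F}

/-- the preimage of `P₄` -/
theorem mem_P4 (B : Bk φ hφ hq π) {D : Matrix.SpecialLinearGroup (Fin 3) F}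
    (h1 : (D : Matrix (Fin 3) (Fin 3) F) 1 0 = 0) (h2 : (D : Matrix (Fin 3) (Fin 3) F) 2 0 = 0) : π D ∈ P φ j4 := by
  have := finW
  have hT : RGDTwE6.T F 2 ≤ P φ j4 := le_trans T_le_LJ LJ_le_PJ
  have h01 : ∀ c, Matrix.SpecialLinearGroup.transvection ne01 c ∈ (P φ j4).comap π := fun c => X_le_P (tv01_mem hφ B c)
  have h12 : ∀ c, Matrix.SpecialLinearGroup.transvection ne12 c ∈ (P φ j4).comap π := fun c => X_le_P (tv12_mem hφ B c)
  have h21 : ∀ c, Matrix.SpecialLinearGroup.transvection ne21 c ∈ (P φ j4).comap π := fun c =>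
    LJ_le_PJ (Xn_le_L (i := 2) (by decide : (2 : Fin 4) ≠ 3) (le_sup_right (a := X φ (sr 2)) (tv21_mem hφ B c)))
  have hd : ∀ a : Fˣ, dg3 a 1 ∈ (P φ j4).comap π := by
    intro a
    apply hT
    obtain ⟨b, hb⟩ : ∃ b : (Fx φ 2)ˣ, ((b : Fx φ 2) : F) = a :=
      ⟨⟨⟨a, Hom.mem_two hφ hq _⟩, ⟨((a⁻¹ : Fˣ) : F), Hom.mem_two hφ hq _⟩, Subtype.ext (by simp only [_root_.Units.val_inv_eq_inv_val, _root_.MulMemClass.mk_mul_mk, _root_.ne_eq, _root_.Units.ne_zero, _root_.not_false_eq_true, _root_.mul_inv_cancel₀, _root_.OneMemClass.coe_one]), Subtype.ext (by simp only [_root_.Units.val_inv_eq_inv_val, _root_.MulMemClass.mk_mul_mk, _root_.ne_eq, _root_.Units.ne_zero, _root_.not_false_eq_true, _root_.inv_mul_cancel₀, _root_.OneMemClass.coe_one])⟩,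
        rfl⟩
    rw [dg3_a1 hφ B a b hb]
    exact Cfsg.Agent.OddHalf.NI.Mult.dg_mem_T (rg hF hφ) (Cfsg.Agent.H958.TS.TwCommon.coordP hφ hq) 3 b
  exact mem3 h01 (mem02 h01 h12) h12 h21 hd h1 h2

omit hF hφ [Fintype F] in
theorem norm_sup {K0 V0 : Subgroup (YY F)} {a : YY F} (h1 : a ∈ Subgroup.normalizer (K0 : Set (YY F)))
    (h2 : a ∈ Subgroup.normalizer (V0 : Set (YY F))) : a ∈ Subgroup.normalizer ((K0 ⊔ V0 : Subgroup (YY F)) : Set (YY F)) := by
  rw [mem_normalizer_iff_cj] at h1 h2 ⊢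
  rw [cj_sup, h1, h2]

omit hF hφ [Fintype F] in
theorem conj_norm {K0 : Subgroup (YY F)} {a k : YY F} (h1 : a ∈ Subgroup.normalizer (K0 : Set (YY F))) (hk : k ∈ K0) :
    a⁻¹ * k * a ∈ K0 := by
  have h2 := (Subgroup.mem_normalizer_iff.1 (inv_mem h1) k).1 hk
  rwa [inv_inv] at h2

omit hF hφ [Fintype F] in
/-- the conclusion if a point is fixed -/
theorem in_of {J : Set (Fin 4)} {K0 : Subgroup (YY F)} (hK : K0 ≤ P φ j4) {D E : Matrix.SpecialLinearGroup (Fin 3) F}
    (hE1 : π E ∈ Subgroup.normalizer (K0 : Set (YY F))) (hE2 : π E ∈ Subgroup.normalizer (V φ J : Set (YY F)))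
    (h : π (E⁻¹ * D * E) ∈ P φ j4) {k v : YY F} (hk : k ∈ K0) (hv : v ∈ V φ J) : In φ j4 (π D * k * v) := by
  refine ⟨(π E)⁻¹, ?_⟩
  have e : (π E)⁻¹ * (π D * k * v) * ((π E)⁻¹)⁻¹ =
      π (E⁻¹ * D * E) * ((π E)⁻¹ * k * π E) * ((π E)⁻¹ * v * π E) := by
    rw [map_mul, map_mul, map_inv]
    group
  rw [e]
  exact mul_mem (mul_mem h (hK (conj_norm hE1 hk))) (le_trans (VJ_le_B J) B_le_PJ (conj_norm hE2 hv))

/-- powers -/
theorem pow_in {J : Set (Fin 4)} {K0 : Subgroup (YY F)} {D : Matrix.SpecialLinearGroup (Fin 3) F}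
    (hD1 : π D ∈ Subgroup.normalizer (K0 : Set (YY F))) (hD2 : π D ∈ Subgroup.normalizer (V φ J : Set (YY F)))
    {k v : YY F} (hk : k ∈ K0) (hv : v ∈ V φ J) {n : ℕ} (hn : (π D * k * v) ^ n = 1) : π (D ^ n) ∈ K0 ⊔ V φ J := by
  obtain ⟨μ, hμ, e⟩ := Gen.pow_sn (norm_sup hD1 hD2) (mul_mem (mem_sup_left hk) (mem_sup_right hv) : k * v ∈ K0 ⊔ V φ J) n
  rw [← mul_assoc, hn, ← map_pow] at e
  have h1 : π (D ^ n) = μ⁻¹ := eq_inv_of_mul_eq_one_left e.symm
  rw [h1]
  exact inv_mem hμ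

/-- an element of `K₀ V_J` of prime order `r` in the block -/
theorem ker_of {J : Set (Fin 4)} {K0 : Subgroup (YY F)} (hKL : K0 ≤ Lv φ J) {e : ℕ} (he : ∀ k ∈ K0, k ^ e = 1) {r : ℕ}
    (hr : r.Prime) (hr2 : r ≠ 2) (hre : ¬ r ∣ e) {D : Matrix.SpecialLinearGroup (Fin 3) F} (hD : π D ∈ K0 ⊔ V φ J)
    (h1 : D ^ r = 1) : D ∈ π.ker := by
  have := finW
  have : Fact (Nat.Prime 2) := ⟨Nat.prime_two⟩
  exact Gen.eq_one_of (rg hF hφ) hKL he hr hr2 hre hD (by rw [← map_pow, h1, map_one])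

/-- **`P₂`** -/
theorem case_j2 {g : YY F} (hg : g ∈ P φ j2) : In φ j4 g ∨ 7 ∣ orderOf g := by
  obtain ⟨π, B⟩ := exists_bk hF hφ
  have hR := rg hF hφ
  have hfin := finW
  have c02 : ∀ a ∈ KK (X φ) (sr 0), ∀ b ∈ KK (X φ) (sr 2), a * b = b * a := Gen.comm_two hR (by decide) (by decide)
  have c03 : ∀ a ∈ KK (X φ) (sr 0), ∀ b ∈ KK (X φ) (sr 3), a * b = b * a := Gen.comm_two hR (by decide) (by decide)
  have m2 : (2 : Fin 4) ∈ j2 := show (2 : Fin 4) ≠ 1 by decide
  have m3 : (3 : Fin 4) ∈ j2 := show (3 : Fin 4) ≠ 1 by decide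
  have m0 : (0 : Fin 4) ∈ j2 := show (0 : Fin 4) ≠ 1 by decide
  have hS : ∀ D, D ∈ (Subgroup.normalizer (KK (X φ) (sr 0) : Set (YY F))).comap π := gen3
    (fun c => norm_of_comm fun k hk => (c03 k hk _ (mem_sup_left (tv01_mem hφ B c))).symm)
    (fun c => norm_of_comm fun k hk => (c03 k hk _ (mem_sup_right (tv10_mem hφ B c))).symm)
    (fun c => norm_of_comm fun k hk => (c02 k hk _ (mem_sup_left (tv12_mem hφ B c))).symm)
    (fun c => norm_of_comm fun k hk => (c02 k hk _ (mem_sup_right (tv21_mem hφ B c))).symm)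
  have hL : ∀ D, D ∈ (Lv φ j2).comap π := gen3
    (fun c => Xn_le_L m3 (mem_sup_left (tv01_mem hφ B c)))
    (fun c => Xn_le_L m3 (mem_sup_right (tv10_mem hφ B c)))
    (fun c => Xn_le_L m2 (mem_sup_left (tv12_mem hφ B c)))
    (fun c => Xn_le_L m2 (mem_sup_right (tv21_mem hφ B c)))
  have hV : ∀ D, π D ∈ Subgroup.normalizer (V φ j2 : Set (YY F)) := fun D => LJ_le_normalizer_VJ hR j2 (hL D)
  have hT : RGDTwE6.T F 2 ≤ π.range := by
    refine le_trans (T_le hF hφ B) ?_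
    rintro _ ⟨D, -, rfl⟩
    exact ⟨D, rfl⟩
  have h2 : KK (X φ) (sr 2) ≤ π.range := sup_le
    (fun x hx => by obtain ⟨c, hc⟩ := exists_tv12 hφ B hx; exact ⟨_, hc⟩)
    (fun x hx => by obtain ⟨c, hc⟩ := exists_tv21 hφ B hx; exact ⟨_, hc⟩)
  have h3 : KK (X φ) (sr 3) ≤ π.range := sup_le
    (fun x hx => by obtain ⟨c, hc⟩ := exists_tv01 hφ B hx; exact ⟨_, hc⟩)
    (fun x hx => by obtain ⟨c, hc⟩ := exists_tv10 hφ B hx; exact ⟨_, hc⟩)
  obtain ⟨_, ⟨D, rfl⟩, k, hk, v, hv, rfl⟩ := Gen.frame hR (J := j2) (J0 := {0}) (J1 := {2, 3}) (S := π.range)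
    (K0 := KK (X φ) (sr 0)) (fun i hi => (show ∀ i : Fin 4, i ≠ 1 → (i = 0 ∨ (i = 2 ∨ i = 3)) by decide) i hi) hT
    (fun i hi => by rw [Set.mem_singleton_iff.1 hi])
    (fun i hi => by
      rcases hi with rfl | hi
      · exact h2
      · rw [Set.mem_singleton_iff.1 hi]; exact h3)
    (by rintro _ ⟨D, rfl⟩; exact hS D) hg
  rcases Mat.sl3 hF (D := (D : Matrix (Fin 3) (Fin 3) F)) D.2 with ⟨w, a, hw, h⟩ | ⟨h21, h3'⟩
  · left
    obtain ⟨E, hE⟩ := exists_fst3 hw
    have h4 := conj_fst hE h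
    exact in_of (le_trans (Xn_le_L (show (0 : Fin 4) ≠ 3 by decide)) LJ_le_PJ) (hS E) (hV E)
      (mem_P4 hF hφ B (h4 1 (by decide)) (h4 2 (by decide))) hk hv
  · right
    by_contra h7
    have e21 : D ^ 21 = 1 := Subtype.ext (by rw [Matrix.SpecialLinearGroup.coe_pow]; exact h21)
    have e3 : D ^ 3 ≠ 1 := fun h => h3' (by
      have := congrArg (Subtype.val) h
      rw [Matrix.SpecialLinearGroup.coe_pow] at this
      exact this)
    have h5 := pow_in hF hφ (hS D) (hV D) hk hv (pow_orderOf_eq_one (π D * k * v))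
    obtain ⟨n, hn⟩ : ∃ n, n = orderOf (π D * k * v) := ⟨_, rfl⟩
    rw [← hn] at h5 h7
    have h6 : π (D ^ (n * 3)) ∈ KK (X φ) (sr 0) ⊔ V φ j2 := by
      rw [pow_mul, map_pow]
      exact pow_mem h5 3
    have h8 : (D ^ (n * 3)) ^ 7 = 1 := by
      rw [← pow_mul, show n * 3 * 7 = 21 * n by ring, pow_mul, e21, one_pow]
    have he : ∀ k ∈ KK (X φ) (sr 0), k ^ 6 = 1 := by
      intro k hk
      obtain ⟨A, rfl⟩ := (Cfsg.Agent.H958.TS.TwCommon.coordP hφ (hqq hF)).KK_le_range 0 hk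
      have h9 : A ^ 6 = 1 := card_sl2 hF hφ A
      rw [← map_pow, h9, map_one]
    have h9 := B.ker (ker_of hF hφ (Xn_le_L m0) he (by norm_num : Nat.Prime 7) (by norm_num) (by norm_num) h6 h8)
    obtain ⟨c, hc, h10⟩ := (Matrix.SpecialLinearGroup.mem_center_iff).1 h9
    have h11 : (D ^ (n * 3)) ^ 3 = 1 := by
      apply Subtype.ext
      rw [Matrix.SpecialLinearGroup.coe_pow, ← h10, ← map_pow, show (c ^ 3) = 1 from hc, map_one]
      rfl
    apply e3
    have hcop : Nat.Coprime n 7 := ((Nat.Prime.coprime_iff_not_dvd (by norm_num)).2 h7).symm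
    have h12 : orderOf (D ^ 3) ∣ 1 := by
      have g1 : (D ^ 3) ^ (n * 3) = 1 := by rw [← pow_mul, mul_comm, pow_mul]; exact h11
      have g2 : (D ^ 3) ^ 7 = 1 := by rw [← pow_mul]; exact e21
      rw [← (Nat.Coprime.mul_left hcop (by norm_num : Nat.Coprime 3 7)).gcd_eq_one]
      exact Nat.dvd_gcd (orderOf_dvd_of_pow_eq_one g1) (orderOf_dvd_of_pow_eq_one g2)
    exact orderOf_eq_one_iff.1 (Nat.dvd_one.1 h12)

/-- the long block -/
theorem long_pow {k : YY F} (hk : k ∈ KK (X φ) (sr 0) ⊔ KK (X φ) (sr 1)) : k ^ 168 = 1 := by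
  obtain ⟨P, hP⟩ := Cfsg.Agent.H162.GaussExcMain.exists_hom_D RGDTwE6.hp (K := F) (ε := 1) (by norm_num)
    Cfsg.Agent.H162.GaussExcMain.rt6.1 Cfsg.Agent.H162.GaussExcMain.rt6.2.1 Cfsg.Agent.H162.GaussExcMain.rt6.2.2.1
    Cfsg.Agent.H162.GaussExcMain.rt6.2.2.2
  obtain ⟨f, hf⟩ := Cfsg.Agent.H928.Ore.TwF.exists_f hφ (hqq hF) hP
  have h1 : ∀ {z : Fin 4 → ℤ}, IsRoot cs RGDTwE6.isCartan z →
      (∀ k, k ∉ Cfsg.Agent.H928.Ore.TwE.JR → z k = 0) → X φ z ≤ f.range := by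
    intro z hz h2 x hx
    obtain ⟨a, b, hab, -, -, h3⟩ := Cfsg.Agent.H928.Ore.TwF.X_eq_f hφ (hqq hF) hP hf cs hz h2
    obtain ⟨c, rfl⟩ := h3 x hx
    exact ⟨_, rfl⟩
  have h2 : ∀ i : Fin 4, (i = 0 ∨ i = 1) → KK (X φ) (sr i) ≤ f.range := by
    intro i hi
    have h3 : ∀ k, k ∉ Cfsg.Agent.H928.Ore.TwE.JR → (sr i : Fin 4 → ℤ) k = 0 := by
      intro k hk
      have h4 : k ≠ i := by rintro rfl; exact hk hi
      simp [sr, h4]
    refine sup_le (h1 (isRoot_sr cs RGDTwE6.isCartan i) h3) (h1 (isRoot_sr cs RGDTwE6.isCartan i).neg fun k hk => ?_)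
    rw [Pi.neg_apply, h3 k hk, neg_zero]
  obtain ⟨A, rfl⟩ := (sup_le (h2 0 (Or.inl rfl)) (h2 1 (Or.inr rfl))) hk
  rw [← map_pow, card_sl3 hF hφ A, map_one]

/-- **`P₃`** -/
theorem case_j3 {g : YY F} (hg : g ∈ P φ j3) : In φ j4 g ∨ 5 ∣ orderOf g := by
  obtain ⟨π, B⟩ := exists_bk hF hφ
  have hR := rg hF hφ
  have hfin := finW
  have c03 : ∀ a ∈ KK (X φ) (sr 0), ∀ b ∈ KK (X φ) (sr 3), a * b = b * a := Gen.comm_two hR (by decide) (by decide)
  have c13 : ∀ a ∈ KK (X φ) (sr 1), ∀ b ∈ KK (X φ) (sr 3), a * b = b * a := Gen.comm_two hR (by decide) (by decide)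
  have m0 : (0 : Fin 4) ∈ j3 := show (0 : Fin 4) ≠ 2 by decide
  have m1 : (1 : Fin 4) ∈ j3 := show (1 : Fin 4) ≠ 2 by decide
  have m3 : (3 : Fin 4) ∈ j3 := show (3 : Fin 4) ≠ 2 by decide
  have hTn : ∀ i : Fin 4, RGDTwE6.T F 2 ≤ Subgroup.normalizer (KK (X φ) (sr i) : Set (YY F)) := by
    intro i t ht
    have h1 := isRoot_sr cs RGDTwE6.isCartan i
    exact norm_sup (mem_normalizer_iff_cj.2 (hR.tor _ h1 t ht)) (mem_normalizer_iff_cj.2 (hR.tor _ h1.neg t ht))
  have h3n : ∀ a ∈ KK (X φ) (sr 3), a ∈ Subgroup.normalizer ((KK (X φ) (sr 0) ⊔ KK (X φ) (sr 1) : Subgroup (YY F)) : Set (YY F)) :=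
    fun a ha => norm_sup (norm_of_comm fun k hk => (c03 k hk a ha).symm) (norm_of_comm fun k hk => (c13 k hk a ha).symm)
  have hSn : (RGDTwE6.T F 2 ⊔ KK (X φ) (sr 3) : Subgroup (YY F)) ≤
      Subgroup.normalizer ((KK (X φ) (sr 0) ⊔ KK (X φ) (sr 1) : Subgroup (YY F)) : Set (YY F)) :=
    sup_le (fun t ht => norm_sup (hTn 0 ht) (hTn 1 ht)) h3n
  have hSL : (RGDTwE6.T F 2 ⊔ KK (X φ) (sr 3) : Subgroup (YY F)) ≤ Lv φ j3 := sup_le T_le_LJ (Xn_le_L m3)
  have hKL : (KK (X φ) (sr 0) ⊔ KK (X φ) (sr 1) : Subgroup (YY F)) ≤ Lv φ j3 := sup_le (Xn_le_L m0) (Xn_le_L m1)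
  have hb3 : ∀ A : Matrix.SpecialLinearGroup (Fin 2) F, A ∈ (KK (X φ) (sr 3)).comap (π.comp blu) := by
    have h1 : (KK (X φ) (sr 3)).comap (π.comp blu) = ⊤ := Cfsg.Agent.OddHalf.NI.Mult.mem_of_up_lo
      (fun a => by
        rw [Subgroup.mem_comap, MonoidHom.comp_apply, blu_up]
        exact mem_sup_left (tv01_mem hφ B a))
      (fun a => by
        rw [Subgroup.mem_comap, MonoidHom.comp_apply, blu_lo]
        exact mem_sup_right (tv10_mem hφ B a))
    intro A
    rw [h1]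
    exact mem_top A
  have hex3 : KK (X φ) (sr 3) ≤ (π.comp blu).range := sup_le
    (fun x hx => by
      obtain ⟨c, hc⟩ := exists_tv01 hφ B hx
      refine ⟨Cfsg.Agent.OddHalf.NI.Mult.up c, ?_⟩
      change π (blu _) = x
      rw [blu_up]
      exact hc)
    (fun x hx => by
      obtain ⟨c, hc⟩ := exists_tv10 hφ B hx
      refine ⟨Cfsg.Agent.OddHalf.NI.Mult.lo c, ?_⟩
      change π (blu _) = x
      rw [blu_lo]
      exact hc)
  obtain ⟨s, hs, k, hk, v, hv, rfl⟩ := Gen.frame hR (J := j3) (J0 := {0, 1}) (J1 := {3})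
    (S := RGDTwE6.T F 2 ⊔ KK (X φ) (sr 3)) (K0 := KK (X φ) (sr 0) ⊔ KK (X φ) (sr 1))
    (fun i hi => (show ∀ i : Fin 4, i ≠ 2 → ((i = 0 ∨ i = 1) ∨ i = 3) by decide) i hi) le_sup_left
    (fun i hi => by
      rcases hi with rfl | hi
      · exact le_sup_left
      · rw [Set.mem_singleton_iff.1 hi]; exact le_sup_right)
    (fun i hi => by rw [Set.mem_singleton_iff.1 hi]; exact le_sup_right) hSn hg
  obtain ⟨a, b, A, rfl⟩ : ∃ (a b : Fˣ) (A : Matrix.SpecialLinearGroup (Fin 2) F), π (dg3 a b * blu A) = s := by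
    have h1 : s ∈ ((RGDTwE6.T F 2 ⊔ KK (X φ) (sr 3) : Subgroup (YY F)) : Set (YY F)) := hs
    rw [Subgroup.coe_mul_of_left_le_normalizer_right _ _ (hTn 3), Set.mem_mul] at h1
    obtain ⟨t, ht, x, hx, rfl⟩ := h1
    obtain ⟨_, ⟨⟨a, b⟩, rfl⟩, e1⟩ := T_le hF hφ B ht
    obtain ⟨A, e2⟩ := hex3 hx
    refine ⟨a, b, A, ?_⟩
    rw [map_mul]
    exact congrArg₂ (· * ·) e1 e2
  obtain ⟨D, hD⟩ : ∃ D, D = dg3 a b * blu A := ⟨_, rfl⟩
  rw [← hD] at hs ⊢
  have hmx : (D : Matrix (Fin 3) (Fin 3) F) =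
      mx (Matrix.diagonal ![(a : F), (a : F)⁻¹ * b] * (A : Matrix (Fin 2) (Fin 2) F)) (b : F)⁻¹ := by
    rw [hD]; exact dg3_blu a b A
  obtain ⟨B', hB'⟩ : ∃ B', B' = Matrix.diagonal ![(a : F), (a : F)⁻¹ * b] * (A : Matrix (Fin 2) (Fin 2) F) := ⟨_, rfl⟩
  rw [← hB'] at hmx
  have hdet : B'.det = b := by
    rw [hB', Matrix.det_mul, A.2, Matrix.det_diagonal, Fin.prod_univ_two]
    simp
  by_cases hv2 : ∃ (w : Fin 2 → F) (c : F), w ≠ 0 ∧ B'.mulVec w = c • w
  · left
    obtain ⟨w, c, hw, e⟩ := hv2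
    obtain ⟨E, hE⟩ := exists_fst2 hw
    have hE3 : ((blu E : Matrix.SpecialLinearGroup (Fin 3) F) : Matrix (Fin 3) (Fin 3) F).mulVec (Pi.single 0 1) =
        ![w 0, w 1, 0] := by
      have g0 := congrFun hE 0
      have g1 := congrFun hE 1
      change (!![E 0 0, E 0 1, 0; E 1 0, E 1 1, 0; 0, 0, 1] : Matrix (Fin 3) (Fin 3) F).mulVec _ = _
      simp only [Matrix.mulVec, dotProduct, Fin.sum_univ_two, _root_.Fin.isValue, _root_.Pi.single_eq_same, _root_.mul_one, _root_.ne_eq, _root_.one_ne_zero, _root_.not_false_eq_true, _root_.Pi.single_eq_of_ne, _root_.MulZeroClass.mul_zero, _root_.add_zero] at g0 g1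
      funext i
      (revert i; simp only [Matrix.mulVec, dotProduct, Fin.sum_univ_three, g0, g1, _root_.Fin.forall_fin_succ, Fin.isValue, _root_.Matrix.of_apply, _root_.Matrix.cons_val', _root_.Matrix.cons_val_fin_one, _root_.Matrix.cons_val_zero, _root_.Pi.single_eq_same, _root_.mul_one, _root_.Matrix.cons_val_one, _root_.ne_eq, _root_.one_ne_zero, _root_.not_false_eq_true, _root_.Pi.single_eq_of_ne, _root_.MulZeroClass.mul_zero, _root_.add_zero, _root_.Matrix.cons_val, Fin.reduceEq, _root_.Nat.succ_eq_add_one, Nat.reduceAdd, _root_.Matrix.cons_val_succ, _root_.implies_true, _root_.and_self])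
    have hDE : (D : Matrix (Fin 3) (Fin 3) F).mulVec ![w 0, w 1, 0] = c • ![w 0, w 1, 0] := by
      have g0 := congrFun e 0
      have g1 := congrFun e 1
      rw [hmx]
      simp only [Matrix.mulVec, dotProduct, Fin.sum_univ_two, _root_.Nat.succ_eq_add_one, _root_.Nat.reduceAdd, _root_.Fin.isValue, _root_.Pi.smul_apply, _root_.smul_eq_mul] at g0 g1
      funext i
      (revert i; simp only [mx, Matrix.mulVec, dotProduct, Fin.sum_univ_three, g0, g1, _root_.Fin.forall_fin_succ, Fin.isValue, _root_.Matrix.of_apply, _root_.Matrix.cons_val', _root_.Matrix.cons_val_fin_one, _root_.Matrix.cons_val_zero, _root_.Matrix.cons_val_one, _root_.Matrix.cons_val, _root_.MulZeroClass.mul_zero, _root_.add_zero, _root_.Nat.succ_eq_add_one, Nat.reduceAdd, _root_.Pi.smul_apply, _root_.smul_eq_mul, _root_.Matrix.cons_val_succ, _root_.MulZeroClass.zero_mul, _root_.implies_true, _root_.and_self])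
    have h4 := conj_fst hE3 hDE
    have hE4 : π (blu E) ∈ KK (X φ) (sr 3) := hb3 E
    exact in_of (K0 := KK (X φ) (sr 0) ⊔ KK (X φ) (sr 1))
      (sup_le (le_trans (Xn_le_L (show (0 : Fin 4) ≠ 3 by decide)) LJ_le_PJ)
        (le_trans (Xn_le_L (show (1 : Fin 4) ≠ 3 by decide)) LJ_le_PJ)) (h3n _ hE4)
      (LJ_le_normalizer_VJ hR j3 (hSL (mem_sup_right hE4)))
      (mem_P4 hF hφ B (h4 1 (by decide)) (h4 2 (by decide))) hk hv
  · right
    by_contra h5
    have hb3' : (b : F) ^ 3 = 1 := by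
      have := FiniteField.pow_card_sub_one_eq_one (b : F) b.ne_zero
      rwa [hF] at this
    have hb0 : (b : F) ≠ 0 := b.ne_zero
    have e5 : ((D ^ 5 : Matrix.SpecialLinearGroup (Fin 3) F) : Matrix (Fin 3) (Fin 3) F) = Matrix.scalar (Fin 3) (b : F) := by
      rw [Matrix.SpecialLinearGroup.coe_pow, hmx, mx_pow, Mat.gl2 hF hv2, hdet, ← mx_scalar]
      congr 1
      have e6 : (b : F) * (b : F) ^ 5 = 1 := by
        rw [← pow_succ', show 5 + 1 = 3 * 2 by norm_num, pow_mul, hb3', one_pow]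
      rw [inv_pow]
      exact (eq_inv_of_mul_eq_one_left e6).symm
    have e15 : D ^ 15 = 1 := by
      apply Subtype.ext
      rw [show 15 = 5 * 3 by norm_num, pow_mul, Matrix.SpecialLinearGroup.coe_pow, e5, ← map_pow, hb3', map_one]
      rfl
    have hDn1 := hSn hs
    have hDn2 := LJ_le_normalizer_VJ hR j3 (hSL hs)
    have h6 := pow_in hF hφ hDn1 hDn2 hk hv (pow_orderOf_eq_one (π D * k * v))
    obtain ⟨n, hn⟩ : ∃ n, n = orderOf (π D * k * v) := ⟨_, rfl⟩
    rw [← hn] at h5 h6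
    have h7 : π (D ^ (n * 3)) ∈ (KK (X φ) (sr 0) ⊔ KK (X φ) (sr 1)) ⊔ V φ j3 := by
      rw [pow_mul, map_pow]
      exact pow_mem h6 3
    have h8 : (D ^ (n * 3)) ^ 5 = 1 := by
      rw [← pow_mul, show n * 3 * 5 = 15 * n by ring, pow_mul, e15, one_pow]
    have h9 := B.ker (ker_of hF hφ hKL (fun k hk => long_pow hF hφ hk) (by norm_num : Nat.Prime 5) (by norm_num)
      (by norm_num) h7 h8)
    have h10 : D ^ 5 ∈ center (Matrix.SpecialLinearGroup (Fin 3) F) := by
      rw [Matrix.SpecialLinearGroup.mem_center_iff]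
      refine ⟨b, ?_, e5.symm⟩
      exact hb3'
    have hcop : IsCoprime ((n * 3 : ℕ) : ℤ) ((5 : ℕ) : ℤ) := by
      rw [Nat.isCoprime_iff_coprime]
      exact Nat.Coprime.mul_left ((Nat.Prime.coprime_iff_not_dvd (by norm_num)).2 h5).symm (by norm_num)
    obtain ⟨x, y, hxy⟩ := hcop
    have h11 : D ∈ center (Matrix.SpecialLinearGroup (Fin 3) F) := by
      have h12 : D = (D ^ (n * 3)) ^ x * (D ^ 5) ^ y := by
        rw [← zpow_natCast D (n * 3), ← zpow_natCast D 5, ← zpow_mul, ← zpow_mul, ← zpow_add]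
        rw [show ((n * 3 : ℕ) : ℤ) * x + ((5 : ℕ) : ℤ) * y = 1 by rw [← hxy]; ring, zpow_one]
      rw [h12]
      exact mul_mem (zpow_mem h9 x) (zpow_mem h10 y)
    obtain ⟨c, -, h12⟩ := (Matrix.SpecialLinearGroup.mem_center_iff).1 h11
    apply hv2
    refine ⟨Pi.single 0 1, c, ?_, ?_⟩
    · intro h
      have := congrFun h 0
      simp at this
    · rw [hmx] at h12
      have g1 := congrFun (congrFun h12 0) 0
      have g2 := congrFun (congrFun h12 1) 0
      simp [mx] at g1 g2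
      funext i
      fin_cases i
      · simp [Matrix.mulVec, dotProduct, Fin.sum_univ_two, g1]
      · simp [Matrix.mulVec, dotProduct, Fin.sum_univ_two, ← g2]

/-- **`PAR`** -/
theorem par (g z : YY F) (hz : z ≠ 1) (hz2 : z * z = 1) (hc : g * z = z * g) :
    In φ j1 g ∨ In φ j4 g ∨ 5 ∣ orderOf g ∨ 7 ∣ orderOf g := by
  have hfin := finW
  have : CharP F 2 := charTwo hF
  have : Fact (Nat.Prime 2) := ⟨Nat.prime_two⟩
  have hK : IsPGroup 2 (Subgroup.zpowers z) := by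
    rintro ⟨x, hx⟩
    obtain ⟨k, rfl⟩ := hx
    refine ⟨1, Subtype.ext ?_⟩
    change (z ^ k) ^ 2 ^ 1 = 1
    rw [pow_one, ← zpow_natCast, ← zpow_mul, mul_comm, zpow_mul]
    norm_num only [_root_.zpow_ofNat]
    rw [sq, hz2, one_zpow]
  have hK1 : Subgroup.zpowers z ≠ ⊥ := by
    rw [Ne, Subgroup.zpowers_eq_bot]
    exact hz
  obtain ⟨a, J, hJ, -, h2⟩ := Cfsg.Agent.KFacts.RgdFilt.borel_tits_of_filt
    (Cfsg.Agent.KFacts.RgdFiltTwAll.filt_fold cs RGDTwE6.isCartan RGDTwE6.foldData (RGDTwE6.foldGrp hφ (hqq hF)) 2)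
    (RGDTwE6.G1_eq_top cs hφ (hqq hF)) hK hK1
  have h3 : g ∈ Subgroup.normalizer (Subgroup.zpowers z : Set (YY F)) := by
    refine norm_of_comm fun k hk => ?_
    obtain ⟨m, rfl⟩ := Subgroup.mem_zpowers_iff.1 hk
    exact (Commute.zpow_right hc m).eq
  have h4 := h2 h3
  rw [mem_cj] at h4
  have hin : ∀ {J' : Set (Fin 4)}, In φ J' (a⁻¹ * g * a) → In φ J' g := by
    rintro J' ⟨x, hx⟩
    refine ⟨x * a⁻¹, ?_⟩
    have e : x * a⁻¹ * g * (x * a⁻¹)⁻¹ = x * (a⁻¹ * g * a) * x⁻¹ := by group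
    rw [e]
    exact hx
  have ho : orderOf (a⁻¹ * g * a) = orderOf g := by
    have h5 : a⁻¹ * g * a = MulAut.conj a⁻¹ g := by rw [MulAut.conj_apply, inv_inv]
    rw [h5]
    exact orderOf_injective (MulAut.conj a⁻¹).toMonoidHom (MulAut.conj a⁻¹).injective g
  obtain ⟨i, hi⟩ : ∃ i, i ∉ J := by
    by_contra hcon
    push Not at hcon
    exact hJ (Set.eq_univ_of_forall hcon)
  have h5 : ∀ j : Set (Fin 4), (∀ k, k ≠ i → k ∈ j) → a⁻¹ * g * a ∈ P φ j := fun j hj =>
    PJ_mono (fun k hk => hj k (by rintro rfl; exact hi hk)) h4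
  fin_cases i
  · exact Or.inl (hin ⟨1, by rw [one_mul, inv_one, mul_one]; exact h5 j1 fun k hk => hk⟩)
  · rcases case_j2 hF hφ (h5 j2 fun k hk => hk) with h6 | h6
    · exact Or.inr (Or.inl (hin h6))
    · exact Or.inr (Or.inr (Or.inr (ho ▸ h6)))
  · rcases case_j3 hF hφ (h5 j3 fun k hk => hk) with h6 | h6
    · exact Or.inr (Or.inl (hin h6))
    · exact Or.inr (Or.inr (Or.inl (ho ▸ h6)))
  · exact Or.inr (Or.inl (hin ⟨1, by rw [one_mul, inv_one, mul_one]; exact h5 j4 fun k hk => hk⟩))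

end Cfsg.Agent.H287.F4.Par
end

private theorem dce_516569ddb2f6 : _root_.True := by
  try have : _root_.True := by simp only [_root_.Cfsg.Agent.OddHalf.NI.Mult.lo.eq_1]
  try have : _root_.True := by simp only [_root_.Cfsg.Agent.H287.F4.Fst.mx.eq_1]
  try have : _root_.True := by simp only [_root_.Cfsg.Agent.OddHalf.NI.Mult.up.eq_1]
  exact _root_.True.intro
end

-- part: H494/TE/ThreeFin_mg
section
prune_inst 0x4c4103a24000000082000000020003c0692000130006880004000020006808b4200800020842000100208aa0100000420010000c0020000000000000000050000000802040000a008000010000180400000000000000000000000000000000004000000000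
set_option linter.all false
open scoped Cfsg.Agent.FastGrp

-- part: TwoESix/GoodFi
section
/-!
# Homomorphisms of `Fi22` from the relations `Good`

`s : Fin 10 → G` with `Good s` (the ten nodes of `Y₃₃₃`, in the Baby Monster `s k = t(k+2)`).
* `fiA h : Spor.Fi22 →* G`, `a b c d e f g h i ↦ s 0, …, s 8` (`⟨t2, …, t10⟩`);
* `fiB h : Spor.Fi22 →* G`, `a b c d e f g h i ↦ t8 t7 t6 t5 t9 t10 t11 t4 t3` (`⟨t3, …, t11⟩`, the map `mA` of stage A).
-/

set_option autoImplicit false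

namespace Cfsg.Agent.TwoESix.GoodFi

open Cfsg Cfsg.Spor Cfsg.Agent.TwoESix.Cox10 Cfsg.Agent.TwoESix.Lift Cfsg.Agent.BabyU.OutFree

variable {G : Type*} [Group G] {s : Fin 10 → G}

/-- the nodes of `Y₃₃₂` -/
def gA : Fi22.Gen → Fin 10
  | .a => 0
  | .b => 1
  | .c => 2
  | .d => 3
  | .e => 4
  | .f => 5
  | .g => 6
  | .h => 7
  | .i => 8

theorem lab_gA : ∀ a b : Fi22.Gen, coxLabel Fi22.edges a b = lab (gA a) (gA b) := by
  intro a b
  cases a <;> cases b <;> decide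

theorem chk1 : chk (rep 9 [0, 1, 2, 3, 4, 5, 7]) (rep 9 W321) = true :=
  (_root_.Cfsg.Agent.TwoESix.CoxFast.chk_eq _ _).trans (by decide +kernel)
theorem chk2 : chk (rep 9 [1, 2, 3, 4, 5, 6, 7]) (rep 9 W231) = true :=
  (_root_.Cfsg.Agent.TwoESix.CoxFast.chk_eq _ _).trans (by decide +kernel)

theorem word1 (h : Good s) : ev s [0, 1, 2, 3, 4, 5, 7] ^ 9 = 1 := by
  rw [← ev_rep, ev_eq_ev h.lift chk1, ev_rep, h.e321]

theorem word2 (h : Good s) : ev s [1, 2, 3, 4, 5, 6, 7] ^ 9 = 1 := by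
  rw [← ev_rep, ev_eq_ev h.lift chk2, ev_rep, h.e231]

/-- **The relators of `Fi22`** for `s 0, …, s 8`. -/
theorem relsA (h : Good s) : ∀ r ∈ coxRelators Fi22.edges ∪ {r | r ∈ Fi22.extra},
    FreeGroup.lift (fun g => s (gA g)) r = 1 := by
  rintro r (⟨x, -, y, -, rfl⟩ | hr)
  · rw [map_pow, map_mul, FreeGroup.lift_apply_of, FreeGroup.lift_apply_of, lab_gA]
    exact h.lift _ _
  · simp only [Fi22.extra, Set.mem_setOf_eq, List.mem_cons, List.not_mem_nil, or_false] at hr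
    rcases hr with rfl | rfl | rfl
    · simp only [map_pow, map_mul, FreeGroup.lift_apply_of, gA]
      have h1 := h.spider
      simpa only [ev, spider, List.map_cons, List.map_nil, List.prod_cons, List.prod_nil, mul_one, mul_assoc] using h1
    · simp only [map_pow, map_mul, FreeGroup.lift_apply_of, gA]
      have h1 := word1 h
      simpa only [ev, List.map_cons, List.map_nil, List.prod_cons, List.prod_nil, mul_one, mul_assoc] using h1
    · simp only [map_pow, map_mul, FreeGroup.lift_apply_of, gA]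
      have h1 := word2 h
      simpa only [ev, List.map_cons, List.map_nil, List.prod_cons, List.prod_nil, mul_one, mul_assoc] using h1

/-- The homomorphism onto `⟨s 0, …, s 8⟩ = ⟨t2, …, t10⟩`. -/
def fiA (h : Good s) : Spor.Fi22 →* G := PresentedGroup.toGroup (f := fun g => s (gA g)) (relsA h)

theorem fiA_of (h : Good s) (g : Fi22.Gen) : fiA h (PresentedGroup.of g : Spor.Fi22) = s (gA g) :=
  PresentedGroup.toGroup.of (relsA h)

/-- The images of the generators generate the range. -/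
theorem range_fiA (h : Good s) : (fiA h).range = Subgroup.closure {x | ∃ i : Fin 10, i ≠ 9 ∧ s i = x} := by
  rw [MonoidHom.range_eq_map, ← PresentedGroup.closure_range_of, MonoidHom.map_closure]
  congr 1
  ext x
  constructor
  · rintro ⟨_, ⟨g, rfl⟩, rfl⟩
    exact ⟨gA g, by cases g <;> decide, (fiA_of h g).symm⟩
  · rintro ⟨i, hi, rfl⟩
    have key : ∀ i : Fin 10, i ≠ 9 → ∃ g : Fi22.Gen, gA g = i := by
      intro i hi
      fin_cases i
      · exact ⟨.a, rfl⟩
      · exact ⟨.b, rfl⟩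
      · exact ⟨.c, rfl⟩
      · exact ⟨.d, rfl⟩
      · exact ⟨.e, rfl⟩
      · exact ⟨.f, rfl⟩
      · exact ⟨.g, rfl⟩
      · exact ⟨.h, rfl⟩
      · exact ⟨.i, rfl⟩
      · exact absurd rfl hi
    obtain ⟨g, rfl⟩ := key i hi
    exact ⟨_, ⟨g, rfl⟩, fiA_of h g⟩

end Cfsg.Agent.TwoESix.GoodFi
end

-- part: H494/TE/Sub
section
/-!
# Elements of odd order in central extensions, through a subgroup of the base (helper494, S2491)

`σ : D → K` a perfect central extension, `π₂ : L → K` a second one of exponent two kernel and `g : D → L` over `K` with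
kernel of exponent three; `F ≤ K` perfect of index prime to three.  If `σ u ∈ F` has odd order and `(g u) ^ (3 n)` is in
the commutator subgroup of the preimage of `F` in `L`, then `u` is in the commutator subgroup of the preimage of `F` in
`D` (`mem_comm`), which is a perfect central extension of `F` (`pce_sub`).
-/

set_option autoImplicit false

namespace Cfsg.Agent.H494.TE

open Subgroup Cfsg.Agent.H51.Mult
open scoped commutatorElement

universe u v w

section sub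

variable {D : Type u} {K : Type v} [Group D] [Group K] {σ : D →* K}

theorem comap_comm_le (F : Subgroup K) : ⁅F.comap σ, F.comap σ⁆ ≤ F.comap σ := by
  rw [commutator_le]
  intro a ha b hb
  rw [commutatorElement_def]
  exact mul_mem (mul_mem (mul_mem ha hb) (inv_mem ha)) (inv_mem hb)

theorem map_comm (h : PCE σ) {F : Subgroup K} (hF : commutator F = ⊤) :
    (⁅F.comap σ, F.comap σ⁆ : Subgroup D).map σ = F := by
  rw [Subgroup.map_commutator, Subgroup.map_comap_eq_self_of_surjective h.surj]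
  have h1 := congrArg (Subgroup.map F.subtype) hF
  rw [_root_.commutator_def, Subgroup.map_commutator, ← MonoidHom.range_eq_map, Subgroup.range_subtype] at h1
  exact h1

theorem exists_split (h : PCE σ) {F : Subgroup K} (hF : commutator F = ⊤) {x : D} (hx : σ x ∈ F) :
    ∃ y ∈ (⁅F.comap σ, F.comap σ⁆ : Subgroup D), ∃ z, σ z = 1 ∧ x = y * z := by
  have h2 : σ x ∈ (⁅F.comap σ, F.comap σ⁆ : Subgroup D).map σ := by rw [map_comm h hF]; exact hx
  obtain ⟨y, hy, hyx⟩ := h2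
  exact ⟨y, hy, y⁻¹ * x, by rw [map_mul, map_inv, hyx, inv_mul_cancel], by rw [mul_inv_cancel_left]⟩

/-- the perfect central extension of `F` -/
theorem pce_sub (h : PCE σ) {F : Subgroup K} (hF : commutator F = ⊤) :
    ∃ ρ : (⁅F.comap σ, F.comap σ⁆ : Subgroup D) →* F, (∀ x, ((ρ x : F) : K) = σ x) ∧ PCE ρ := by
  set T := F.comap σ with hT
  have hleT : ⁅T, T⁆ ≤ T := comap_comm_le F
  have hmap : (⁅T, T⁆).map σ = F := map_comm h hF
  have hT1 : ∀ x ∈ T, ∃ y ∈ ⁅T, T⁆, ∃ z, σ z = 1 ∧ x = y * z := fun x hx => exists_split h hF hx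
  have hTT : ⁅T, T⁆ ≤ ⁅⁅T, T⁆, ⁅T, T⁆⁆ := by
    rw [commutator_le]
    intro a ha b hb
    obtain ⟨a', ha', z, hz, rfl⟩ := hT1 a ha
    obtain ⟨b', hb', w, hw, rfl⟩ := hT1 b hb
    have e : ⁅a' * z, b' * w⁆ = ⁅a', b'⁆ := by
      have hz1 := h.comm hz
      have hw1 := h.comm hw
      simp only [commutatorElement_def, mul_inv_rev]
      calc a' * z * (b' * w) * (z⁻¹ * a'⁻¹) * (w⁻¹ * b'⁻¹)
          = a' * (z * (b' * w)) * (z⁻¹ * a'⁻¹) * (w⁻¹ * b'⁻¹) := by group
        _ = a' * ((b' * w) * z) * (z⁻¹ * a'⁻¹) * (w⁻¹ * b'⁻¹) := by rw [hz1]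
        _ = a' * b' * (w * a'⁻¹) * (w⁻¹ * b'⁻¹) := by group
        _ = a' * b' * (a'⁻¹ * w) * (w⁻¹ * b'⁻¹) := by rw [hw1]
        _ = a' * b' * a'⁻¹ * b'⁻¹ := by group
    rw [e]
    exact commutator_mem_commutator ha' hb'
  set C := ⁅T, T⁆ with hC
  have hDm : ∀ x : C, σ x ∈ F := fun x => hleT x.2
  let ρ : C →* F := (σ.comp C.subtype).codRestrict F hDm
  refine ⟨ρ, fun x => rfl, ?_, ?_, ?_⟩
  · rintro ⟨y, hy⟩
    rw [← hmap] at hy
    obtain ⟨x, hx, hxy⟩ := hy
    exact ⟨⟨x, hx⟩, Subtype.ext hxy⟩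
  · intro x hx
    have hx' : σ x = 1 := congrArg Subtype.val hx
    rw [mem_center_iff]
    intro g
    exact Subtype.ext (h.comm hx' g).symm
  · rw [eq_top_iff]
    rintro ⟨x, hx⟩ -
    have h3 := hTT hx
    have h4 : (⁅C, C⁆ : Subgroup D) = (commutator C).map C.subtype := by
      rw [_root_.commutator_def, Subgroup.map_commutator, ← MonoidHom.range_eq_map, Subgroup.range_subtype]
    rw [h4] at h3
    obtain ⟨y, hy, hyx⟩ := h3
    have : y = ⟨x, hx⟩ := Subtype.ext hyx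
    rwa [← this]

/-- central elements of order three (transfer) -/
theorem mem_of_three [Finite D] (h : PCE σ) {F : Subgroup K} (h3 : ¬ 3 ∣ F.index) {z : D} (hz : σ z = 1)
    (hz3 : z ^ 3 = 1) : z ∈ (⁅F.comap σ, F.comap σ⁆ : Subgroup D) := by
  have hzT : z ∈ F.comap σ := by rw [mem_comap, hz]; exact one_mem _
  have h1 := Cfsg.Agent.Transfer.CentralTransfer.map_pow_index_eq_one_of_perfect h.perf
    (Abelianization.of : F.comap σ →* Abelianization (F.comap σ)) ⟨z, hzT⟩ (h.cen (MonoidHom.mem_ker.2 hz))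
  have h2 : (Abelianization.of (⟨z, hzT⟩ : F.comap σ)) ^ 3 = 1 := by
    rw [← map_pow]
    have : (⟨z, hzT⟩ : F.comap σ) ^ 3 = 1 := Subtype.ext hz3
    rw [this, map_one]
  have h4 : Nat.Coprime 3 (F.comap σ).index := by
    rw [_root_.Cfsg.Agent.H51.Mult.index_comap h]
    exact (Nat.Prime.coprime_iff_not_dvd Nat.prime_three).2 h3
  have h5 := Nat.dvd_gcd (orderOf_dvd_of_pow_eq_one h2) (orderOf_dvd_of_pow_eq_one h1)
  rw [h4.gcd_eq_one] at h5
  have h6 : Abelianization.of (⟨z, hzT⟩ : F.comap σ) = 1 := orderOf_eq_one_iff.1 (Nat.dvd_one.1 h5)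
  have h7 : (⟨z, hzT⟩ : F.comap σ) ∈ _root_.commutator (F.comap σ) := (QuotientGroup.eq_one_iff _).1 h6
  have h8 : z ∈ (commutator (F.comap σ)).map (F.comap σ).subtype := ⟨_, h7, rfl⟩
  rw [_root_.commutator_def, Subgroup.map_commutator, ← MonoidHom.range_eq_map, Subgroup.range_subtype] at h8
  exact h8

end sub

section two

variable {D : Type u} {K : Type v} {L : Type w} [Group D] [Group K] [Group L] [Finite D]
  {σ : D →* K} {g : D →* L} {π₂ : L →* K}

/-- **elements of odd order** -/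
theorem mem_comm (h : PCE σ) (hg : Function.Surjective g) (hcomp : ∀ x, π₂ (g x) = σ x)
    (h2 : ∀ z, π₂ z = 1 → z ^ 2 = 1) (hk : ∀ z, g z = 1 → z ^ 3 = 1)
    {F : Subgroup K} (hF : commutator F = ⊤) (h3 : ¬ 3 ∣ F.index) {u : D} {n : ℕ} (hn : Odd n)
    (huF : σ u ∈ F) (hz : g (u ^ n) ∈ (⁅F.comap π₂, F.comap π₂⁆ : Subgroup L)) :
    u ∈ (⁅F.comap σ, F.comap σ⁆ : Subgroup D) := by
  set C : Subgroup D := ⁅F.comap σ, F.comap σ⁆ with hC
  have hker : ∀ z, g z = 1 → z ∈ C := fun z hz =>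
    mem_of_three h h3 (by rw [← hcomp, hz, map_one]) (hk z hz)
  -- squares
  have hsq : u ^ 2 ∈ C := by
    obtain ⟨y, hy, z, hz1, rfl⟩ := exists_split h hF huF
    have h4 : z * y = y * z := h.comm hz1 y
    have h5 : (y * z) ^ 2 = y ^ 2 * z ^ 2 := by
      rw [pow_two, pow_two, pow_two]
      calc y * z * (y * z) = y * (z * y) * z := by group
        _ = y * y * (z * z) := by rw [h4]; group
    rw [h5]
    refine mul_mem (pow_mem hy 2) (hker _ ?_)
    rw [map_pow]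
    exact h2 _ (by rw [hcomp, hz1])
  -- the power `n`
  have hpow : u ^ n ∈ C := by
    have h4 : (F.comap σ).map g = F.comap π₂ := by
      have h5 : F.comap σ = (F.comap π₂).comap g := by
        ext x
        rw [mem_comap, mem_comap, mem_comap, hcomp]
      rw [h5, Subgroup.map_comap_eq_self_of_surjective hg]
    have h5 : C.map g = ⁅F.comap π₂, F.comap π₂⁆ := by
      rw [hC, Subgroup.map_commutator, h4]
    rw [← h5] at hz
    obtain ⟨y, hy, hyx⟩ := hz
    have h6 : y⁻¹ * u ^ n ∈ C := hker _ (by rw [map_mul, map_inv, hyx, inv_mul_cancel])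
    have h7 := mul_mem hy h6
    rwa [mul_inv_cancel_left] at h7
  obtain ⟨m, rfl⟩ := hn
  have h4 : u = ((u ^ 2) ^ m)⁻¹ * u ^ (2 * m + 1) := by
    rw [← pow_mul, pow_succ, inv_mul_cancel_left]
  rw [h4]
  exact mul_mem (inv_mem (pow_mem hsq m)) hpow

end two

end Cfsg.Agent.H494.TE
end

-- part: H494/TE/Node
section
/-!
# The nodes of the cover `2².²E₆(2)` and the three `Fi₂₂` (helper494, S2491)
-/

set_option autoImplicit false

namespace Cfsg.Agent.H494.TE

open Subgroup Cfsg.Agent.H51.Mult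
open Cfsg Cfsg.Agent.TwoESix Cfsg.Agent.TwoESix.Cox10 Cfsg.Agent.TwoESix.Lift Cfsg.Agent.TwoESix.Cover
open Cfsg.Agent.BabyU.OutFree Cfsg.Agent.TwoESix.GoodFi Cfsg.Agent.H66.TwESixCover
open scoped commutatorElement

universe u v w

section words

variable {G : Type u} [Group G] {s : Fin 10 → G}

theorem ev_congr {s t : Fin 10 → G} {w : List (Fin 10)} (h : ∀ i ∈ w, s i = t i) : ev s w = ev t w := by
  unfold ev
  rw [List.map_congr_left h]

/-- a product of two `E₇` powers in the nodes different from `9` is in the commutator subgroup -/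
theorem words_mem (hl : M10.IsLiftable s) {T : Subgroup G} (hT : ∀ i, i ≠ 9 → s i ∈ T) :
    sig s 0 * sig s 1 ∈ (⁅T, T⁆ : Subgroup G) := by
  have hT' : ∀ i : Fin 10, s (if i = 9 then 3 else i) ∈ T := by
    intro i
    split_ifs with h
    · exact hT 3 (by decide)
    · exact hT i h
  let t : Fin 10 → T := fun i => ⟨s (if i = 9 then 3 else i), hT' i⟩
  let q : T →* Abelianization T := Abelianization.of
  have hadj : ∀ i j : Fin 10, i ≠ 9 → j ≠ 9 → adj i j = true → q (t i) = q (t j) := by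
    intro i j hi hj hij
    have h1 : t i * t j * t i = t j * t i * t j := by
      apply Subtype.ext
      show s (if i = 9 then 3 else i) * s (if j = 9 then 3 else j) * s (if i = 9 then 3 else i) =
        s (if j = 9 then 3 else j) * s (if i = 9 then 3 else i) * s (if j = 9 then 3 else j)
      rw [if_neg hi, if_neg hj]
      exact braid hl hij
    have h1 := congrArg q h1
    simp only [map_mul] at h1
    have h2 : q (t i) * q (t j) * q (t i) = q (t i) * q (t j) * q (t j) := by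
      rw [h1]; rw [mul_comm (q (t j)) (q (t i))]
    exact mul_left_cancel h2
  have e01 := hadj 0 1 (by decide) (by decide) (by decide)
  have e12 := hadj 1 2 (by decide) (by decide) (by decide)
  have e23 := hadj 2 3 (by decide) (by decide) (by decide)
  have e34 := hadj 3 4 (by decide) (by decide) (by decide)
  have e45 := hadj 4 5 (by decide) (by decide) (by decide)
  have e56 := hadj 5 6 (by decide) (by decide) (by decide)
  have e37 := hadj 3 7 (by decide) (by decide) (by decide)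
  have e78 := hadj 7 8 (by decide) (by decide) (by decide)
  have hall : ∀ i, q (t i) = q (t 3) := by
    intro i
    fin_cases i
    · exact e01.trans (e12.trans e23)
    · exact e12.trans e23
    · exact e23
    · rfl
    · exact e34.symm
    · exact e45.symm.trans e34.symm
    · exact e56.symm.trans (e45.symm.trans e34.symm)
    · exact e37.symm
    · exact e78.symm.trans e37.symm
    · rfl
  have h2 : q (t 3) * q (t 3) = 1 := by
    rw [← map_mul]
    have : t 3 * t 3 = 1 := Subtype.ext (sq hl 3)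
    rw [this, map_one]
  have hw : ∀ w : List (Fin 10), w.length = 7 → q (ev t w ^ 9) = q (t 3) := by
    intro w hw
    rw [map_pow, ev_map]
    have h5 : (fun i => q (t i)) = fun _ => q (t 3) := funext hall
    rw [h5]
    have h6 : ev (fun _ : Fin 10 => q (t 3)) w = q (t 3) ^ 7 := by
      rw [ev, List.map_const', List.prod_replicate, hw]
    rw [h6, ← pow_mul]
    calc q (t 3) ^ (7 * 9) = (q (t 3) * q (t 3)) ^ 31 * q (t 3) := by rw [← pow_two, ← pow_mul, ← pow_succ]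
      _ = q (t 3) := by rw [h2, one_pow, one_mul]
  have hco : ∀ w : List (Fin 10), (9 : Fin 10) ∉ w → ((ev t w : T) : G) = ev s w := by
    intro w h9
    rw [show ((ev t w : T) : G) = T.subtype (ev t w) from rfl, ev_map]
    refine ev_congr fun i hi => ?_
    have h3 : i ≠ 9 := by rintro rfl; exact h9 hi
    show s (if i = 9 then 3 else i) = s i
    rw [if_neg h3]
  have h3 : q (ev t W321 ^ 9 * ev t W231 ^ 9) = 1 := by
    rw [map_mul, hw _ (by decide), hw _ (by decide), h2]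
  have h4 : ev t W321 ^ 9 * ev t W231 ^ 9 ∈ _root_.commutator T := (QuotientGroup.eq_one_iff _).1 h3
  have h5 : ((ev t W321 ^ 9 * ev t W231 ^ 9 : T) : G) ∈ (commutator T).map T.subtype := ⟨_, h4, rfl⟩
  rw [_root_.commutator_def, Subgroup.map_commutator, ← MonoidHom.range_eq_map, Subgroup.range_subtype] at h5
  have h6 : ((ev t W321 ^ 9 * ev t W231 ^ 9 : T) : G) = sig s 0 * sig s 1 := by
    show ((ev t W321 ^ 9 * ev t W231 ^ 9 : T) : G) = ev s W321 ^ 9 * ev s W231 ^ 9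
    rw [Subgroup.coe_mul, SubmonoidClass.coe_pow, SubmonoidClass.coe_pow, hco _ (by decide), hco _ (by decide)]
  rw [← h6]
  exact h5

end words

section cover

variable {G : Type} [Group G] {s : Fin 10 → G} {z : G}

theorem cs_sX (h : ZRels s z) : CS (sX s) := ⟨lift_sX h, spider_sX h⟩

theorem sig0_sX (h : ZRels s z) : ((sig (sX s) 0 : X s) : G × G) = (z, 1) := e321_sX h
theorem sig1_sX (h : ZRels s z) : ((sig (sX s) 1 : X s) : G × G) = (1, z) := e231_sX h
theorem sig2_sX (h : ZRels s z) : sig (sX s) 2 = 1 := e213_sX h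

/-- the three central involutions -/
def zz (s : Fin 10 → G) (n : Fin 6) : X s := sig (fun i => sX s (P6 n i)) 0 * sig (fun i => sX s (P6 n i)) 1

theorem zz_zero (h : ZRels s z) : ((zz s 0 : X s) : G × G) = (z, z) := by
  unfold zz
  rw [sig_P6 (cs_sX h), sig_P6 (cs_sX h)]
  show ((sig (sX s) 0 * sig (sX s) 1 : X s) : G × G) = (z, z)
  rw [Subgroup.coe_mul, sig0_sX h, sig1_sX h, Prod.mk_mul_mk, mul_one, one_mul]

theorem zz_three (h : ZRels s z) : ((zz s 3 : X s) : G × G) = (z, 1) := by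
  unfold zz
  rw [sig_P6 (cs_sX h), sig_P6 (cs_sX h)]
  show ((sig (sX s) 0 * sig (sX s) 2 : X s) : G × G) = (z, 1)
  rw [sig2_sX h, mul_one, sig0_sX h]

theorem zz_two (h : ZRels s z) : ((zz s 2 : X s) : G × G) = (1, z) := by
  unfold zz
  rw [sig_P6 (cs_sX h), sig_P6 (cs_sX h)]
  show ((sig (sX s) 2 * sig (sX s) 1 : X s) : G × G) = (1, z)
  rw [sig2_sX h, one_mul, sig1_sX h]

theorem zz_mem (h : ZRels s z) (n : Fin 6) {T : Subgroup (X s)} (hT : ∀ i, i ≠ 9 → sX s (P6 n i) ∈ T) :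
    zz s n ∈ (⁅T, T⁆ : Subgroup (X s)) :=
  words_mem ((cs_sX h).P6 n).lift hT

variable {K : Type v} [Group K] {π : X s →* K}

/-- the three involutions are in the kernel -/
theorem pi_zz (h : ZRels s z) (htop : _root_.Subgroup.closure (Set.range s) = ⊤) (hcK : center K = ⊥) (hπ : PCE π) :
    π (zz s 0) = 1 ∧ π (zz s 3) = 1 ∧ π (zz s 2) = 1 := by
  have hcen : ∀ g : G, z * g = g * z := fun g => (h.z_central htop g).eq.symm
  have hmem : ∀ y : X s, ((y : G × G).1 = 1 ∨ (y : G × G).1 = z) → ((y : G × G).2 = 1 ∨ (y : G × G).2 = z) → π y = 1 := by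
    intro y h1 h2
    have hy : y ∈ center (X s) := by
      rw [mem_center_iff]
      intro g
      apply Subtype.ext
      refine Prod.ext ?_ ?_
      · show (g : G × G).1 * (y : G × G).1 = (y : G × G).1 * (g : G × G).1
        rcases h1 with h1 | h1
        · rw [h1, one_mul, mul_one]
        · rw [h1, hcen]
      · show (g : G × G).2 * (y : G × G).2 = (y : G × G).2 * (g : G × G).2
        rcases h2 with h2 | h2
        · rw [h2, one_mul, mul_one]
        · rw [h2, hcen]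
    have h3 : π y ∈ center K := by
      rw [mem_center_iff] at hy ⊢
      intro g
      obtain ⟨g, rfl⟩ := hπ.surj g
      rw [← map_mul, ← map_mul, hy g]
    rw [hcK] at h3
    exact mem_bot.1 h3
  exact ⟨hmem _ (by rw [zz_zero h]; exact Or.inr rfl) (by rw [zz_zero h]; exact Or.inr rfl),
    hmem _ (by rw [zz_three h]; exact Or.inr rfl) (by rw [zz_three h]; exact Or.inl rfl),
    hmem _ (by rw [zz_two h]; exact Or.inl rfl) (by rw [zz_two h]; exact Or.inr rfl)⟩

/-- the kernel of the cover -/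
theorem ker_cases (h : ZRels s z) (htop : _root_.Subgroup.closure (Set.range s) = ⊤) (hz : z ≠ 1) (hcK : center K = ⊥)
    (hπ : PCE π) (hk : Nat.card π.ker = 4) {x : X s} (hx : π x = 1) :
    x = 1 ∨ x = zz s 0 ∨ x = zz s 3 ∨ x = zz s 2 := by
  classical
  obtain ⟨h0, h3, h2⟩ := pi_zz h htop hcK hπ
  have : Finite π.ker := Nat.finite_of_card_ne_zero (by rw [hk]; norm_num)
  have : Fintype π.ker := Fintype.ofFinite _
  let S : Finset π.ker := {⟨1, map_one π⟩, ⟨zz s 0, h0⟩, ⟨zz s 3, h3⟩, ⟨zz s 2, h2⟩}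
  have e1 : (1 : X s) ≠ zz s 0 := fun e => hz (by
    have := congrArg (fun y : X s => (y : G × G).1) e
    simp only [zz_zero h] at this
    exact this.symm)
  have e2 : (1 : X s) ≠ zz s 3 := fun e => hz (by
    have := congrArg (fun y : X s => (y : G × G).1) e
    simp only [zz_three h] at this
    exact this.symm)
  have e3 : (1 : X s) ≠ zz s 2 := fun e => hz (by
    have := congrArg (fun y : X s => (y : G × G).2) e
    simp only [zz_two h] at this
    exact this.symm)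
  have e4 : zz s 0 ≠ zz s 3 := fun e => hz (by
    have := congrArg (fun y : X s => (y : G × G).2) e
    simp only [zz_zero h, zz_three h] at this
    exact this)
  have e5 : zz s 0 ≠ zz s 2 := fun e => hz (by
    have := congrArg (fun y : X s => (y : G × G).1) e
    simp only [zz_zero h, zz_two h] at this
    exact this)
  have e6 : zz s 3 ≠ zz s 2 := fun e => hz (by
    have := congrArg (fun y : X s => (y : G × G).1) e
    simp only [zz_three h, zz_two h] at this
    exact this)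
  have hS : S.card = 4 := by
    rw [Finset.card_insert_of_notMem, Finset.card_insert_of_notMem, Finset.card_insert_of_notMem,
      Finset.card_singleton]
    · rw [Finset.mem_singleton]; exact fun e => e6 (congrArg Subtype.val e)
    · simp only [Finset.mem_insert, Finset.mem_singleton, not_or]
      exact ⟨fun e => e4 (congrArg Subtype.val e), fun e => e5 (congrArg Subtype.val e)⟩
    · simp only [Finset.mem_insert, Finset.mem_singleton, not_or]
      exact ⟨fun e => e1 (congrArg Subtype.val e), fun e => e2 (congrArg Subtype.val e),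
        fun e => e3 (congrArg Subtype.val e)⟩
  have hSu : S = Finset.univ := by
    apply Finset.eq_univ_of_card
    rw [hS, ← hk, Nat.card_eq_fintype_card]
  have hxS : (⟨x, hx⟩ : π.ker) ∈ S := by rw [hSu]; exact Finset.mem_univ _
  simp only [S, Finset.mem_insert, Finset.mem_singleton] at hxS
  rcases hxS with e | e | e | e
  · exact Or.inl (congrArg Subtype.val e)
  · exact Or.inr (Or.inl (congrArg Subtype.val e))
  · exact Or.inr (Or.inr (Or.inl (congrArg Subtype.val e)))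
  · exact Or.inr (Or.inr (Or.inr (congrArg Subtype.val e)))

theorem zz_sq (h : ZRels s z) {x : X s} (hx : x = 1 ∨ x = zz s 0 ∨ x = zz s 3 ∨ x = zz s 2) : x ^ 2 = 1 := by
  have hzz : z * z = 1 := h.zz
  rcases hx with rfl | rfl | rfl | rfl
  · exact one_pow 2
  all_goals
    apply Subtype.ext
    rw [SubmonoidClass.coe_pow, pow_two]
    first
      | rw [zz_zero h, Prod.mk_mul_mk, hzz]; rfl
      | rw [zz_three h, Prod.mk_mul_mk, hzz, one_mul]; rfl
      | rw [zz_two h, Prod.mk_mul_mk, hzz, one_mul]; rfl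

/-- the nodes in the quotient -/
theorem good_img (h : ZRels s z) (h0 : π (zz s 3) = 1) (h1 : π (zz s 2) = 1) : Good (fun i => π (sX s i)) := by
  have hev : ∀ w, ev (fun i => π (sX s i)) w = π (ev (sX s) w) := fun w => (ev_map π (sX s) w).symm
  refine ⟨fun i j => ?_, ?_, ?_, ?_, ?_⟩
  · show (π (sX s i) * π (sX s j)) ^ _ = 1
    rw [← map_mul, ← map_pow, lift_sX h i j, map_one]
  · rw [hev, ← map_pow, spider_sX h, map_one]
  · rw [hev, ← map_pow, ← h0]
    congr 1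
    exact Subtype.ext ((e321_sX h).trans (zz_three h).symm)
  · rw [hev, ← map_pow, ← h1]
    congr 1
    exact Subtype.ext ((e231_sX h).trans (zz_two h).symm)
  · rw [hev, ← map_pow, e213_sX h, map_one]

end cover

end Cfsg.Agent.H494.TE
end

-- part: H494/TE/Three
section
/-!
# `²E₆(2)`: the elements of prime power order `3^k, 5^k, 11^k, 13^k` through the three `Fi₂₂` (helper494; S2491, F4)

`isC_of_odd`, `isC_of_primepow'` : in every finite perfect central extension of `²E₆(2)` the elements over nontrivial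
elements of order a power of `3, 5, 11` or `13` are commutators (from the row `Fi22`).
-/

set_option autoImplicit false

namespace Cfsg.Agent.H494.TE

open Subgroup Cfsg.Agent.H51.Mult Cfsg.Agent.H6.QO Cfsg.Agent.H777.Ore
open Cfsg Cfsg.Lie Cfsg.Agent.TwoESix Cfsg.Agent.TwoESix.Cox10 Cfsg.Agent.TwoESix.Lift Cfsg.Agent.TwoESix.Cover
open Cfsg.Agent.BabyU.OutFree Cfsg.Agent.TwoESix.GoodFi Cfsg.Agent.H66.TwESixCover
open scoped commutatorElement

universe u v w

theorem simple_Fi : IsSimpleGroup Spor.Fi22 := Cfsg.Agent.S1696.result.1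
theorem card_Fi : Nat.card Spor.Fi22 = 64561751654400 := Cfsg.Agent.S1696.result.2

theorem noncomm_Fi : ∃ a b : Spor.Fi22, a * b ≠ b * a := by
  by_contra hc
  push Not at hc
  have := simple_Fi
  have : Finite Spor.Fi22 := Nat.finite_of_card_ne_zero (by rw [card_Fi]; norm_num)
  let _ : CommGroup Spor.Fi22 := { (inferInstance : Group Spor.Fi22) with mul_comm := hc }
  have h1 := IsSimpleGroup.prime_card (α := Spor.Fi22)
  rw [card_Fi] at h1
  exact absurd h1 (by norm_num)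

theorem perfect_Fi : commutator Spor.Fi22 = ⊤ := by
  have := simple_Fi
  rcases (inferInstance : (commutator Spor.Fi22).Normal).eq_bot_or_eq_top with h | h
  · exfalso
    obtain ⟨a, b, hab⟩ := noncomm_Fi
    rw [commutator_def, commutator_eq_bot_iff_le_centralizer] at h
    exact hab (mem_centralizer_iff.1 (h (mem_top a)) b (mem_top b)).symm
  · exact h

theorem center_Fi : center Spor.Fi22 = ⊥ := by
  have := simple_Fi
  rcases (inferInstance : (center Spor.Fi22).Normal).eq_bot_or_eq_top with h | h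
  · exact h
  · exfalso
    obtain ⟨a, b, hab⟩ := noncomm_Fi
    have h1 : b ∈ center Spor.Fi22 := by rw [h]; exact mem_top _
    exact hab (mem_center_iff.1 h1 a)

section fi

variable {K : Type v} [Group K] {e : Fin 10 → K}

/-- the images of `Fi22` -/
theorem fi_inj (he : Good e) (htop : _root_.Subgroup.closure (Set.range e) = ⊤) (hK : Nontrivial K) (n : Fin 6) :
    Function.Injective (fiA (good_P6 he n)) := by
  have := simple_Fi
  rw [← MonoidHom.ker_eq_bot_iff]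
  rcases (MonoidHom.normal_ker (fiA (good_P6 he n))).eq_bot_or_eq_top with h | h
  · exact h
  · exfalso
    have h1 : ∀ g : Spor.Fi22, fiA (good_P6 he n) g = 1 := fun g => by
      have : g ∈ (fiA (good_P6 he n)).ker := by rw [h]; exact mem_top _
      exact this
    have h8 : e (P6 n 8) = 1 := by
      have h2 := fiA_of (good_P6 he n) Spor.Fi22.Gen.i
      rw [h1] at h2
      exact h2.symm
    have hl : M10.IsLiftable (fun i => e (P6 n i)) := (good_P6 he n).lift
    have hmv : ∀ i j : Fin 10, adj i j = true → e (P6 n i) = 1 → e (P6 n j) = 1 := by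
      intro i j hij hi
      have h2 : e (P6 n i) * e (P6 n j) * e (P6 n i) = e (P6 n j) * e (P6 n i) * e (P6 n j) := braid hl hij
      have h3 : e (P6 n j) * e (P6 n j) = 1 := sq hl j
      rw [hi, one_mul, mul_one] at h2
      rw [h2]
      exact h3
    have h7 := hmv 8 7 (by decide) h8
    have h9 := hmv 8 9 (by decide) h8
    have h3 := hmv 7 3 (by decide) h7
    have h2 := hmv 3 2 (by decide) h3
    have h1' := hmv 2 1 (by decide) h2
    have h0 := hmv 1 0 (by decide) h1'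
    have h4 := hmv 3 4 (by decide) h3
    have h5 := hmv 4 5 (by decide) h4
    have h6 := hmv 5 6 (by decide) h5
    have hall : ∀ i, e (P6 n i) = 1 := by
      intro i
      fin_cases i
      · exact h0
      · exact h1'
      · exact h2
      · exact h3
      · exact h4
      · exact h5
      · exact h6
      · exact h7
      · exact h8
      · exact h9
    have hr : _root_.Subgroup.closure (Set.range e) ≤ ⊥ := by
      rw [closure_le]
      rintro _ ⟨i, rfl⟩
      obtain ⟨j, rfl⟩ := P6_surj n i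
      exact mem_bot.2 (hall j)
    rw [htop] at hr
    obtain ⟨x, hx⟩ := exists_ne (1 : K)
    exact hx (mem_bot.1 (hr (mem_top x)))

end fi

/-- a `p`-element is conjugate into a subgroup of `p'`-index -/
theorem exists_conj_mem {K : Type v} [Group K] [Finite K] {p : ℕ} (hp : p.Prime) {F : Subgroup K} (hF : ¬ p ∣ F.index)
    {x : K} {k : ℕ} (hx : x ^ p ^ k = 1) : ∃ c : K, c * x * c⁻¹ ∈ F := by
  haveI : Fact p.Prime := ⟨hp⟩
  have hP : IsPGroup p (zpowers x) := by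
    rw [IsPGroup.iff_orderOf]
    rintro ⟨y, n, rfl⟩
    have h1 : (⟨x ^ n, ⟨n, rfl⟩⟩ : zpowers x) ^ p ^ k = 1 := by
      apply Subtype.ext
      show (x ^ n) ^ p ^ k = 1
      rw [← zpow_natCast, ← zpow_mul, mul_comm, zpow_mul, zpow_natCast, hx, one_zpow]
    obtain ⟨j, -, hj⟩ := (Nat.dvd_prime_pow hp).1 (orderOf_dvd_of_pow_eq_one h1)
    exact ⟨j, hj⟩
  obtain ⟨a, ha⟩ := hP.nonempty_fixed_point_of_prime_not_dvd_card (K ⧸ F) (by
    rwa [← Subgroup.index_eq_card])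
  obtain ⟨c, rfl⟩ := QuotientGroup.mk_surjective a
  have h1 := ha ⟨x, mem_zpowers x⟩
  have h2 : ((x * c : K) : K ⧸ F) = (c : K ⧸ F) := h1
  refine ⟨c⁻¹, ?_⟩
  have h3 := QuotientGroup.eq.1 h2.symm
  rwa [← mul_assoc, show c⁻¹ * x * c = c⁻¹ * x * c⁻¹⁻¹ by rw [inv_inv]] at h3

/-- the index of `Fi22` in `²E₆(2)` -/
theorem index_Fi {K : Type v} [Group K] [Finite K] (hK : Nat.card K = 76532479683774853939200) {F : Subgroup K}
    (hF : Nat.card F = 64561751654400) : F.index = 1185415168 := by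
  have h1 := F.card_mul_index
  rw [hK, hF] at h1
  omega

/-- **Elements of odd order conjugate into all subgroups `Fi22` of index 1185415168.** -/
theorem isC_of_odd (hFi : RowN Spor.Fi22) {F : Type w} [Field F] [Fintype F] (hF : Fintype.card F = 4)
    {M : Type u} [Group M] [Finite M] {π : M →* ↥(twistedE6 F 2)} (hπ : PCE π) {g : M} {n : ℕ} (hn : Odd n)
    (hg : π g ^ n = 1) (hg1 : π g ≠ 1)
    (hc : ∀ T : Subgroup ↥(twistedE6 F 2), T.index = 1185415168 → ∃ c, c * π g * c⁻¹ ∈ T) : IsC g := by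
  have hE := BM.HBFinal.card_E F hF
  have hfin : Finite ↥(twistedE6 F 2) := Nat.finite_of_card_ne_zero (by rw [hE]; norm_num)
  have hs : IsSimpleGroup ↥(twistedE6 F 2) := (Cfsg.Agent.S1070.result Nat.prime_two.isPrimePow hF).1
  have hcomm : ¬ IsMulCommutative ↥(twistedE6 F 2) := (Cfsg.Agent.S1070.result Nat.prime_two.isPrimePow hF).2
  have hcK : center ↥(twistedE6 F 2) = ⊥ := by
    rcases (inferInstance : (center ↥(twistedE6 F 2)).Normal).eq_bot_or_eq_top with h | h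
    · exact h
    · exfalso
      refine hcomm ⟨⟨fun a b => ?_⟩⟩
      have h1 : b ∈ center ↥(twistedE6 F 2) := by rw [h]; exact mem_top _
      exact mem_center_iff.1 h1 a
  -- the cover of order four
  obtain ⟨e₀, r, he₀, hgen, -⟩ := GoodInst.exists_good F hF
  have hY := finite_Y
  obtain ⟨π₂, h1, h2⟩ := exists_pce zrels_sY closure_sY zY_ne he₀ hgen
    (fun H _ y hy ht => KFacts.Mult.TwESixTwo.card_le_E F hF H y hy ht) BM.HBFinal.finite_HB
    (by rw [card_Y, hE])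
  have hker : ∀ x, π₂ x = 1 → x = 1 ∨ x = zz sY 0 ∨ x = zz sY 3 ∨ x = zz sY 2 := fun x hx =>
    ker_cases zrels_sY closure_sY zY_ne hcK h1 h2 hx
  obtain ⟨h0, h3, h2'⟩ := pi_zz zrels_sY closure_sY hcK h1
  have he : Good (fun i => π₂ (sX sY i)) := good_img zrels_sY h3 h2'
  have hetop : _root_.Subgroup.closure (Set.range fun i => π₂ (sX sY i)) = ⊤ := by
    have h4 : (Set.range fun i => π₂ (sX sY i)) = π₂ '' Set.range (sX sY) := by
      rw [← Set.range_comp]; rfl
    rw [h4, ← MonoidHom.map_closure, closure_sX, ← MonoidHom.range_eq_map, MonoidHom.range_eq_top.2 h1.surj]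
  -- a common refinement
  obtain ⟨D, _, f, gg, hf, hgg, hfg, hD, hDf⟩ := H68.Bounds.exists_common hπ h1
  haveI : Finite D := hDf inferInstance inferInstance
  have hcomp : ∀ x, π₂ (gg x) = (π.comp f) x := fun x => (DFunLike.congr_fun hfg x).symm
  have hk3 : ∀ z, gg z = 1 → z ^ 3 = 1 := by
    have h4 : Nat.card (π₂.comp gg).ker = Nat.card π₂.ker * Nat.card gg.ker := H68.Bounds.card_ker_comp hgg.surj
    have h5 : Nat.card (π.comp f).ker ∣ 12 := by
      have h6 := H990.TC.card_ker_dvd (Cfsg.Agent.S2109.result hF) hD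
      have h7 : Nat.card (Multiplicative (ZMod 3 × ZMod 2 × ZMod 2)) = 12 := by
        rw [Nat.card_congr (Multiplicative.toAdd (α := ZMod 3 × ZMod 2 × ZMod 2)), Nat.card_prod, Nat.card_prod,
          Nat.card_zmod, Nat.card_zmod]
      rwa [h7] at h6
    rw [hfg, h4, h2] at h5
    have h6 : Nat.card gg.ker ∣ 3 := Nat.dvd_of_mul_dvd_mul_left (by norm_num : 0 < 4) h5
    intro z hz
    have h7 : (⟨z, hz⟩ : gg.ker) ^ 3 = 1 := by
      obtain ⟨c, hc⟩ := h6
      rw [hc, pow_mul, pow_card_eq_one', one_pow]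
    exact congrArg Subtype.val h7
  obtain ⟨u, rfl⟩ := hf.surj g
  refine IsC.map f ?_
  have hζ : π₂ (gg (u ^ n)) = 1 := by rw [hcomp, map_pow]; exact hg
  -- the choice of the subgroup
  obtain ⟨m, hm⟩ : ∃ m : Fin 6, gg (u ^ n) = 1 ∨ gg (u ^ n) = zz sY m := by
    rcases hker _ hζ with h | h | h | h
    · exact ⟨0, Or.inl h⟩
    · exact ⟨0, Or.inr h⟩
    · exact ⟨3, Or.inr h⟩
    · exact ⟨2, Or.inr h⟩
  have hinj := fi_inj he hetop inferInstance m
  set T : Subgroup ↥(twistedE6 F 2) := (fiA (good_P6 he m)).range with hT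
  let eT : Spor.Fi22 ≃* T := MonoidHom.ofInjective hinj
  have hTc : Nat.card T = 64561751654400 := by rw [← Nat.card_congr eT.toEquiv]; exact card_Fi
  have hTi : T.index = 1185415168 := index_Fi hE hTc
  have hTp : commutator T = ⊤ :=
    Cfsg.Agent.KFacts.MulDef.commutator_top_of_surj eT.toMonoidHom eT.surjective perfect_Fi
  obtain ⟨c, hc1⟩ := hc T hTi
  obtain ⟨d, hd⟩ := hD.surj c
  refine IsC.of_conj d ?_
  have hvT : (π.comp f) (d * u * d⁻¹) ∈ T := by
    rw [map_mul, map_mul, map_inv, hd]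
    exact hc1
  have hvn : gg ((d * u * d⁻¹) ^ n) = gg (u ^ n) := by
    rw [conj_pow, map_mul, map_mul, map_inv, ← h1.comm hζ, mul_assoc, mul_inv_cancel, mul_one]
  have hmem : gg ((d * u * d⁻¹) ^ n) ∈ (⁅T.comap π₂, T.comap π₂⁆ : Subgroup (X sY)) := by
    rw [hvn]
    rcases hm with h | h
    · rw [h]; exact one_mem _
    · rw [h]
      refine zz_mem zrels_sY m fun i hi => ?_
      rw [mem_comap, hT, range_fiA (good_P6 he m)]
      exact subset_closure ⟨i, hi, rfl⟩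
  have hvC := mem_comm hD hgg.surj hcomp (fun z hz => zz_sq zrels_sY (hker z hz)) hk3 hTp
    (by rw [hTi]; norm_num) hn hvT hmem
  obtain ⟨ρ, hρ, hρP⟩ := pce_sub hD hTp
  have hNC := (hFi.congr eT).any hρP
  refine IsC.of_sub _ hvC (hNC ⟨d * u * d⁻¹, hvC⟩ fun hcen => ?_)
  have h8 : ρ ⟨d * u * d⁻¹, hvC⟩ ∈ center T := by
    rw [mem_center_iff] at hcen ⊢
    intro y
    obtain ⟨y, rfl⟩ := hρP.surj y
    rw [← map_mul, ← map_mul, hcen y]
  have h9 : eT.symm (ρ ⟨d * u * d⁻¹, hvC⟩) ∈ center Spor.Fi22 := by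
    rw [mem_center_iff] at h8 ⊢
    intro y
    apply eT.injective
    rw [map_mul, map_mul, eT.apply_symm_apply]
    exact h8 (eT y)
  rw [center_Fi, mem_bot, MulEquiv.map_eq_one_iff] at h9
  have h10 : (π.comp f) (d * u * d⁻¹) = 1 := by
    have h11 := hρ ⟨d * u * d⁻¹, hvC⟩
    rw [h9] at h11
    exact h11.symm
  apply hg1
  rw [map_mul, map_mul, map_inv] at h10
  have h11 : (π.comp f) u = 1 := by
    have h12 : (π.comp f) d * (π.comp f) u = (π.comp f) d := by
      rw [mul_inv_eq_one] at h10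
      exact h10
    exact mul_eq_left.1 h12
  exact h11

/-- **T3**: elements of order a power of `3, 5, 11, 13`. -/
theorem isC_of_primepow' (hFi : RowN Spor.Fi22) {F : Type w} [Field F] [Fintype F] (hF : Fintype.card F = 4)
    {M : Type u} [Group M] [Finite M] {π : M →* ↥(twistedE6 F 2)} (hπ : PCE π) {g : M} {p k : ℕ}
    (hp : p = 3 ∨ p = 5 ∨ p = 11 ∨ p = 13) (hg : π g ^ p ^ k = 1) (hg1 : π g ≠ 1) : IsC g := by
  have hE := BM.HBFinal.card_E F hF
  have hfin : Finite ↥(twistedE6 F 2) := Nat.finite_of_card_ne_zero (by rw [hE]; norm_num)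
  have hp' : p.Prime ∧ Odd p ∧ ¬ p ∣ 1185415168 := by
    rcases hp with rfl | rfl | rfl | rfl
    · exact ⟨by norm_num, by decide, by norm_num⟩
    · exact ⟨by norm_num, by decide, by norm_num⟩
    · exact ⟨by norm_num, by decide, by norm_num⟩
    · exact ⟨by norm_num, by decide, by norm_num⟩
  refine isC_of_odd hFi hF hπ (hp'.2.1.pow) hg hg1 fun T hT => ?_
  exact exists_conj_mem hp'.1 (by rw [hT]; exact hp'.2.2) hg

end Cfsg.Agent.H494.TE
end

-- part: H494/TE/ThreeFin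
section
/-!
# `²E₆(2)`: elements of order `3^k, 5^k, 11^k, 13^k` in the covers (helper494; box T3 of the row F4 of S2491)
-/

set_option autoImplicit false

namespace Cfsg.Agent.H494.TE

open Cfsg.Agent.H51.Mult Cfsg.Agent.H777.Ore Cfsg.Lie

universe u w

/-- **T3**: in every finite perfect central extension of `²E₆(2)` every element over a nontrivial element of order a
power of `3, 5, 11` or `13` is a commutator. -/
theorem isC_of_primepow {F : Type w} [Field F] [Fintype F] (hF : Fintype.card F = 4)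
    {M : Type u} [Group M] [Finite M] {π : M →* ↥(twistedE6 F 2)} (hπ : PCE π) {g : M} {p k : ℕ}
    (hp : p = 3 ∨ p = 5 ∨ p = 11 ∨ p = 13) (hg : π g ^ p ^ k = 1) (hg1 : π g ≠ 1) : IsC g :=
  isC_of_primepow' Cfsg.Agent.H326.QS.FiRow.rowN_Fi22 hF hπ hp hg hg1

end Cfsg.Agent.H494.TE
end

-- part: H903/QF/SevenA
section
/-!
# S2491, row F4 = `²E₆(2)`, box E7 (helper903), part A: an element of order `7` of the Levi subgroup `A₂ A₂ A₁` of `E₆(K)`

`K` finite of characteristic two, `a ^ 3 = a + 1`. The image of the companion matrix of `x ^ 3 - x - 1` in both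
factors `A₂`; its fixed points on the unipotent radical `V_J` lie in the product of the two highest root groups.
-/

set_option autoImplicit false
set_option linter.unusedSectionVars false
set_option linter.unusedVariables false

namespace Cfsg.Agent.H903.QF.SevenA

open CoxeterSystem Cfsg.Agent.ChevalleyStructure.CoxeterGeom Cfsg.Agent.Tits.Roots Cfsg.Agent.Tits.Core
  Cfsg.Agent.Nodes Cfsg.Agent.Nodes.Reps Cfsg.Agent.Nodes.BNOf Cfsg.Agent.Nodes.RGDLib Cfsg.Agent.Nodes.Bruhat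
  Cfsg.Agent.Nodes.OppDec Cfsg.Agent.Nodes.LeviDec Cfsg.Agent.Nodes.StabComb Cfsg.Agent.Nodes.KindChev
  Cfsg.Agent.Nodes.ChevCls Cfsg.Agent.Nodes.NormalForm
  Cfsg.Agent.OddHalf.NI.ModelChev
  Cfsg.Agent.H162.GaussDec Cfsg.Agent.H162.GaussLevi Cfsg.Agent.H162.GaussSL Cfsg.Agent.H162.GaussReg
  Cfsg.Agent.H162.GaussExc
  Cfsg.Agent.H928.Ore.Frame Cfsg.Agent.H928.Ore.Fix Cfsg.Agent.H928.Ore.Block
open Cfsg.Lie Cfsg.Agent.ChevalleyStructure Cfsg.Agent.ChevalleyStructure.Elts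
  Cfsg.Agent.ChevalleyStructure.NPerm
  Cfsg.Agent.ChevalleyStructure.CoxeterGeomTypes Cfsg.Agent.Nodes.RGDChev Cfsg.Agent.KFacts.RgdChevCoord
open Cfsg.Agent.TitsThree.KExcRT
open Cfsg.Agent.H162.GaussExcMain (exists_hom_D)
open Cfsg.Agent.H584.Ore.Build (comm_blocks Orth)
open Matrix (SpecialLinearGroup)
open Matrix.SpecialLinearGroup (transvection)

open scoped MatrixGroups commutatorElement

universe u v

/-- the nodes `2`, `0` -/
def rA : Fin 3 → Fin 3 → ℕ := ![![0, 42, 57], ![29, 0, 56], ![14, 15, 0]]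

/-- the nodes `4`, `5` -/
def rB : Fin 3 → Fin 3 → ℕ := ![![0, 37, 38], ![34, 0, 36], ![33, 35, 0]]

theorem rtA : RTa chevE6 rA ∧ (RTb chevE6 rA fun _ _ => 1) ∧ RTc chevE6 rA ∧
    ∀ i j, i ≠ j → rA j i = chevE6.neg (rA i j) := by decide +kernel

theorem rtB : RTa chevE6 rB ∧ (RTb chevE6 rB fun _ _ => -1) ∧ RTc chevE6 rB ∧
    ∀ i j, i ≠ j → rB j i = chevE6.neg (rB i j) := by decide +kernel

theorem simp6 : rA 0 1 = chevE6.simple 2 ∧ rA 1 2 = chevE6.simple 0 ∧ rB 0 1 = chevE6.simple 4 ∧ rB 1 2 = chevE6.simple 5 := by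
  decide +kernel

theorem ltA : ∀ a b, a ≠ b → rA a b < 72 := by decide +kernel

theorem ltB : ∀ a b, a ≠ b → rB a b < 72 := by decide +kernel

theorem oAB : Orth chevE6 rA rB := by decide +kernel

theorem oZ : ∀ a b, a ≠ b → (70 ≠ rA a b ∧ 70 ≠ chevE6.neg (rA a b) ∧ chevE6.commTerms (rA a b) 70 = []) ∧
    (71 ≠ rA a b ∧ 71 ≠ chevE6.neg (rA a b) ∧ chevE6.commTerms (rA a b) 71 = []) ∧
    (70 ≠ rB a b ∧ 70 ≠ chevE6.neg (rB a b) ∧ chevE6.commTerms (rB a b) 70 = []) ∧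
    (71 ≠ rB a b ∧ 71 ≠ chevE6.neg (rB a b) ∧ chevE6.commTerms (rB a b) 71 = []) := by decide +kernel

theorem o46 : chevE6.simple 1 = 46 ∧ (70 ≠ 46 ∧ 70 ≠ chevE6.neg 46 ∧ chevE6.commTerms 46 70 = [(71, 1, 1, 1)]) ∧
    (71 ≠ 46 ∧ 71 ≠ chevE6.neg 46 ∧ chevE6.commTerms 46 71 = []) ∧
    (71 ≠ 70 ∧ 71 ≠ chevE6.neg 70 ∧ chevE6.commTerms 70 71 = []) := by decide +kernel

theorem suppA : ∀ a b : Fin 3, a ≠ b → vec chevE6 6 (rA a b) 3 = 0 ∧ vec chevE6 6 (rB a b) 3 = 0 := by decide +kernel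

theorem pos70 : (∀ k, 0 ≤ vec chevE6 6 70 k) ∧ (∀ k, 0 ≤ vec chevE6 6 71 k) ∧ vec chevE6 6 70 3 = 3 ∧
    vec chevE6 6 71 3 = 3 := by decide +kernel

theorem expo : ∀ r : Fin 72, (∀ k, 0 ≤ vec chevE6 6 r k) → r.val = 46 ∨ r.val = 70 ∨ r.val = 71 ∨
    ((chevE6.cartan 2 r + chevE6.cartan 4 r) + 3 * (chevE6.cartan 0 r + chevE6.cartan 5 r)) % 7 ≠ 0 := by decide +kernel

/-- all nodes but the node `3` -/
def J6 : Set (Fin 6) := {k | k ≠ 3}

section

variable {K : Type u} [Field K]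

theorem comm_root {r s : ℕ} (hr : r < 72) (hs : s < 72) (h1 : s ≠ r) (h2 : s ≠ chevE6.neg r)
    (h3 : chevE6.commTerms r s = []) (a b : K) : xc RGDTwE6.hp (vec chevE6 6 r) a * xc RGDTwE6.hp (vec chevE6 6 s) b =
      xc RGDTwE6.hp (vec chevE6 6 s) b * xc RGDTwE6.hp (vec chevE6 6 r) a := by
  have h4 := comm_xG RGDTwE6.hp (K := K) hr hs h1 h2 a b
  have h5 : chevE6.commWord K r s a b = [] := by
    change (chevE6.commTerms r s).map _ = []
    rw [h3, List.map_nil]
  rw [h5, wordG_nil, commutatorElement_def, inv_inv, inv_inv] at h4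
  apply Subtype.ext
  change ((xc RGDTwE6.hp (vec chevE6 6 r) a : ↥(chevE6.group K)) : GL chevE6.Idx K) *
    ((xc RGDTwE6.hp (vec chevE6 6 s) b : ↥(chevE6.group K)) : GL chevE6.Idx K) = _ * _
  rw [coe_xc RGDTwE6.hp hr, coe_xc RGDTwE6.hp hs]
  generalize xG (F := K) RGDTwE6.hp.inList r a = A at h4 ⊢
  generalize xG (F := K) RGDTwE6.hp.inList s b = B at h4 ⊢
  calc A * B = (B * A) * (A⁻¹ * B⁻¹ * A * B) := by group
    _ = B * A * (B⁻¹ * A⁻¹ * B * A)⁻¹ := by group
    _ = B * A := by rw [h4, inv_one, mul_one]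

theorem comm46 (a b : K) : xc RGDTwE6.hp (vec chevE6 6 46) a * xc RGDTwE6.hp (vec chevE6 6 70) b =
      xc RGDTwE6.hp (vec chevE6 6 70) b * xc RGDTwE6.hp (vec chevE6 6 71) (a * b) * xc RGDTwE6.hp (vec chevE6 6 46) a := by
  have h4 := comm_xG RGDTwE6.hp (K := K) (r := 46) (s := 70) (by decide) (by decide) o46.2.1.1 o46.2.1.2.1 (-a) b
  have h5 : chevE6.commWord K 46 70 (-a) b = [(71, a * b)] := by
    change (chevE6.commTerms 46 70).map _ = [(71, a * b)]
    rw [o46.2.1.2.2, List.map_singleton]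
    simp
  rw [h5, wordG_cons, wordG_nil, mul_one, commutatorElement_def, inv_inv, inv_inv, ← xG_inv RGDTwE6.hp.inList, inv_inv] at h4
  apply Subtype.ext
  change ((xc RGDTwE6.hp (vec chevE6 6 46) a : ↥(chevE6.group K)) : GL chevE6.Idx K) *
    ((xc RGDTwE6.hp (vec chevE6 6 70) b : ↥(chevE6.group K)) : GL chevE6.Idx K) =
    ((xc RGDTwE6.hp (vec chevE6 6 70) b : ↥(chevE6.group K)) : GL chevE6.Idx K) *
    ((xc RGDTwE6.hp (vec chevE6 6 71) (a * b) : ↥(chevE6.group K)) : GL chevE6.Idx K) *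
    ((xc RGDTwE6.hp (vec chevE6 6 46) a : ↥(chevE6.group K)) : GL chevE6.Idx K)
  rw [coe_xc RGDTwE6.hp (by decide), coe_xc RGDTwE6.hp (by decide), coe_xc RGDTwE6.hp (by decide)]
  generalize xG (F := K) RGDTwE6.hp.inList 46 a = A at h4 ⊢
  generalize xG (F := K) RGDTwE6.hp.inList 70 b = B at h4 ⊢
  rw [← h4]
  group

/-! ### The torus element -/

/-- the exponents -/
noncomputable def sg (a : Kˣ) : Fin 6 → Kˣ :=
  (Pi.mulSingle 2 a * Pi.mulSingle 0 (a ^ 3)) * (Pi.mulSingle 4 a * Pi.mulSingle 5 (a ^ 3))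

theorem prod_single {r : ℕ} (i : Fin 6) (u : Kˣ) : ∏ k, (((Pi.mulSingle i u : Fin 6 → Kˣ) k : Kˣ) : K) ^ chevE6.cartan k r =
    (u : K) ^ chevE6.cartan i r := by
  rw [Finset.prod_eq_single i]
  · rw [Pi.mulSingle_eq_same]
  · intro k _ hk
    rw [Pi.mulSingle_eq_of_ne hk, Units.val_one, _root_.one_zpow]
  · intro hi; exact absurd (Finset.mem_univ i) hi

theorem prod_mul (s t : Fin 6 → Kˣ) (r : ℕ) : ∏ k : Fin 6, (((s * t) k : Kˣ) : K) ^ chevE6.cartan k r =
    (∏ k : Fin 6, ((s k : Kˣ) : K) ^ chevE6.cartan k r) * ∏ k : Fin 6, ((t k : Kˣ) : K) ^ chevE6.cartan k r := by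
  rw [← Finset.prod_mul_distrib]
  refine Finset.prod_congr rfl fun k _ => ?_
  rw [Pi.mul_apply, Units.val_mul, mul_zpow]

theorem ch_sg (a : Kˣ) {r : ℕ} (hr : r < 72) : ch RGDTwE6.hp (vec chevE6 6 r) (th RGDTwE6.hp (sg a)) =
    ((a ^ ((chevE6.cartan 2 r + chevE6.cartan 4 r) + 3 * (chevE6.cartan 0 r + chevE6.cartan 5 r)) : Kˣ) : K) := by
  rw [ch_th RGDTwE6.hp hr]
  unfold sg
  rw [prod_mul, prod_mul, prod_mul, prod_single, prod_single, prod_single, prod_single]
  have h0 : (a : K) ≠ 0 := a.ne_zero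
  push_cast
  rw [← zpow_natCast, ← zpow_mul, ← zpow_mul, ← zpow_add₀ h0, ← zpow_add₀ h0, ← zpow_add₀ h0]
  congr 1
  have e2 : chevE6.cartan ((2 : Fin 6) : ℕ) r = chevE6.cartan 2 r := rfl
  have e0 : chevE6.cartan ((0 : Fin 6) : ℕ) r = chevE6.cartan 0 r := rfl
  have e4 : chevE6.cartan ((4 : Fin 6) : ℕ) r = chevE6.cartan 4 r := rfl
  have e5 : chevE6.cartan ((5 : Fin 6) : ℕ) r = chevE6.cartan 5 r := rfl
  rw [e2, e0, e4, e5]
  push_cast
  ring

/-- the group generated by the two highest root groups -/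
def Z3 (K : Type u) [Field K] : Subgroup ↥(chevE6.group K) := XX chevE6 6 K (vec chevE6 6 70) ⊔ XX chevE6 6 K (vec chevE6 6 71)

theorem le_norm {G : Type*} [Group G] {A N : Subgroup G} (h : ∀ u ∈ A, ∀ x ∈ N, u * x * u⁻¹ ∈ N) :
    A ≤ Subgroup.normalizer (N : Set G) := by
  intro u hu
  rw [Subgroup.mem_normalizer_iff]
  intro x
  refine ⟨fun hx => h u hu x hx, fun hx => ?_⟩
  have := h u⁻¹ (inv_mem hu) _ hx
  have e : u⁻¹ * (u * x * u⁻¹) * u⁻¹⁻¹ = x := by group
  rwa [e] at this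

theorem mem_sup_of {G : Type*} [Group G] {A N : Subgroup G} (h : ∀ u ∈ A, ∀ x ∈ N, u * x * u⁻¹ ∈ N) {y : G}
    (hy : y ∈ A ⊔ N) : ∃ u ∈ A, ∃ v ∈ N, y = u * v := by
  have h1 : y ∈ ((A ⊔ N : Subgroup G) : Set G) := hy
  rw [Subgroup.coe_mul_of_left_le_normalizer_right _ _ (le_norm h), Set.mem_mul] at h1
  obtain ⟨l, hl, v, hv, e⟩ := h1
  exact ⟨l, hl, v, hv, e.symm⟩

theorem mem_Z3 {x : ↥(chevE6.group K)} (hx : x ∈ Z3 K) : ∃ a b : K, x = xc RGDTwE6.hp (vec chevE6 6 70) a *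
    xc RGDTwE6.hp (vec chevE6 6 71) b := by
  obtain ⟨u, hu, v, hv, rfl⟩ := mem_sup_of (A := XX chevE6 6 K (vec chevE6 6 70)) (N := XX chevE6 6 K (vec chevE6 6 71))
    (fun u hu x hx => by
      obtain ⟨a, rfl⟩ := (mem_XX RGDTwE6.hp (by decide) _).1 hu
      obtain ⟨b, rfl⟩ := (mem_XX RGDTwE6.hp (by decide) _).1 hx
      rw [comm_root (by decide) (by decide) o46.2.2.2.1 o46.2.2.2.2.1 o46.2.2.2.2.2, mul_inv_cancel_right]
      exact hx) hx
  obtain ⟨a, rfl⟩ := (mem_XX RGDTwE6.hp (by decide) _).1 hu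
  obtain ⟨b, rfl⟩ := (mem_XX RGDTwE6.hp (by decide) _).1 hv
  exact ⟨a, b, rfl⟩

theorem norm46 : ∀ u ∈ XX chevE6 6 K (vec chevE6 6 46), ∀ x ∈ Z3 K, u * x * u⁻¹ ∈ Z3 K := by
  intro u hu
  have h1 : Z3 K ≤ (Z3 K).comap (MulAut.conj u).toMonoidHom := by
    refine sup_le (fun x hx => ?_) (fun x hx => ?_)
    · rw [Subgroup.mem_comap]
      change u * x * u⁻¹ ∈ _
      obtain ⟨a, rfl⟩ := (mem_XX RGDTwE6.hp (by decide) _).1 hu
      obtain ⟨b, rfl⟩ := (mem_XX RGDTwE6.hp (by decide) _).1 hx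
      rw [comm46, mul_inv_cancel_right]
      exact mul_mem ((le_sup_left : _ ≤ Z3 K) hx) ((le_sup_right : _ ≤ Z3 K) ((mem_XX RGDTwE6.hp (by decide) _).2 ⟨_, rfl⟩))
    · rw [Subgroup.mem_comap]
      change u * x * u⁻¹ ∈ _
      obtain ⟨a, rfl⟩ := (mem_XX RGDTwE6.hp (by decide) _).1 hu
      obtain ⟨b, rfl⟩ := (mem_XX RGDTwE6.hp (by decide) _).1 hx
      rw [comm_root (by decide) (by decide) o46.2.2.1.1 o46.2.2.1.2.1 o46.2.2.1.2.2, mul_inv_cancel_right]
      exact (le_sup_right : _ ≤ Z3 K) hx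
  exact fun x hx => h1 hx

variable [Finite K]

/-- **Fixed points of the torus element on `V_J`** -/
theorem fix_t {a : Kˣ} (ha : orderOf a = 7) {y : ↥(chevE6.group K)}
    (hy : y ∈ VJ CoxeterMatrix.E₆.toCoxeterSystem RGDTwE6.hp.isCartan (XX chevE6 6 K) J6)
    (h : th RGDTwE6.hp (sg a) * y = y * th RGDTwE6.hp (sg a)) : y ∈ Z3 K := by
  obtain ⟨p, hpc⟩ := CharP.exists K
  have : Fact p.Prime := ⟨(CharP.char_is_prime_or_zero K p).resolve_right (CharP.char_ne_zero_of_finite K p)⟩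
  have hW := finite_W RGDTwE6.hp CoxeterMatrix.E₆.toCoxeterSystem
  have R := rgd (K := K) RGDTwE6.hp CoxeterMatrix.E₆.toCoxeterSystem p
  have ht : th RGDTwE6.hp (sg a) ∈ TT chevE6 K := (thT RGDTwE6.hp (sg a)).2
  have h1 : y ∈ RGD.Sup (XX chevE6 6 K) (RGD.Pos CoxeterMatrix.E₆.toCoxeterSystem RGDTwE6.hp.isCartan) ⊓
      Subgroup.centralizer {th RGDTwE6.hp (sg a)} :=
    Subgroup.mem_inf.2 ⟨VJ_le_U J6 hy, Subgroup.mem_centralizer_singleton_iff.2 h.symm⟩
  rw [centralizer_U R (Set.singleton_subset_iff.2 ht)] at h1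
  have h2 : y ∈ XX chevE6 6 K (vec chevE6 6 46) ⊔ Z3 K := by
    refine RGD.Sup_le (fun z hz => ?_) h1
    obtain ⟨r, hr, rfl⟩ := (isRoot_iff RGDTwE6.hp _ z).1 hz.1
    rintro x ⟨hx, hxc⟩
    obtain ⟨c, rfl⟩ := (mem_XX RGDTwE6.hp hr x).1 hx
    rcases expo ⟨r, hr⟩ hz.2 with h3 | h3 | h3 | h3
    · have h3' : r = 46 := h3
      subst h3'
      exact (le_sup_left : _ ≤ XX chevE6 6 K (vec chevE6 6 46) ⊔ Z3 K) hx
    · have h3' : r = 70 := h3
      subst h3'
      exact (le_trans (le_sup_left : _ ≤ Z3 K) le_sup_right) hx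
    · have h3' : r = 71 := h3
      subst h3'
      exact (le_trans (le_sup_right : _ ≤ Z3 K) le_sup_right) hx
    · have h4 := (act RGDTwE6.hp hr ht).2 c
      have h5 := Subgroup.mem_centralizer_singleton_iff.1 hxc
      rw [← h5, mul_inv_cancel_right] at h4
      have h6 := xc_inj RGDTwE6.hp hr h4
      rw [ch_sg a hr] at h6
      have h7 : c = 0 := by
        by_contra hc
        have h8 : ((a ^ ((chevE6.cartan 2 r + chevE6.cartan 4 r) + 3 * (chevE6.cartan 0 r + chevE6.cartan 5 r)) : Kˣ) : K) = 1 := by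
          have := mul_right_cancel₀ hc ((one_mul c).trans h6)
          exact this.symm
        have h9 := orderOf_dvd_iff_zpow_eq_one.2 (Units.ext h8)
        rw [ha] at h9
        exact h3 (Int.emod_eq_zero_of_dvd h9)
      rw [h7, xc_zero RGDTwE6.hp hr]
      exact one_mem _
  obtain ⟨u, hu, v, hv, rfl⟩ := mem_sup_of norm46 h2
  have hv' : v ∈ VJ CoxeterMatrix.E₆.toCoxeterSystem RGDTwE6.hp.isCartan (XX chevE6 6 K) J6 := by
    refine (sup_le ?_ ?_ : Z3 K ≤ _) hv
    · refine RGD.le_Sup ⟨isRoot_vec RGDTwE6.hp _ (by decide), pos70.1, 3, fun h => h rfl, ?_⟩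
      rw [pos70.2.2.1]; norm_num
    · refine RGD.le_Sup ⟨isRoot_vec RGDTwE6.hp _ (by decide), pos70.2.1, 3, fun h => h rfl, ?_⟩
      rw [pos70.2.2.2]; norm_num
  have hu' : u ∈ UJ CoxeterMatrix.E₆.toCoxeterSystem RGDTwE6.hp.isCartan (XX chevE6 6 K) J6 := by
    have e : vec chevE6 6 46 = sr (1 : Fin 6) := by
      rw [← vec_simple RGDTwE6.hp 1]
      congr 1
      
    rw [e] at hu
    exact RGD.le_Sup (sr_mem_PosJ (show (1 : Fin 6) ∈ J6 from fun h => absurd h (by decide))) hu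
  have h3 : u ∈ UJ CoxeterMatrix.E₆.toCoxeterSystem RGDTwE6.hp.isCartan (XX chevE6 6 K) J6 ⊓
      VJ CoxeterMatrix.E₆.toCoxeterSystem RGDTwE6.hp.isCartan (XX chevE6 6 K) J6 := by
    have e : u = u * v * v⁻¹ := by group
    refine Subgroup.mem_inf.2 ⟨hu', ?_⟩
    rw [e]
    exact mul_mem hy (inv_mem hv')
  rw [UJ_inf_VJ R J6, Subgroup.mem_bot] at h3
  rw [h3, one_mul]
  exact hv

end

end Cfsg.Agent.H903.QF.SevenA
end

-- part: H903/QF/SevenB
section
/-!
# S2491, row F4 = `²E₆(2)`, box E7 (helper903), part B: the element of order `7`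

`W7 K` : the product of root elements over the prime field. `fix_W7` : over a finite field of characteristic two with a root
of `x ^ 3 - x - 1` its fixed points on `V_J` lie in `Z3`; `W7_pow`, `W7_ne`.
-/

set_option autoImplicit false
set_option linter.unusedSectionVars false
set_option linter.unusedVariables false

namespace Cfsg.Agent.H903.QF.SevenB

open CoxeterSystem Cfsg.Agent.ChevalleyStructure.CoxeterGeom Cfsg.Agent.Tits.Roots Cfsg.Agent.Tits.Core
  Cfsg.Agent.Nodes Cfsg.Agent.Nodes.Reps Cfsg.Agent.Nodes.BNOf Cfsg.Agent.Nodes.RGDLib Cfsg.Agent.Nodes.Bruhat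
  Cfsg.Agent.Nodes.OppDec Cfsg.Agent.Nodes.LeviDec Cfsg.Agent.Nodes.StabComb Cfsg.Agent.Nodes.KindChev
  Cfsg.Agent.Nodes.ChevCls Cfsg.Agent.Nodes.NormalForm
  Cfsg.Agent.OddHalf.NI.ModelChev
  Cfsg.Agent.H162.GaussDec Cfsg.Agent.H162.GaussLevi Cfsg.Agent.H162.GaussSL Cfsg.Agent.H162.GaussReg
  Cfsg.Agent.H162.GaussExc
  Cfsg.Agent.H928.Ore.Frame Cfsg.Agent.H928.Ore.Fix Cfsg.Agent.H928.Ore.Block
open Cfsg.Lie Cfsg.Agent.ChevalleyStructure Cfsg.Agent.ChevalleyStructure.Elts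
  Cfsg.Agent.ChevalleyStructure.NPerm
  Cfsg.Agent.ChevalleyStructure.CoxeterGeomTypes Cfsg.Agent.Nodes.RGDChev Cfsg.Agent.KFacts.RgdChevCoord
open Cfsg.Agent.TitsThree.KExcRT
open Cfsg.Agent.H162.GaussExcMain (exists_hom_D)
open Cfsg.Agent.H584.Ore.Build (comm_blocks Orth)
open Cfsg.Agent.H928.Ore.TwS (comm_gen)
open Matrix (SpecialLinearGroup)
open Matrix.SpecialLinearGroup (transvection)
open Cfsg.Agent.H903.QF.SevenA

open scoped MatrixGroups commutatorElement

universe u v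

/-! ### The matrix -/

section Mat

variable {K : Type u} [Field K]

/-- the companion matrix of `x ^ 3 - x - 1`, characteristic two -/
def tm (K : Type u) [Field K] : _root_.Matrix.SpecialLinearGroup (Fin 3) K :=
  transvection (show (0 : Fin 3) ≠ 1 by decide) (1 : K) * transvection (show (1 : Fin 3) ≠ 2 by decide) (1 : K) *
    transvection (show (1 : Fin 3) ≠ 0 by decide) (1 : K) * transvection (show (2 : Fin 3) ≠ 1 by decide) (1 : K) *
    transvection (show (1 : Fin 3) ≠ 2 by decide) (1 : K)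

theorem coe_tm (h2 : (2 : K) = 0) : ((tm K : _root_.Matrix.SpecialLinearGroup (Fin 3) K) : Matrix (Fin 3) (Fin 3) K) =
    !![0, 0, 1; 1, 0, 1; 0, 1, 0] := by
  have h01 : ∀ c : K, ((transvection (show (0 : Fin 3) ≠ 1 by decide) c :
      Matrix.SpecialLinearGroup (Fin 3) K) : Matrix (Fin 3) (Fin 3) K) = !![1, c, 0; 0, 1, 0; 0, 0, 1] := by
    intro c; rw [tv_coe]; ext i j; (revert i j; simp only [Matrix.single, _root_.Fin.forall_fin_succ, Fin.isValue, _root_.Matrix.add_apply, _root_.Matrix.of_apply, _root_.Matrix.cons_val', _root_.Matrix.cons_val_fin_one, _root_.one_ne_zero, _root_.and_false, ↓reduceIte, _root_.add_zero, _root_.Matrix.cons_val_zero, _root_.Matrix.cons_val_succ, _root_.Fin.succ_zero_eq_one, _root_.and_true, _root_.Fin.succ_one_eq_two, Fin.reduceEq, _root_.IsEmpty.forall_iff, _root_.Matrix.one_apply_eq, Nat.reduceAdd, _root_.ne_eq, _root_.zero_ne_one, _root_.not_false_eq_true, _root_.Matrix.one_apply_ne, _root_.zero_add,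 _root_.and_self, _root_.Fin.succ_ne_zero, _root_.true_and])
  have h10 : ∀ c : K, ((transvection (show (1 : Fin 3) ≠ 0 by decide) c :
      Matrix.SpecialLinearGroup (Fin 3) K) : Matrix (Fin 3) (Fin 3) K) = !![1, 0, 0; c, 1, 0; 0, 0, 1] := by
    intro c; rw [tv_coe]; ext i j; (revert i j; simp only [Matrix.single, _root_.Fin.forall_fin_succ, Fin.isValue, _root_.Matrix.add_apply, _root_.Matrix.of_apply, _root_.Matrix.cons_val', _root_.Matrix.cons_val_fin_one, _root_.and_true, _root_.Matrix.cons_val_zero, _root_.Matrix.cons_val_succ, _root_.Fin.succ_zero_eq_one, _root_.zero_ne_one, _root_.and_false, ↓reduceIte, _root_.add_zero, _root_.Fin.succ_one_eq_two, Fin.reduceEq, _root_.IsEmpty.forall_iff, _root_.Matrix.one_apply_eq, _root_.one_ne_zero, Nat.reduceAdd, _root_.ne_eq, _root_.not_false_eq_true, _root_.Matrix.one_apply_ne, _root_.and_self, _root_.Fin.succ_ne_zero, _root_.zero_add, _root_.ite_eq_right_iff])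
  have h12 : ∀ c : K, ((transvection (show (1 : Fin 3) ≠ 2 by decide) c :
      Matrix.SpecialLinearGroup (Fin 3) K) : Matrix (Fin 3) (Fin 3) K) = !![1, 0, 0; 0, 1, c; 0, 0, 1] := by
    intro c; rw [tv_coe]; ext i j; (revert i j; simp only [Matrix.single, _root_.Fin.forall_fin_succ, Fin.isValue, _root_.Matrix.add_apply, _root_.Matrix.of_apply, _root_.Matrix.cons_val', _root_.Matrix.cons_val_fin_one, Fin.reduceEq, _root_.and_false, ↓reduceIte, _root_.add_zero, _root_.Matrix.cons_val_zero, _root_.Matrix.cons_val_succ, _root_.Fin.succ_zero_eq_one, _root_.Fin.succ_one_eq_two, _root_.and_true, _root_.IsEmpty.forall_iff, _root_.Matrix.one_apply_eq, Nat.reduceAdd, _root_.ne_eq, _root_.zero_ne_one, _root_.not_false_eq_true, _root_.Matrix.one_apply_ne, _root_.one_ne_zero, _root_.and_self, _root_.Fin.succ_ne_zero, _root_.zero_add, _root_.true_and])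
  have h21 : ∀ c : K, ((transvection (show (2 : Fin 3) ≠ 1 by decide) c :
      Matrix.SpecialLinearGroup (Fin 3) K) : Matrix (Fin 3) (Fin 3) K) = !![1, 0, 0; 0, 1, 0; 0, c, 1] := by
    intro c; rw [tv_coe]; ext i j; (revert i j; simp only [Matrix.single, _root_.Fin.forall_fin_succ, Fin.isValue, _root_.Matrix.add_apply, _root_.Matrix.of_apply, _root_.Matrix.cons_val', _root_.Matrix.cons_val_fin_one, _root_.one_ne_zero, _root_.and_false, ↓reduceIte, _root_.add_zero, _root_.Matrix.cons_val_zero, _root_.Matrix.cons_val_succ, _root_.Fin.succ_zero_eq_one, _root_.and_true, _root_.Fin.succ_one_eq_two, Fin.reduceEq, _root_.IsEmpty.forall_iff, _root_.Matrix.one_apply_eq, Nat.reduceAdd, _root_.ne_eq, _root_.zero_ne_one, _root_.not_false_eq_true, _root_.Matrix.one_apply_ne, _root_.and_self, _root_.Fin.succ_ne_zero, _root_.true_and, _root_.zero_add])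
  have h3 : (1 : K) + 1 = 0 := by rw [← h2]; norm_num
  refine (m3 (m3 (m3 (m3 (h01 1) (h12 1)) (h10 1)) (h21 1)) (h12 1)).trans ?_
  ext i j
  (revert i j; simp only [Matrix.mul_apply, Fin.sum_univ_three, h3, _root_.Fin.forall_fin_succ, _root_.Matrix.cons_mul, _root_.Nat.succ_eq_add_one, Nat.reduceAdd, _root_.Matrix.vecMul_cons, _root_.Matrix.head_cons, _root_.one_smul, _root_.Matrix.tail_cons, _root_.zero_smul, _root_.Matrix.empty_vecMul, _root_.add_zero, _root_.Matrix.add_cons, _root_.zero_add, _root_.Matrix.empty_add_empty, _root_.Matrix.empty_mul, _root_.Equiv.symm_apply_apply, _root_.Matrix.of_apply, _root_.Matrix.cons_val', _root_.Matrix.cons_val_fin_one, Fin.isValue, _root_.Matrix.cons_val_zero, _root_.Matrix.cons_val_one, _root_.Matrix.cons_val, _root_.mul_one, _root_.MulZeroClass.mul_zero, _root_.Matrix.cons_val_succ, _root_.forall_const, _root_.true_and, _root_.implies_true, _root_.and_self])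

/-- the matrix of the eigenvectors -/
def mP (a : K) (ha : a ^ 3 = a + 1) (h2 : (2 : K) = 0) : _root_.Matrix.SpecialLinearGroup (Fin 3) K :=
  ⟨!![1, 1, 1; a ^ 2, a ^ 4, a; a, a ^ 2, a ^ 4], by
    rw [Matrix.det_fin_three]
    simp only [Matrix.of_apply, Matrix.cons_val', Matrix.cons_val_zero, Matrix.cons_val_one, Matrix.cons_val]
    linear_combination (a ^ 5 + a - 1) * ha + (a ^ 2 - 1) * h2⟩

theorem pow7 {a : K} (ha : a ^ 3 = a + 1) (h2 : (2 : K) = 0) : a ^ 7 = 1 := by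
  linear_combination (a ^ 4 + a ^ 2 + a + 1) * ha + (a ^ 2 + a) * h2

theorem tm_eq {a : Kˣ} (ha : (a : K) ^ 3 = a + 1) (h2 : (2 : K) = 0) :
    tm K = mP (a : K) ha h2 * dg3 a (a ^ 3) * (mP (a : K) ha h2)⁻¹ := by
  rw [eq_mul_inv_iff_mul_eq]
  have h7 : a ^ 7 = 1 := Units.ext (pow7 ha h2)
  have e1 : a⁻¹ * a ^ 3 = a ^ 2 := by group
  have e2 : (a ^ 3)⁻¹ = a ^ 4 := by
    rw [inv_eq_iff_mul_eq_one, ← pow_add]; exact h7
  apply Subtype.ext
  rw [Matrix.SpecialLinearGroup.coe_mul, Matrix.SpecialLinearGroup.coe_mul, coe_tm h2]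
  change !![(0 : K), 0, 1; 1, 0, 1; 0, 1, 0] * !![1, 1, 1; (a : K) ^ 2, (a : K) ^ 4, (a : K); (a : K), (a : K) ^ 2, (a : K) ^ 4] =
    !![1, 1, 1; (a : K) ^ 2, (a : K) ^ 4, (a : K); (a : K), (a : K) ^ 2, (a : K) ^ 4] *
      Matrix.diagonal ![(a : K), ((a⁻¹ * a ^ 3 : Kˣ) : K), (((a ^ 3)⁻¹ : Kˣ) : K)]
  rw [e1, e2]
  push_cast
  have h7' := pow7 ha h2
  ext i j
  (revert i j; simp only [Matrix.mul_apply, Fin.sum_univ_three, _root_.Fin.forall_fin_succ, _root_.Matrix.of_apply, _root_.Matrix.cons_val', _root_.Matrix.cons_val_fin_one, Fin.isValue, _root_.Matrix.cons_val_zero, _root_.Matrix.cons_val_one, _root_.Matrix.cons_val, _root_.mul_one, _root_.Matrix.diagonal_apply_eq, _root_.ne_eq, _root_.one_ne_zero, _root_.not_false_eq_true, _root_.Matrix.diagonal_apply_ne, _root_.MulZeroClass.mul_zero, _root_.add_zero, Fin.reduceEq, _root_.Matrix.cons_val_succ, _root_.Fin.succ_zero_eq_one, _root_.zero_ne_one, _root_.zero_add, _root_.Fin.succ_one_eq_two,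 _root_.IsEmpty.forall_iff, _root_.MulZeroClass.zero_mul, _root_.one_mul, _root_.forall_const, _root_.and_true, _root_.true_and]) <;> (repeat' with_reducible apply And.intro) <;> ring_nf
  all_goals first
    | linear_combination -ha
    | linear_combination -((a : K) ^ 3 + a + 1) * ha - (a : K) * h2
    | linear_combination (-(a : K) ^ 2 + a - 1) * ha
    | linear_combination -(a : K) * h7'

end Mat

/-! ### The element of the group -/

section

variable {K : Type u} [Field K]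

/-- a product of two orthogonal root elements -/
noncomputable def yy (K : Type u) [Field K] (r s : ℕ) : ↥(chevE6.group K) :=
  xc RGDTwE6.hp (vec chevE6 6 r) (1 : K) * xc RGDTwE6.hp (vec chevE6 6 s) (1 : K)

/-- the element -/
noncomputable def W7 (K : Type u) [Field K] : ↥(chevE6.group K) :=
  yy K 42 37 * yy K 56 36 * yy K 29 34 * yy K 15 35 * yy K 56 36

theorem tabW : rA 0 1 = 42 ∧ rA 1 2 = 56 ∧ rA 1 0 = 29 ∧ rA 2 1 = 15 ∧ rB 0 1 = 37 ∧ rB 1 2 = 36 ∧ rB 1 0 = 34 ∧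
    rB 2 1 = 35 := by decide

/-- the two homomorphisms -/
theorem exists_hom : ∃ φA φB : _root_.Matrix.SpecialLinearGroup (Fin 3) K →* ↥(chevE6.group K),
    (∀ a b (hab : a ≠ b) c, φA (transvection hab c) = xc RGDTwE6.hp (vec chevE6 6 (rA a b)) (((1 : ℤ) : K) * c)) ∧
    (∀ a b (hab : a ≠ b) c, φB (transvection hab c) = xc RGDTwE6.hp (vec chevE6 6 (rB a b)) (((-1 : ℤ) : K) * c)) ∧
    ∃ f : _root_.Matrix.SpecialLinearGroup (Fin 3) K →* ↥(chevE6.group K), ∀ A, f A = φA A * φB A := by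
  obtain ⟨φA, hA⟩ := exists_hom_D RGDTwE6.hp (K := K) (ε := 1) (by norm_num) rtA.1 rtA.2.1 rtA.2.2.1 rtA.2.2.2
  obtain ⟨φB, hB⟩ := exists_hom_D RGDTwE6.hp (K := K) (ε := -1) (by norm_num) rtB.1 rtB.2.1 rtB.2.2.1 rtB.2.2.2
  have hc : ∀ x y, Commute (φA x) (φB y) := comm_blocks RGDTwE6.hp ltA ltB oAB (s₁ := fun _ _ => ((1 : ℤ) : K))
    (s₂ := fun _ _ => ((-1 : ℤ) : K)) hA hB
  refine ⟨φA, φB, hA, hB, ⟨⟨fun A => φA A * φB A, ?_⟩, ?_⟩, fun A => rfl⟩
  · change φA 1 * φB 1 = 1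
    rw [map_one, map_one, mul_one]
  · intro A B
    change φA (A * B) * φB (A * B) = φA A * φB A * (φA B * φB B)
    rw [map_mul, map_mul, mul_assoc, ← mul_assoc (φA B), (hc B A).eq, mul_assoc, mul_assoc]

theorem f_tm (h2 : (2 : K) = 0) {φA φB f : _root_.Matrix.SpecialLinearGroup (Fin 3) K →* ↥(chevE6.group K)}
    (hA : ∀ a b (hab : a ≠ b) c, φA (transvection hab c) = xc RGDTwE6.hp (vec chevE6 6 (rA a b)) (((1 : ℤ) : K) * c))
    (hB : ∀ a b (hab : a ≠ b) c, φB (transvection hab c) = xc RGDTwE6.hp (vec chevE6 6 (rB a b)) (((-1 : ℤ) : K) * c))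
    (hf : ∀ A, f A = φA A * φB A) : f (tm K) = W7 K := by
  have h1 : ((-1 : ℤ) : K) * 1 = 1 := by
    push_cast
    linear_combination -h2
  have h1' : ((1 : ℤ) : K) * 1 = 1 := by
    push_cast
    ring
  unfold tm W7
  rw [map_mul, map_mul, map_mul, map_mul]
  simp only [hf, hA, hB, h1, h1']
  obtain ⟨t1, t2, t3, t4, t5, t6, t7, t8⟩ := tabW
  rw [t1, t2, t3, t4, t5, t6, t7, t8]
  rfl

theorem order_a (h2 : (2 : K) = 0) {a : Kˣ} (ha : (a : K) ^ 3 = a + 1) : orderOf a = 7 := by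
  have h7 : a ^ 7 = 1 := Units.ext (pow7 ha h2)
  have : Fact (Nat.Prime 7) := ⟨by norm_num⟩
  refine orderOf_eq_prime_iff.2 ⟨h7, fun h1 => ?_⟩
  rw [h1, Units.val_one] at ha
  exact one_ne_zero (α := K) (by linear_combination -ha)

/-- `W7` is conjugate to the torus element -/
theorem exists_conj_t (h2 : (2 : K) = 0) {a : Kˣ} (ha : (a : K) ^ 3 = a + 1) :
    ∃ g ∈ LJ CoxeterMatrix.E₆.toCoxeterSystem RGDTwE6.hp.isCartan (TT chevE6 K) (XX chevE6 6 K) J6,
      (∀ z ∈ Z3 K, z * g = g * z) ∧ W7 K = g * th RGDTwE6.hp (_root_.Cfsg.Agent.H903.QF.SevenA.sg a) * g⁻¹ := by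
  obtain ⟨φA, φB, hA, hB, f, hf⟩ := exists_hom (K := K)
  have hfm : ∀ A, f A ∈ LJ CoxeterMatrix.E₆.toCoxeterSystem RGDTwE6.hp.isCartan (TT chevE6 K) (XX chevE6 6 K) J6 := by
    intro A
    rw [hf]
    have hk : ∀ k : Fin 6, k ∉ J6 → k = 3 := fun k hk => not_not.1 hk
    exact mul_mem (_root_.Cfsg.Agent.H928.Ore.Block.phi_mem RGDTwE6.hp ltA hA (fun a b hab k hkJ => by rw [hk k hkJ]; exact (suppA a b hab).1) A)
      (_root_.Cfsg.Agent.H928.Ore.Block.phi_mem RGDTwE6.hp ltB hB (fun a b hab k hkJ => by rw [hk k hkJ]; exact (suppA a b hab).2) A)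
  have hfz : ∀ A, ∀ z ∈ Z3 K, z * f A = f A * z := by
    intro A z hz
    obtain ⟨c, d, rfl⟩ := mem_Z3 hz
    have k1 : xc RGDTwE6.hp (vec chevE6 6 70) c * φA A = φA A * xc RGDTwE6.hp (vec chevE6 6 70) c :=
      comm_gen (fun a b hab t => by
        rw [hA]
        exact (comm_root (ltA a b hab) (by decide) (oZ a b hab).1.1 (oZ a b hab).1.2.1 (oZ a b hab).1.2.2 _ _).symm) A
    have k2 : xc RGDTwE6.hp (vec chevE6 6 71) d * φA A = φA A * xc RGDTwE6.hp (vec chevE6 6 71) d :=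
      comm_gen (fun a b hab t => by
        rw [hA]
        exact (comm_root (ltA a b hab) (by decide) (oZ a b hab).2.1.1 (oZ a b hab).2.1.2.1 (oZ a b hab).2.1.2.2 _ _).symm) A
    have k3 : xc RGDTwE6.hp (vec chevE6 6 70) c * φB A = φB A * xc RGDTwE6.hp (vec chevE6 6 70) c :=
      comm_gen (fun a b hab t => by
        rw [hB]
        exact (comm_root (ltB a b hab) (by decide) (oZ a b hab).2.2.1.1 (oZ a b hab).2.2.1.2.1 (oZ a b hab).2.2.1.2.2 _
          _).symm) A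
    have k4 : xc RGDTwE6.hp (vec chevE6 6 71) d * φB A = φB A * xc RGDTwE6.hp (vec chevE6 6 71) d :=
      comm_gen (fun a b hab t => by
        rw [hB]
        exact (comm_root (ltB a b hab) (by decide) (oZ a b hab).2.2.2.1 (oZ a b hab).2.2.2.2.1 (oZ a b hab).2.2.2.2.2 _
          _).symm) A
    rw [hf]
    generalize xc RGDTwE6.hp (vec chevE6 6 70) c = u at k1 k3 ⊢
    generalize xc RGDTwE6.hp (vec chevE6 6 71) d = v at k2 k4 ⊢
    calc u * v * (φA A * φB A) = u * (v * φA A) * φB A := by group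
      _ = (u * φA A) * (v * φB A) := by rw [k2]; group
      _ = φA A * (u * φB A) * v := by rw [k1, k4]; group
      _ = φA A * φB A * (u * v) := by rw [k3]; group
  have hfd : f (dg3 a (a ^ 3)) = th RGDTwE6.hp (_root_.Cfsg.Agent.H903.QF.SevenA.sg a) := by
    rw [hf, phi_dg3 RGDTwE6.hp (by norm_num) ltA rtA.2.2.2 hA (i := (2 : Fin 6)) (j := (0 : Fin 6)) simp6.1 simp6.2.1,
      phi_dg3 RGDTwE6.hp (by norm_num) ltB rtB.2.2.2 hB (i := (4 : Fin 6)) (j := (5 : Fin 6)) simp6.2.2.1 simp6.2.2.2,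
      ← map_mul]
    rfl
  have e := f_tm h2 hA hB hf
  rw [tm_eq ha h2, map_mul, map_mul, map_inv, hfd] at e
  exact ⟨f (mP (a : K) ha h2), hfm _, fun z hz => hfz _ z hz, e.symm⟩

/-- **Fixed points of `W7`.** -/
theorem fix_W7 [Finite K] (h2 : (2 : K) = 0) {a : Kˣ} (ha : (a : K) ^ 3 = a + 1) {x : ↥(chevE6.group K)}
    (hx : x ∈ VJ CoxeterMatrix.E₆.toCoxeterSystem RGDTwE6.hp.isCartan (XX chevE6 6 K) J6)
    (h : W7 K * x = x * W7 K) : x ∈ Z3 K := by
  obtain ⟨p, hpc⟩ := CharP.exists K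
  have : Fact p.Prime := ⟨(CharP.char_is_prime_or_zero K p).resolve_right (CharP.char_ne_zero_of_finite K p)⟩
  have R := rgd (K := K) RGDTwE6.hp CoxeterMatrix.E₆.toCoxeterSystem p
  obtain ⟨g, hgm, hgz, e⟩ := exists_conj_t h2 ha
  have hgn : ∀ u ∈ LJ CoxeterMatrix.E₆.toCoxeterSystem RGDTwE6.hp.isCartan (TT chevE6 K) (XX chevE6 6 K) J6, ∀ y ∈
      VJ CoxeterMatrix.E₆.toCoxeterSystem RGDTwE6.hp.isCartan (XX chevE6 6 K) J6, u * y * u⁻¹ ∈
      VJ CoxeterMatrix.E₆.toCoxeterSystem RGDTwE6.hp.isCartan (XX chevE6 6 K) J6 := by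
    intro u hu y hy
    exact (Subgroup.mem_normalizer_iff.1 (LJ_le_normalizer_VJ R J6 hu) y).1 hy
  have hx' : g⁻¹ * x * g ∈ Z3 K := by
    refine fix_t (order_a h2 ha) ?_ ?_
    · have := hgn g⁻¹ (inv_mem hgm) x hx
      rwa [inv_inv] at this
    · rw [e] at h
      calc th RGDTwE6.hp (_root_.Cfsg.Agent.H903.QF.SevenA.sg a) * (g⁻¹ * x * g) = g⁻¹ * (g * th RGDTwE6.hp (_root_.Cfsg.Agent.H903.QF.SevenA.sg a) * g⁻¹ * x) * g := by group
        _ = g⁻¹ * (x * (g * th RGDTwE6.hp (_root_.Cfsg.Agent.H903.QF.SevenA.sg a) * g⁻¹)) * g := by rw [h]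
        _ = _ := by group
  have h3 := hgz _ hx'
  have h4 : x = g⁻¹ * x * g := by
    calc x = g * (g⁻¹ * x * g) * g⁻¹ := by group
      _ = (g⁻¹ * x * g) * g * g⁻¹ := by rw [← h3]
      _ = g⁻¹ * x * g := by group
  rw [h4]
  exact hx'

theorem sg_pow (a : Kˣ) (h7 : a ^ 7 = 1) : _root_.Cfsg.Agent.H903.QF.SevenA.sg a ^ 7 = 1 := by
  have e : ∀ (i : Fin 6) (u : Kˣ), u ^ 7 = 1 → (Pi.mulSingle i u : Fin 6 → Kˣ) ^ 7 = 1 := by
    intro i u hu
    rw [← Pi.mulSingle_pow, hu, Pi.mulSingle_one]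
  have h21 : (a ^ 3) ^ 7 = 1 := by rw [← pow_mul, mul_comm, pow_mul, h7, one_pow]
  unfold SevenA.sg
  rw [mul_pow, mul_pow, mul_pow, e 2 a h7, e 0 _ h21, e 4 a h7, e 5 _ h21, mul_one, mul_one]

theorem tab3 : chevE6.simple 3 < 72 ∧ ((chevE6.cartan 2 (chevE6.simple 3) + chevE6.cartan 4 (chevE6.simple 3)) +
    3 * (chevE6.cartan 0 (chevE6.simple 3) + chevE6.cartan 5 (chevE6.simple 3))) % 7 ≠ 0 := by decide +kernel

/-- **The order of `W7`.** -/
theorem order_W7 (h2 : (2 : K) = 0) {a : Kˣ} (ha : (a : K) ^ 3 = a + 1) : orderOf (W7 K) = 7 := by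
  have : Fact (Nat.Prime 7) := ⟨by norm_num⟩
  obtain ⟨g, -, -, e⟩ := exists_conj_t h2 ha
  refine orderOf_eq_prime_iff.2 ⟨?_, fun h1 => ?_⟩
  · rw [e, conj_pow, ← map_pow, sg_pow a (Units.ext (pow7 ha h2)), map_one, mul_one, mul_inv_cancel]
  · have ht1 : th RGDTwE6.hp (_root_.Cfsg.Agent.H903.QF.SevenA.sg a) = 1 := by
      rw [h1] at e
      calc th RGDTwE6.hp (_root_.Cfsg.Agent.H903.QF.SevenA.sg a) = g⁻¹ * (g * th RGDTwE6.hp (_root_.Cfsg.Agent.H903.QF.SevenA.sg a) * g⁻¹) * g := by group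
        _ = 1 := by rw [← e]; group
    have ht : th RGDTwE6.hp (_root_.Cfsg.Agent.H903.QF.SevenA.sg a) ∈ TT chevE6 K := (thT RGDTwE6.hp (_root_.Cfsg.Agent.H903.QF.SevenA.sg a)).2
    have h4 := (act RGDTwE6.hp tab3.1 ht).2 1
    rw [_root_.Cfsg.Agent.H903.QF.SevenA.ch_sg a tab3.1, ht1, one_mul, inv_one, mul_one, mul_one] at h4
    have h6 := xc_inj RGDTwE6.hp tab3.1 h4
    have h9 := orderOf_dvd_iff_zpow_eq_one.2 (Units.ext h6.symm)
    rw [order_a h2 ha] at h9
    exact tab3.2 (Int.emod_eq_zero_of_dvd h9)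

end

end Cfsg.Agent.H903.QF.SevenB
end

-- part: H903/QF/SevenC
section
/-!
# S2491, row F4 = `²E₆(2)`, box E7 (helper903), part C: the element of order `7` of `P₂` and its fixed points on `V₂`

`T1_of` : from the lift `d0` of `W7` (helper287) and the descent (helper374).
-/

set_option autoImplicit false
set_option linter.unusedSectionVars false
set_option linter.unusedVariables false

namespace Cfsg.Agent.H903.QF.SevenC

open CoxeterSystem Cfsg.Agent.ChevalleyStructure.CoxeterGeom Cfsg.Agent.Tits.Roots Cfsg.Agent.Tits.Core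
  Cfsg.Agent.Nodes Cfsg.Agent.Nodes.Reps Cfsg.Agent.Nodes.BNOf Cfsg.Agent.Nodes.RGDLib Cfsg.Agent.Nodes.Bruhat
  Cfsg.Agent.Nodes.OppDec Cfsg.Agent.Nodes.LeviDec Cfsg.Agent.Nodes.StabComb Cfsg.Agent.Nodes.KindChev
  Cfsg.Agent.Nodes.ChevCls
  Cfsg.Agent.OddHalf.NI.ModelChev
  Cfsg.Agent.H928.Ore.Fix
open Cfsg.Lie Cfsg.Agent.ChevalleyStructure Cfsg.Agent.ChevalleyStructure.Elts
  Cfsg.Agent.ChevalleyStructure.CoxeterGeomTypes Cfsg.Agent.Nodes.RGDChev Cfsg.Agent.KFacts.RgdChevCoord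
open Cfsg.Agent.H928.Ore.TwE (inc inc_injective)
open Cfsg.Agent.H231.QF
open Cfsg.Agent.H903.QF.SevenA Cfsg.Agent.H903.QF.SevenB

universe u v

/-- a root of `x ^ 3 - x - 1` -/
theorem exists_ext {F : Type u} [Field F] [Finite F] (h2 : (2 : F) = 0) :
    ∃ (K' : Type u) (_ : Field K') (_ : Finite K') (ι : F →+* K') (a : K'ˣ), (2 : K') = 0 ∧ (a : K') ^ 3 = a + 1 := by
  obtain ⟨p, hp⟩ : ∃ p : Polynomial F, p = Polynomial.X ^ 3 - Polynomial.X - 1 := ⟨_, rfl⟩
  have hdeg : p.degree = 3 := by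
    rw [hp]
    compute_degree!
  obtain ⟨x, hx⟩ := (Polynomial.SplittingField.splits p).exists_eval_eq_zero (by
    rw [Polynomial.degree_map, hdeg]
    norm_num)
  have hmap : p.map (algebraMap F p.SplittingField) = Polynomial.X ^ 3 - Polynomial.X - 1 :=
    (congrArg (Polynomial.map (algebraMap F p.SplittingField)) hp).trans (by
      rw [Polynomial.map_sub, Polynomial.map_sub, Polynomial.map_pow, Polynomial.map_X, Polynomial.map_one])
  rw [hmap] at hx
  simp only [Polynomial.eval_sub, Polynomial.eval_pow, Polynomial.eval_X, Polynomial.eval_one] at hx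
  have hx3 : x ^ 3 = x + 1 := by linear_combination hx
  have hx0 : x ≠ 0 := by
    rintro rfl
    apply one_ne_zero (α := p.SplittingField)
    linear_combination -hx3
  have hfin : Finite p.SplittingField := Module.finite_of_finite F
  refine ⟨p.SplittingField, inferInstance, hfin, algebraMap F p.SplittingField, Units.mk0 x hx0, ?_, hx3⟩
  rw [← map_ofNat (algebraMap F p.SplittingField) 2, h2, map_zero]

section

variable {F : Type u} [Field F] {K' : Type v} [Field K'] (ι : F →+* K')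

theorem bc_yy {r s : ℕ} (hr : r < 72) (hs : s < 72) : bc chevE6 ι (yy F r s) = yy K' r s := by
  unfold yy
  rw [map_mul, bc_xc RGDTwE6.hp ι hr, bc_xc RGDTwE6.hp ι hs, map_one]

theorem bc_W7 : bc chevE6 ι (W7 F) = W7 K' := by
  unfold W7
  rw [map_mul, map_mul, map_mul, map_mul, bc_yy ι (by decide) (by decide), bc_yy ι (by decide) (by decide),
    bc_yy ι (by decide) (by decide), bc_yy ι (by decide) (by decide)]

end

section

variable {F : Type u} [Field F] [Fintype F] {φ : F →+* F} (hF : Fintype.card F = 4)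

include hF

theorem two_zero : (2 : F) = 0 := by
  have h1 : ((Fintype.card F : ℕ) : F) = 0 := Nat.cast_card_eq_zero F
  rw [hF] at h1
  push_cast at h1
  have h2 : (2 : F) * 2 = 0 := by linear_combination h1
  exact mul_self_eq_zero.1 h2

/-- **T1.** -/
theorem T1_of
    (C1 : V φ j2 ≤ (VJ CoxeterMatrix.E₆.toCoxeterSystem RGDTwE6.hp.isCartan (XX chevE6 6 F) J6).comap (inc F 2))
    (C2 : ∀ (K' : Type u) [Field K'] [Finite K'] (ι : F →+* K') (z : KK F), bc chevE6 ι (inc F 2 z) ∈ Z3 K' →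
      z ∈ X φ ![1, 3, 4, 2] ⊔ X φ ![2, 3, 4, 2])
    {d0 : KK F} (hd : inc F 2 d0 = W7 F) :
    orderOf d0 = 7 ∧ ∀ z ∈ V φ j2, d0 * z = z * d0 → z ∈ X φ ![1, 3, 4, 2] ⊔ X φ ![2, 3, 4, 2] := by
  obtain ⟨K', _, _, ι, a, h2, ha⟩ := exists_ext (two_zero hF)
  have hinj : Function.Injective ((bc chevE6 ι).comp (inc F 2)) := by
    rw [MonoidHom.coe_comp]
    exact (bc_injective chevE6 ι).comp (inc_injective 2)
  have e : (bc chevE6 ι).comp (inc F 2) d0 = W7 K' := by
    rw [MonoidHom.comp_apply, hd, bc_W7]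
  refine ⟨?_, fun z hz hc => C2 K' ι z ?_⟩
  · rw [← orderOf_injective _ hinj, e]
    exact order_W7 h2 ha
  · refine fix_W7 h2 ha ?_ ?_
    · exact VJ_le_comap RGDTwE6.hp ι J6 (C1 hz)
    · have := congrArg ((bc chevE6 ι).comp (inc F 2)) hc
      rw [map_mul, map_mul, e] at this
      exact this

end

end Cfsg.Agent.H903.QF.SevenC
end

-- part: H374/QF/Desc
section
/-!
# S2491, row F4 = `²E₆(2)`, box E7, part C (helper374)

* `V2_le` : the unipotent radical of `P φ j2` lies in the one of the node `3` of `E₆(F)`;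
* `bc_sgY` : base change and the twisted graph automorphism;
* `descent` : an element of `²E₆(2)` which lies after extension of scalars in the product of the two highest root groups
  lies in `X φ ![1,3,4,2] ⊔ X φ ![2,3,4,2]`.
-/

set_option autoImplicit false
set_option linter.unusedSectionVars false
set_option linter.unusedVariables false

namespace Cfsg.Agent.H374.QF.Desc

open CoxeterSystem Cfsg.Agent.ChevalleyStructure.CoxeterGeom Cfsg.Agent.Tits.Roots Cfsg.Agent.Tits.Core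
  Cfsg.Agent.Nodes Cfsg.Agent.Nodes.Reps Cfsg.Agent.Nodes.BNOf Cfsg.Agent.Nodes.RGDLib Cfsg.Agent.Nodes.Bruhat
  Cfsg.Agent.Nodes.OppDec Cfsg.Agent.Nodes.LeviDec Cfsg.Agent.Nodes.StabComb Cfsg.Agent.Nodes.KindChev
  Cfsg.Agent.Nodes.ChevCls
  Cfsg.Agent.OddHalf.NI.ModelChev
  Cfsg.Agent.H928.Ore.Frame Cfsg.Agent.H928.Ore.Fix Cfsg.Agent.H928.Ore.Block Cfsg.Agent.H928.Ore.TwE
open Cfsg.Lie Cfsg.Agent.ChevalleyStructure Cfsg.Agent.ChevalleyStructure.Elts
  Cfsg.Agent.ChevalleyStructure.NPerm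
  Cfsg.Agent.ChevalleyStructure.CoxeterGeomTypes Cfsg.Agent.Nodes.RGDChev Cfsg.Agent.KFacts.RgdChevCoord
open Cfsg.Agent.Nodes.RGDTwGen Cfsg.Agent.Nodes.RGDFold Cfsg.Agent.Nodes.RGDTwE6
open Cfsg.Agent.ChevalleyStructure.TwistedU Cfsg.Agent.ChevalleyStructure.TwistedFix
open Cfsg.Agent.ChevalleyStructure.TwE6Basic (sg hE6 epsE)

open scoped MatrixGroups commutatorElement

universe u v

/-! ### The unipotent radical -/

theorem tab2 : ∀ r : Fin 72, (∀ k : Fin 4, 0 ≤ V chevE6 J r k) → 0 < V chevE6 J r 1 →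
    (∀ k : Fin 6, 0 ≤ vec chevE6 6 r k) ∧ 0 < vec chevE6 6 r 3 := by decide +kernel

theorem V2_le {F : Type u} [Field F] (φ : F →+* F) : H231.QF.V φ H231.QF.j2 ≤
    (VJ CoxeterMatrix.E₆.toCoxeterSystem RGDTwE6.hp.isCartan (XX chevE6 6 F) {k : Fin 6 | k ≠ 3}).comap (inc F 2) := by
  refine RGD.Sup_le fun z hz => X_le fun r hr hrz => ?_
  obtain ⟨-, h0, k, hk, hk0⟩ := hz
  have hk1 : k = 1 := by
    by_contra h
    exact hk h
  subst hk1
  obtain ⟨h1, h2⟩ := tab2 ⟨r, hr⟩ (fun k => by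
    change 0 ≤ V chevE6 J r k
    rw [hrz]; exact h0 k) (by
    change 0 < V chevE6 J r 1
    rw [hrz]; exact hk0)
  exact RGD.le_Sup ⟨isRoot_vec RGDTwE6.hp _ hr, fun k => h1 k, 3, fun h => h rfl, h2⟩

/-! ### The two highest root groups -/

theorem tabH : V chevE6 J 70 = ![1, 3, 4, 2] ∧ V chevE6 J 71 = ![2, 3, 4, 2] ∧
    (71 ≠ 70 ∧ 71 ≠ chevE6.neg 70 ∧ chevE6.commTerms 70 71 = []) ∧
    (H91.E6Fix.rho 70 = 70 ∧ ∀ h, epsE ⟨70, h⟩ = 1) ∧ (H91.E6Fix.rho 71 = 71 ∧ ∀ h, epsE ⟨71, h⟩ = 1) ∧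
    (∀ k, 0 ≤ vec chevE6 6 70 k) ∧ (∀ k, 0 ≤ vec chevE6 6 71 k) ∧ vec chevE6 6 70 ≠ vec chevE6 6 71 := by
  decide +kernel

section

variable {K : Type u} [Field K]

theorem comm_root {r s : ℕ} (hr : r < 72) (hs : s < 72) (h1 : s ≠ r) (h2 : s ≠ chevE6.neg r)
    (h3 : chevE6.commTerms r s = []) (a b : K) : xc RGDTwE6.hp (vec chevE6 6 r) a * xc RGDTwE6.hp (vec chevE6 6 s) b =
      xc RGDTwE6.hp (vec chevE6 6 s) b * xc RGDTwE6.hp (vec chevE6 6 r) a := by
  have h4 := comm_xG RGDTwE6.hp (K := K) hr hs h1 h2 a b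
  have h5 : chevE6.commWord K r s a b = [] := by
    change (chevE6.commTerms r s).map _ = []
    rw [h3, List.map_nil]
  rw [h5, wordG_nil, commutatorElement_def, inv_inv, inv_inv] at h4
  apply Subtype.ext
  change ((xc RGDTwE6.hp (vec chevE6 6 r) a : ↥(chevE6.group K)) : GL chevE6.Idx K) *
    ((xc RGDTwE6.hp (vec chevE6 6 s) b : ↥(chevE6.group K)) : GL chevE6.Idx K) = _ * _
  rw [coe_xc RGDTwE6.hp hr, coe_xc RGDTwE6.hp hs]
  generalize xG (F := K) RGDTwE6.hp.inList r a = A at h4 ⊢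
  generalize xG (F := K) RGDTwE6.hp.inList s b = B at h4 ⊢
  calc A * B = (B * A) * (A⁻¹ * B⁻¹ * A * B) := by group
    _ = B * A * (B⁻¹ * A⁻¹ * B * A)⁻¹ := by group
    _ = B * A := by rw [h4, inv_one, mul_one]

theorem comm_HL (a b : K) : xc RGDTwE6.hp (vec chevE6 6 70) a * xc RGDTwE6.hp (vec chevE6 6 71) b =
    xc RGDTwE6.hp (vec chevE6 6 71) b * xc RGDTwE6.hp (vec chevE6 6 70) a :=
  comm_root (by decide) (by decide) tabH.2.2.1.1 tabH.2.2.1.2.1 tabH.2.2.1.2.2 a b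

theorem mem_Z3 {x : ↥(chevE6.group K)}
    (hx : x ∈ XX chevE6 6 K (vec chevE6 6 70) ⊔ XX chevE6 6 K (vec chevE6 6 71)) :
    ∃ a b : K, x = xc RGDTwE6.hp (vec chevE6 6 70) a * xc RGDTwE6.hp (vec chevE6 6 71) b := by
  have h1 : XX chevE6 6 K (vec chevE6 6 70) ≤
      Subgroup.normalizer (XX chevE6 6 K (vec chevE6 6 71) : Set ↥(chevE6.group K)) := by
    intro u hu
    obtain ⟨a, rfl⟩ := (mem_XX RGDTwE6.hp (by decide) _).1 hu
    have hc : xc RGDTwE6.hp (vec chevE6 6 70) a ∈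
        Subgroup.centralizer (XX chevE6 6 K (vec chevE6 6 71) : Set ↥(chevE6.group K)) := by
      rw [Subgroup.mem_centralizer_iff]
      intro v hv
      obtain ⟨b, rfl⟩ := (mem_XX RGDTwE6.hp (by decide) _).1 hv
      exact (comm_HL a b).symm
    exact Subgroup.centralizer_le_normalizer _ hc
  have h2 : x ∈ ((XX chevE6 6 K (vec chevE6 6 70) ⊔ XX chevE6 6 K (vec chevE6 6 71) :
    Subgroup ↥(chevE6.group K)) : Set ↥(chevE6.group K)) := hx
  rw [Subgroup.coe_mul_of_left_le_normalizer_right _ _ h1, Set.mem_mul] at h2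
  obtain ⟨u, hu, v, hv, rfl⟩ := h2
  obtain ⟨a, rfl⟩ := (mem_XX RGDTwE6.hp (by decide) _).1 hu
  obtain ⟨b, rfl⟩ := (mem_XX RGDTwE6.hp (by decide) _).1 hv
  exact ⟨a, b, rfl⟩

/-- the two highest root groups are independent -/
theorem uniq [Finite K] {a b a' b' : K}
    (h : xc RGDTwE6.hp (vec chevE6 6 70) a * xc RGDTwE6.hp (vec chevE6 6 71) b =
      xc RGDTwE6.hp (vec chevE6 6 70) a' * xc RGDTwE6.hp (vec chevE6 6 71) b') : a = a' ∧ b = b' := by
  obtain ⟨p, hpc⟩ := CharP.exists K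
  have : Fact p.Prime := ⟨(CharP.char_is_prime_or_zero K p).resolve_right (CharP.char_ne_zero_of_finite K p)⟩
  have hW := _root_.Cfsg.Agent.Nodes.RGDChev.finite_W RGDTwE6.hp CoxeterMatrix.E₆.toCoxeterSystem
  have R := _root_.Cfsg.Agent.Nodes.RGDChev.rgd (K := K) RGDTwE6.hp CoxeterMatrix.E₆.toCoxeterSystem p
  have h70 : vec chevE6 6 70 ∈ RGD.Pos CoxeterMatrix.E₆.toCoxeterSystem RGDTwE6.hp.isCartan :=
    ⟨isRoot_vec RGDTwE6.hp _ (by decide), tabH.2.2.2.2.2.1⟩
  have h71 : vec chevE6 6 71 ∈ RGD.Pos CoxeterMatrix.E₆.toCoxeterSystem RGDTwE6.hp.isCartan :=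
    ⟨isRoot_vec RGDTwE6.hp _ (by decide), tabH.2.2.2.2.2.2.1⟩
  have hcl : ∀ x ∈ RGD.Pos CoxeterMatrix.E₆.toCoxeterSystem RGDTwE6.hp.isCartan,
      Cfsg.Agent.Nodes.Unique.Closed CoxeterMatrix.E₆.toCoxeterSystem RGDTwE6.hp.isCartan ({x} : Set (Fin 6 → ℤ)) := by
    intro x hx y hy y' hy' z hz
    rw [Set.mem_singleton_iff] at hy hy'
    subst hy
    subst hy'
    exact Cfsg.Agent.Nodes.Unique.btwn_self hx.1 hz
  have h1 := Cfsg.Agent.Nodes.Unique.inf_eq R (Set.singleton_subset_iff.2 h70) (Set.singleton_subset_iff.2 h71)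
    (hcl _ h70) (hcl _ h71)
  have h2 : ({vec chevE6 6 70} : Set (Fin 6 → ℤ)) ∩ {vec chevE6 6 71} = ∅ :=
    Set.singleton_inter_eq_empty.2 fun h => tabH.2.2.2.2.2.2.2 (Set.mem_singleton_iff.1 h)
  rw [h2] at h1
  have h3 : (xc RGDTwE6.hp (vec chevE6 6 70) a')⁻¹ * xc RGDTwE6.hp (vec chevE6 6 70) a =
      xc RGDTwE6.hp (vec chevE6 6 71) b' * (xc RGDTwE6.hp (vec chevE6 6 71) b)⁻¹ := by
    calc _ = (xc RGDTwE6.hp (vec chevE6 6 70) a')⁻¹ * (xc RGDTwE6.hp (vec chevE6 6 70) a *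
        xc RGDTwE6.hp (vec chevE6 6 71) b) * (xc RGDTwE6.hp (vec chevE6 6 71) b)⁻¹ := by group
      _ = _ := by rw [h]; group
  have h4 : (xc RGDTwE6.hp (vec chevE6 6 70) a')⁻¹ * xc RGDTwE6.hp (vec chevE6 6 70) a = 1 := by
    have h5 : (xc RGDTwE6.hp (vec chevE6 6 70) a')⁻¹ * xc RGDTwE6.hp (vec chevE6 6 70) a ∈
        RGD.Sup (XX chevE6 6 K) ({vec chevE6 6 70} : Set (Fin 6 → ℤ)) ⊓
        RGD.Sup (XX chevE6 6 K) ({vec chevE6 6 71} : Set (Fin 6 → ℤ)) := by
      refine Subgroup.mem_inf.2 ⟨RGD.le_Sup (Set.mem_singleton _) ?_, RGD.le_Sup (Set.mem_singleton _) ?_⟩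
      · exact mul_mem (inv_mem ((mem_XX RGDTwE6.hp (by decide) _).2 ⟨_, rfl⟩))
          ((mem_XX RGDTwE6.hp (by decide) _).2 ⟨_, rfl⟩)
      · rw [h3]
        exact mul_mem ((mem_XX RGDTwE6.hp (by decide) _).2 ⟨_, rfl⟩)
          (inv_mem ((mem_XX RGDTwE6.hp (by decide) _).2 ⟨_, rfl⟩))
    rw [h1] at h5
    have h6 : RGD.Sup (XX chevE6 6 K) (∅ : Set (Fin 6 → ℤ)) ≤ ⊥ := RGD.Sup_le fun x hx => absurd hx (Set.notMem_empty x)
    exact Subgroup.mem_bot.1 (h6 h5)
  have h5 : xc RGDTwE6.hp (vec chevE6 6 70) a = xc RGDTwE6.hp (vec chevE6 6 70) a' := (inv_mul_eq_one.1 h4).symm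
  refine ⟨xc_inj RGDTwE6.hp (by decide) h5, xc_inj RGDTwE6.hp (r := 71) (by decide) ?_⟩
  rw [h4] at h3
  exact (mul_inv_eq_one.1 h3.symm).symm

end

/-! ### Base change and the twisted graph automorphism -/

theorem bc_sgY {F : Type u} [Field F] {K : Type v} [Field K] {φ : F →+* F} {φ' : K →+* K} {ι : F →+* K}
    (h : ∀ t, φ' (ι t) = ι (φ t)) (y : ↥(chevE6.group F)) :
    sgY φ' (bc chevE6 ι y) = bc chevE6 ι (sgY φ y) := by
  have h1 : chevE6.group F ≤ (((sgY φ').comp (bc chevE6 ι)).eqLocus ((bc chevE6 ι).comp (sgY φ))).map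
      (chevE6.group F).subtype := by
    refine (group_le_iff RGDTwE6.hp.inList _).2 fun r hr t => ?_
    refine ⟨xc RGDTwE6.hp (vec chevE6 6 r) t, ?_, coe_xc RGDTwE6.hp hr t⟩
    change sgY φ' (bc chevE6 ι _) = bc chevE6 ι (sgY φ _)
    rw [bc_xc RGDTwE6.hp ι hr, sgY_xc φ' hr, sgY_xc φ hr, bc_xc RGDTwE6.hp ι (H91.E6Fix.rho_lt r hr), map_mul,
      map_intCast, h]
  obtain ⟨y', hy', e⟩ := h1 y.2
  have e2 : y' = y := Subtype.ext e
  subst e2
  exact hy'

section

variable {F : Type u} [Field F] [Fintype F] {φ : F →+* F} (hφ : ∀ t, φ t = t ^ 2) (hqq : ∀ t : F, (t ^ 2) ^ 2 = t)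

include hφ hqq in
theorem exists_X {r : ℕ} (hr : r < 72) (h1 : H91.E6Fix.rho r = r) (h2 : ∀ h, epsE ⟨r, h⟩ = 1) {c : F}
    (hc : φ c = c) : ∃ x ∈ H231.QF.X φ (V chevE6 J r), inc F 2 x = xc RGDTwE6.hp (vec chevE6 6 r) c := by
  have h3 : sgY φ (xc RGDTwE6.hp (vec chevE6 6 r) c) = xc RGDTwE6.hp (vec chevE6 6 r) c := by
    rw [sgY_xc φ hr, h1, h2, Int.cast_one, one_mul, hc]
  obtain ⟨g, hg⟩ := exists_inc hφ hqq h3
  refine ⟨g, ?_, hg⟩
  have h4 := congrArg Subtype.val hg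
  rw [coe_xc RGDTwE6.hp hr] at h4
  refine Subgroup.mem_subgroupOf.2 ⟨?_, TwE6Basic.twisted_le_fix φ hφ hqq g.2⟩
  have h5 : ((g : ↥(twistedE6 F 2)) : GL chevE6.Idx F) = xG RGDTwE6.hp.inList r c := h4
  rw [h5]
  exact mem_rspan (xG (F := F) RGDTwE6.hp.inList) (S := {k | k < chevE6.nroots ∧ V chevE6 J k = V chevE6 J r})
    ⟨hr, rfl⟩ _

end

/-- **Descent.** -/
theorem descent {F : Type u} [Field F] [Fintype F] (hF : Fintype.card F = 4) {φ : F →+* F} (hφ : ∀ t, φ t = t ^ 2)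
    {K : Type v} [Field K] [Finite K] (ι : F →+* K) {z : H231.QF.KK F}
    (hz : bc chevE6 ι (inc F 2 z) ∈ XX chevE6 6 K (vec chevE6 6 70) ⊔ XX chevE6 6 K (vec chevE6 6 71)) :
    z ∈ H231.QF.X φ ![1, 3, 4, 2] ⊔ H231.QF.X φ ![2, 3, 4, 2] := by
  have hqq : ∀ t : F, (t ^ 2) ^ 2 = t := fun t => by
    rw [← pow_mul]
    have := FiniteField.pow_card t
    rwa [hF] at this
  have h2F : CharP F 2 := by
    have : Fact (Nat.Prime 2) := ⟨Nat.prime_two⟩
    exact charP_of_card_eq_prime_pow (f := 2) (by rw [hF]; norm_num)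
  have h2K : CharP K 2 := charP_of_injective_ringHom ι.injective 2
  have : Fact (Nat.Prime 2) := ⟨Nat.prime_two⟩
  have hι : ∀ t, frobenius K 2 (ι t) = ι (φ t) := fun t => by rw [frobenius_def, hφ, map_pow]
  obtain ⟨α, β, hab⟩ := mem_Z3 hz
  have h3 := bc_sgY hι (inc F 2 z)
  rw [sgY_inc hφ hqq z, hab, map_mul, sgY_xc (frobenius K 2) (r := 70) (by decide),
    sgY_xc (frobenius K 2) (r := 71) (by decide), tabH.2.2.2.1.1, tabH.2.2.2.1.2, tabH.2.2.2.2.1.1, tabH.2.2.2.2.1.2,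
    Int.cast_one, one_mul, one_mul] at h3
  obtain ⟨hα, hβ⟩ := uniq h3
  rw [frobenius_def] at hα hβ
  have key : ∀ c : K, c ^ 2 = c → ∃ d : F, φ d = d ∧ ι d = c := by
    intro c hc
    have h5 : c * (c - 1) = 0 := by ring_nf; rw [hc]; ring
    rcases mul_eq_zero.1 h5 with h | h
    · exact ⟨0, map_zero φ, by rw [map_zero, h]⟩
    · exact ⟨1, map_one φ, by rw [map_one]; exact (sub_eq_zero.1 h).symm⟩
  obtain ⟨a, ha, rfl⟩ := key α hα
  obtain ⟨b, hb, rfl⟩ := key β hβ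
  rw [← bc_xc RGDTwE6.hp ι (r := 70) (by decide), ← bc_xc RGDTwE6.hp ι (r := 71) (by decide), ← map_mul] at hab
  have h6 := bc_injective chevE6 ι hab
  obtain ⟨x, hx, ex⟩ := exists_X hφ hqq (r := 70) (by decide) tabH.2.2.2.1.1 tabH.2.2.2.1.2 ha
  obtain ⟨y, hy, ey⟩ := exists_X hφ hqq (r := 71) (by decide) tabH.2.2.2.2.1.1 tabH.2.2.2.2.1.2 hb
  rw [tabH.1] at hx
  rw [tabH.2.1] at hy
  have h7 : z = x * y := by
    apply inc_injective 2
    rw [h6, map_mul, ex, ey]
  rw [h7]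
  exact mul_mem ((le_sup_left : H231.QF.X φ ![1, 3, 4, 2] ≤ _) hx) ((le_sup_right : H231.QF.X φ ![2, 3, 4, 2] ≤ _) hy)

end Cfsg.Agent.H374.QF.Desc
end

-- part: H287/F4/DSeven
section
/-!
# `²E₆(2)`: an element of order seven (S2491, row F4, E7, part D)

* `exists_d0` : the product of root elements of the nodes `2`, `3` and its image in `E₆(4)`.
-/

set_option autoImplicit false
set_option linter.unusedSectionVars false

namespace Cfsg.Agent.H287.F4.DSeven

open CoxeterSystem Cfsg.Agent.ChevalleyStructure.CoxeterGeom Cfsg.Agent.Tits.Roots Cfsg.Agent.Tits.Core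
  Cfsg.Agent.Nodes Cfsg.Agent.Nodes.Reps Cfsg.Agent.Nodes.BNOf Cfsg.Agent.Nodes.RGDLib Cfsg.Agent.Nodes.Bruhat
  Cfsg.Agent.Nodes.OppDec Cfsg.Agent.Nodes.LeviDec Cfsg.Agent.Nodes.StabComb
open Cfsg.Lie Subgroup
open Cfsg.Agent.ChevalleyStructure Cfsg.Agent.ChevalleyStructure.Elts Cfsg.Agent.Nodes.RGDChev
  Cfsg.Agent.KFacts.RgdChevCoord Cfsg.Agent.H335.Sr
open Cfsg.Agent.H928.Ore.TwE
open Cfsg.Agent.H231.QF (cs X V Lv P j1 j2 j3 j4 In Out CR Sm)
open Cfsg.Agent.Nodes.RGDFoldSL (Fx mem_Fx)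
open Cfsg.Agent.H231.QS.TwCen (Q0 Q1 Q2 Q3)
open Cfsg.Agent.OddHalf.NI.Mult (up lo)
open Cfsg.Agent.H164.F4.OutV (charTwo hqq gg_top)
open Cfsg.Agent.H287.F4.Hom Cfsg.Agent.H783.ExoX2 Cfsg.Agent.H343 Cfsg.Agent.ETable.Exc

universe u

/-- the group -/
local notation "YY" => Cfsg.Agent.H231.QF.KK

variable {F : Type u} [Field F] [Fintype F] (hF : Fintype.card F = 4) {φ : F →+* F} (hφ : ∀ t, φ t = t ^ 2)

/-- the root elements of the folded group -/
noncomputable def y (F : Type u) [Field F] (r s : ℕ) : ↥(chevE6.group F) :=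
  xc RGDTwE6.hp (vec chevE6 6 r) (1 : F) * xc RGDTwE6.hp (vec chevE6 6 s) (1 : F)

theorem coe_y {r s : ℕ} (hr : r < 72) (hs : s < 72) : ((y F r s : ↥(chevE6.group F)) : GL chevE6.Idx F) =
    xG inList_E6 r (1 : F) * xG inList_E6 s (1 : F) := by
  unfold y
  rw [Subgroup.coe_mul, coe_xc RGDTwE6.hp hr, coe_xc RGDTwE6.hp hs]

include hF hφ

theorem exists_d0 : ∃ d0 : YY F, d0 ∈ P φ j2 ∧
    inc F 2 d0 = y F 42 37 * y F 56 36 * y F 29 34 * y F 15 35 * y F 56 36 := by
  have h2 : (2 : F) = 0 := (Cfsg.Agent.H287.F4.Mat.exists_omega hF).2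
  have hneg : (-1 : F) = 1 := by
    rw [neg_eq_iff_add_eq_zero, ← h2]
    norm_num
  have hneg' : (-1 : Fx φ 2) = 1 := Subtype.ext hneg
  have C := Cfsg.Agent.H958.TS.TwCommon.coordP hφ (hqq hF)
  have m2 : (2 : Fin 4) ∈ j2 := show (2 : Fin 4) ≠ 1 by decide
  have m3 : (3 : Fin 4) ∈ j2 := show (3 : Fin 4) ≠ 1 by decide
  have u3 : Q3 hφ (hqq hF) (up 1) ∈ P φ j2 := Par.X_le_P (C.mem_up 3 _)
  have u2 : Q2 hφ (hqq hF) (up 1) ∈ P φ j2 := Par.X_le_P (C.mem_up 2 _)
  have l3 : Q3 hφ (hqq hF) (lo 1) ∈ P φ j2 := LJ_le_PJ (Par.Xn_le_L m3 (mem_sup_right (C.mem_lo 3 _)))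
  have l2 : Q2 hφ (hqq hF) (lo 1) ∈ P φ j2 := LJ_le_PJ (Par.Xn_le_L m2 (mem_sup_right (C.mem_lo 2 _)))
  have e3 : inc F 2 (Q3 hφ (hqq hF) (up 1)) = y F 56 36 := by
    apply Subtype.ext
    rw [coe_y (by decide) (by decide)]
    refine (e01 hφ (hqq hF) 1).symm.trans ?_
    rw [xx01, show ((1 : Fx φ 2) : F) = 1 from rfl, map_one]
  have e3' : inc F 2 (Q3 hφ (hqq hF) (lo 1)) = y F 15 35 := by
    apply Subtype.ext
    rw [coe_y (by decide) (by decide)]
    refine (e10 hφ (hqq hF) 1).symm.trans ?_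
    rw [xx10, show ((1 : Fx φ 2) : F) = 1 from rfl, map_one]
  have e2 : inc F 2 (Q2 hφ (hqq hF) (up 1)) = y F 42 37 := by
    apply Subtype.ext
    rw [coe_y (by decide) (by decide)]
    have h3 := (e12 hφ (hqq hF) 1).symm
    rw [hneg'] at h3
    refine h3.trans ?_
    rw [xx12, show ((1 : Fx φ 2) : F) = 1 from rfl, hneg, map_one]
  have e2' : inc F 2 (Q2 hφ (hqq hF) (lo 1)) = y F 29 34 := by
    apply Subtype.ext
    rw [coe_y (by decide) (by decide)]
    have h3 := (e21 hφ (hqq hF) 1).symm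
    rw [hneg'] at h3
    refine h3.trans ?_
    rw [xx21, show ((1 : Fx φ 2) : F) = 1 from rfl, hneg, map_one]
  refine ⟨Q2 hφ (hqq hF) (up 1) * Q3 hφ (hqq hF) (up 1) * Q2 hφ (hqq hF) (lo 1) * Q3 hφ (hqq hF) (lo 1) *
    Q3 hφ (hqq hF) (up 1), mul_mem (mul_mem (mul_mem (mul_mem u2 u3) l2) l3) u3, ?_⟩
  rw [map_mul, map_mul, map_mul, map_mul, e3, e3', e2, e2']

end Cfsg.Agent.H287.F4.DSeven
end

-- part: H461/QF/SevenMain
section
/-!
# S2491, row F4 = `²E₆(2)`, box E7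

`t1` : an element of order `7` of `P₂` whose fixed points on `V₂` lie in the two highest root groups; `e7`.
-/

set_option autoImplicit false
set_option linter.unusedSectionVars false
set_option linter.unusedVariables false

namespace Cfsg.Agent.H461.QF.SevenMain

open CoxeterSystem Cfsg.Agent.ChevalleyStructure.CoxeterGeom Cfsg.Agent.Tits.Roots Cfsg.Agent.Tits.Core
  Cfsg.Agent.Nodes Cfsg.Agent.Nodes.Reps Cfsg.Agent.Nodes.BNOf Cfsg.Agent.Nodes.RGDLib Cfsg.Agent.Nodes.Bruhat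
  Cfsg.Agent.Nodes.OppDec Cfsg.Agent.Nodes.LeviDec Cfsg.Agent.Nodes.StabComb
open Cfsg.Lie Subgroup
open Cfsg.Agent.H231.QF (cs X V Lv P j1 j2 j3 j4 In Out CR Sm RE th)

universe u

/-- the group -/
local notation "YY" => Cfsg.Agent.H231.QF.KK

variable {F : Type u} [Field F] [Fintype F] (hF : Fintype.card F = 4) {φ : F →+* F} (hφ : ∀ t, φ t = t ^ 2)

include hF hφ

theorem t1 : ∃ d0 ∈ P φ j2, orderOf d0 = 7 ∧
    ∀ z ∈ V φ j2, d0 * z = z * d0 → z ∈ X φ ![1, 3, 4, 2] ⊔ X φ ![2, 3, 4, 2] := by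
  obtain ⟨d0, h1, h2⟩ := Cfsg.Agent.H287.F4.DSeven.exists_d0 hF hφ
  exact ⟨d0, h1, Cfsg.Agent.H903.QF.SevenC.T1_of hF (Cfsg.Agent.H374.QF.Desc.V2_le φ)
    (fun K' _ _ ι z hz => Cfsg.Agent.H374.QF.Desc.descent hF hφ ι hz) h2⟩

theorem e7 {g z : YY F} (hg : g ∈ P φ j2) (hz : z ∈ V φ j2) (hz1 : z ≠ 1) (hgz : g * z = z * g) (h7 : 7 ∣ orderOf g) :
    CR g :=
  Seven.e7_of hF hφ (t1 hF hφ) hg hz hz1 hgz h7

end Cfsg.Agent.H461.QF.SevenMain
end

private theorem dce_5735a245bb9f : _root_.True := by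
  try have : _root_.True := by simp only [_root_.Cfsg.Agent.TwoESix.GoodFi.gA.eq_9]
  try have : _root_.True := by simp only [_root_.Cfsg.Agent.TwoESix.GoodFi.gA.eq_7]
  try have : _root_.True := by simp only [_root_.Cfsg.Spor.coxRelators.congr_simp]
  try have : _root_.True := by simp only [_root_.Cfsg.Agent.OddHalf.NI.ModelChev.th.congr_simp]
  try have : _root_.True := by simp only [_root_.Cfsg.Agent.TwoESix.GoodFi.gA.eq_1]
  try have : _root_.True := by simp only [_root_.Cfsg.Agent.TwoESix.GoodFi.gA.eq_8]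
  try have : _root_.True := by simp only [_root_.Cfsg.Agent.TwoESix.GoodFi.gA.eq_4]
  try have : _root_.True := by simp only [_root_.Cfsg.Agent.TwoESix.GoodFi.gA.eq_6]
  try have : _root_.True := by simp only [_root_.Cfsg.Agent.TwoESix.GoodFi.gA.eq_5]
  try have : _root_.True := by simp only [_root_.Cfsg.Agent.TwoESix.GoodFi.gA.eq_2]
  try have : _root_.True := by simp only [_root_.Cfsg.Agent.TwoESix.GoodFi.gA.eq_3]
  exact _root_.True.intro
end

-- part: H258/QF/Class_mg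
section
prune_inst 0x404303c04032210082000000680002034580004300020840054210a00020653220982a000448009034202a2010005042011000010420000000a0004000005012090a2520401000000260017001182400000000000000000000000000000041004000000000
set_option linter.all false
open scoped Cfsg.Agent.FastGrp

-- part: H258/QF/Class
section
/-!
# S2491, row F4 = `²E₆(2)` : the classification of the elements from the local pieces (helper258)

* `card_KK` : the order; `prime_cases` : the prime divisors of the order of an element;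
* `in_of_cr` : `CR g → In φ j1 g`; `in_of_V4`;
* `classification_of` : the stub `classification` of tools/plans/S2491_F4_stubs.lean.txt from K1, K2, `par` (helper287), C5, C7, C11.
-/

set_option autoImplicit false
set_option linter.unusedSectionVars false

namespace Cfsg.Agent.H258.QF

open CoxeterSystem Cfsg.Agent.ChevalleyStructure.CoxeterGeom Cfsg.Agent.Tits.Roots Cfsg.Agent.Tits.Core
  Cfsg.Agent.Nodes Cfsg.Agent.Nodes.Reps Cfsg.Agent.Nodes.BNOf Cfsg.Agent.Nodes.RGDLib Cfsg.Agent.Nodes.Bruhat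
  Cfsg.Agent.Nodes.OppDec Cfsg.Agent.Nodes.LeviDec Cfsg.Agent.Nodes.StabComb
open Cfsg.Lie Subgroup
open Cfsg.Agent.H231.QF

universe u

variable {F : Type u} [Field F]

/-- the order of `²E₆(2)` -/
theorem card_KK [Fintype F] (hF : Fintype.card F = 4) : Nat.card (KK F) = 76532479683774853939200 := by
  have h1 := Cfsg.Agent.S1066.result (K := F) (q := 2) Nat.prime_two.isPrimePow (by rw [hF]; norm_num)
  have e3 : Nat.gcd 3 (2 + 1) = 3 := by decide
  rw [e3] at h1
  norm_num only [] at h1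
  change Nat.card ↥(twistedE6 F 2) = _
  omega

theorem card_fac : (76532479683774853939200 : ℕ) = 2 ^ 36 * 3 ^ 9 * 5 ^ 2 * 7 ^ 2 * 11 * 13 * 17 * 19 := by norm_num

/-- the primes -/
theorem prime_cases [Fintype F] (hF : Fintype.card F = 4) {g : KK F} {p : ℕ} (hp : p.Prime) (h : p ∣ orderOf g) :
    p = 2 ∨ p = 3 ∨ p = 5 ∨ p = 7 ∨ p = 11 ∨ p = 13 ∨ p = 17 ∨ p = 19 := by
  have h1 : p ∣ 2 ^ 36 * 3 ^ 9 * 5 ^ 2 * 7 ^ 2 * 11 * 13 * 17 * 19 := by
    rw [← card_fac, ← card_KK hF]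
    exact h.trans (_root_.orderOf_dvd_natCard g)
  have key : ∀ q : ℕ, q.Prime → p ∣ q → p = q := fun q hq hd => (Nat.prime_dvd_prime_iff_eq hp hq).1 hd
  rcases (Nat.Prime.dvd_mul hp).1 h1 with h1 | h1
  rcases (Nat.Prime.dvd_mul hp).1 h1 with h1 | h1
  rcases (Nat.Prime.dvd_mul hp).1 h1 with h1 | h1
  rcases (Nat.Prime.dvd_mul hp).1 h1 with h1 | h1
  rcases (Nat.Prime.dvd_mul hp).1 h1 with h1 | h1
  rcases (Nat.Prime.dvd_mul hp).1 h1 with h1 | h1
  rcases (Nat.Prime.dvd_mul hp).1 h1 with h1 | h1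
  · exact Or.inl (key 2 (by norm_num) (hp.dvd_of_dvd_pow h1))
  · exact Or.inr (Or.inl (key 3 (by norm_num) (hp.dvd_of_dvd_pow h1)))
  · exact Or.inr (Or.inr (Or.inl (key 5 (by norm_num) (hp.dvd_of_dvd_pow h1))))
  · exact Or.inr (Or.inr (Or.inr (Or.inl (key 7 (by norm_num) (hp.dvd_of_dvd_pow h1)))))
  · exact Or.inr (Or.inr (Or.inr (Or.inr (Or.inl (key 11 (by norm_num) h1)))))
  · exact Or.inr (Or.inr (Or.inr (Or.inr (Or.inr (Or.inl (key 13 (by norm_num) h1))))))
  · exact Or.inr (Or.inr (Or.inr (Or.inr (Or.inr (Or.inr (Or.inl (key 17 (by norm_num) h1)))))))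
  · exact Or.inr (Or.inr (Or.inr (Or.inr (Or.inr (Or.inr (Or.inr (key 19 (by norm_num) h1)))))))

theorem finite_KK [Fintype F] : Finite (KK F) := inferInstance

/-- a root element exists -/
theorem exists_re [Fintype F] (hF : Fintype.card F = 4) : ∃ t : KK F, RE t := by
  have : Finite (KK F) := finite_KK
  obtain ⟨S⟩ := (inferInstance : Nonempty (Sylow 2 (KK F)))
  have : Fact (Nat.Prime 2) := ⟨Nat.prime_two⟩
  have hc : Nat.card (S : Subgroup (KK F)) = 2 ^ 36 := by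
    rw [Sylow.card_eq_multiplicity, card_KK hF]
    congr 1
    rw [Nat.factorization_def _ Nat.prime_two, padicValNat_def (by norm_num)]
    rw [multiplicity_eq_of_dvd_of_not_dvd] <;> norm_num
  have hpg : IsPGroup 2 (S : Subgroup (KK F)) := S.isPGroup'
  have hnt : Nontrivial (S : Subgroup (KK F)) := by
    rw [← Finite.one_lt_card_iff_nontrivial, hc]
    norm_num
  have hz : Nontrivial (center (S : Subgroup (KK F))) := hpg.center_nontrivial
  have h2 : 2 ∣ Nat.card (center (S : Subgroup (KK F))) := by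
    have h3 : IsPGroup 2 (center (S : Subgroup (KK F))) := hpg.to_subgroup _
    obtain ⟨n, hn⟩ := IsPGroup.iff_card.1 h3
    have h4 := Finite.one_lt_card_iff_nontrivial.2 hz
    rw [hn] at h4 ⊢
    refine dvd_pow_self 2 ?_
    rintro rfl
    norm_num at h4
  obtain ⟨⟨⟨t, htS⟩, htc⟩, ht⟩ := exists_prime_orderOf_dvd_card' 2 h2
  rw [Subgroup.orderOf_mk, Subgroup.orderOf_mk] at ht
  refine ⟨t, ?_, ?_, ?_⟩
  · rintro rfl
    rw [orderOf_one] at ht
    norm_num at ht
  · rw [← pow_two]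
    have h6 := pow_orderOf_eq_one t
    rwa [ht] at h6
  · rw [← hc]
    refine card_dvd_of_le fun s hs => ?_
    rw [mem_centralizer_singleton_iff]
    have h5 := mem_center_iff.1 htc ⟨s, hs⟩
    exact congrArg Subtype.val h5

section

variable [Fintype F] {φ : F →+* F}
  (hre : ∀ t : KK F, RE t ↔ t ≠ 1 ∧ ∃ x : KK F, x * t * x⁻¹ ∈ X φ th)
  (hcen : ∀ {t : KK F}, t ∈ X φ th → t ≠ 1 → centralizer ({t} : Set (KK F)) = P φ j1)

include hre hcen in
theorem in_of_cr {g : KK F} (h : CR g) : In φ j1 g := by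
  obtain ⟨t, ht, hgt⟩ := h
  obtain ⟨h1, x, hx⟩ := (hre t).1 ht
  refine ⟨x, ?_⟩
  rw [← hcen hx (fun h => h1 (by
    calc t = x⁻¹ * (x * t * x⁻¹) * x := by group
      _ = 1 := by rw [h]; group)), mem_centralizer_singleton_iff]
  calc x * g * x⁻¹ * (x * t * x⁻¹) = x * (g * t) * x⁻¹ := by group
    _ = x * t * x⁻¹ * (x * g * x⁻¹) := by rw [hgt]; group

theorem V_le_P (J J' : Set (Fin 4)) : V φ J ≤ P φ J' := le_trans (VJ_le_B J) B_le_PJ

theorem in_or_out {g : KK F} (h : In φ j4 g) : In φ j1 g ∨ H231.QF.Out φ j4 g := by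
  obtain ⟨x, hx⟩ := h
  by_cases h1 : x * g * x⁻¹ ∈ V φ j4
  · exact Or.inl ⟨x, V_le_P j4 j1 h1⟩
  · exact Or.inr ⟨x, hx, h1⟩

/-- the output of `par` -/
def Par (φ : F →+* F) : Prop := ∀ g z : KK F, z ≠ 1 → z * z = 1 → g * z = z * g →
  In φ j1 g ∨ In φ j4 g ∨ 5 ∣ orderOf g ∨ 7 ∣ orderOf g

include hre hcen in
/-- **the classification** -/
theorem classification_of (hF : Fintype.card F = 4) (hpar : Par φ)
    (h5 : ∀ g : KK F, 5 ∣ orderOf g → CR g ∨ Sm g)
    (h7 : ∀ g : KK F, 7 ∣ orderOf g → CR g ∨ H231.QF.Out φ j4 g ∨ Sm g)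
    (hb : ∀ (g : KK F) (p : ℕ), (p = 11 ∨ p = 13 ∨ p = 17 ∨ p = 19) → p ∣ orderOf g → Sm g)
    (g : KK F) : In φ j1 g ∨ H231.QF.Out φ j4 g ∨ Sm g ∨ ∃ k : ℕ, g ^ 3 ^ k = 1 := by
  have : Finite (KK F) := finite_KK
  by_cases c5 : 5 ∣ orderOf g
  · rcases h5 g c5 with h | h
    · exact Or.inl (in_of_cr hre hcen h)
    · exact Or.inr (Or.inr (Or.inl h))
  by_cases c7 : 7 ∣ orderOf g
  · rcases h7 g c7 with h | h | h
    · exact Or.inl (in_of_cr hre hcen h)
    · exact Or.inr (Or.inl h)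
    · exact Or.inr (Or.inr (Or.inl h))
  by_cases cb : ∃ p, (p = 11 ∨ p = 13 ∨ p = 17 ∨ p = 19) ∧ p ∣ orderOf g
  · obtain ⟨p, hp, hd⟩ := cb
    exact Or.inr (Or.inr (Or.inl (hb g p hp hd)))
  have cb' : ∀ p, (p = 11 ∨ p = 13 ∨ p = 17 ∨ p = 19) → ¬ p ∣ orderOf g := fun p hp hd => cb ⟨p, hp, hd⟩
  by_cases c2 : 2 ∣ orderOf g
  · obtain ⟨m, hm⟩ := c2
    have hpos := orderOf_pos g
    have hz1 : g ^ m ≠ 1 := by
      intro h
      have h1 := Nat.le_of_dvd (by omega) (orderOf_dvd_of_pow_eq_one h)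
      omega
    have hz2 : g ^ m * g ^ m = 1 := by
      rw [← pow_add, ← two_mul, ← hm, pow_orderOf_eq_one]
    rcases hpar g (g ^ m) hz1 hz2 (by rw [← pow_succ, ← pow_succ']) with h | h | h | h
    · exact Or.inl h
    · rcases in_or_out h with h | h
      · exact Or.inl h
      · exact Or.inr (Or.inl h)
    · exact absurd h c5
    · exact absurd h c7
  · refine Or.inr (Or.inr (Or.inr ?_))
    have h3 : ∀ p : ℕ, p.Prime → p ∣ orderOf g → p = 3 := by
      intro p hp hd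
      rcases prime_cases hF hp hd with h | h | h | h | h | h | h | h
      · exact absurd (h ▸ hd) c2
      · exact h
      · exact absurd (h ▸ hd) c5
      · exact absurd (h ▸ hd) c7
      · exact absurd hd (cb' p (Or.inl h))
      · exact absurd hd (cb' p (Or.inr (Or.inl h)))
      · exact absurd hd (cb' p (Or.inr (Or.inr (Or.inl h))))
      · exact absurd hd (cb' p (Or.inr (Or.inr (Or.inr h))))
    refine ⟨(orderOf g).primeFactorsList.length, ?_⟩
    have h4 := Nat.eq_prime_pow_of_unique_prime_dvd (orderOf_pos g).ne' (fun {d} hd => h3 d hd)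
    rw [← h4, pow_orderOf_eq_one]

end

end Cfsg.Agent.H258.QF
end

-- part: H590/F4/AltC
section
/-!
# Centralizers in `A₈` have order at most 192 (helper590, row F4 of S2491)
-/

set_option autoImplicit false

namespace Cfsg.Agent.H590.F4.AltC

open Equiv Equiv.Perm Subgroup

/-- an odd permutation commuting with `h` halves the centralizer -/
theorem card_half {h : Perm (Fin 8)} (hh : h ∈ alternatingGroup (Fin 8)) {s : Perm (Fin 8)} (hs : s * h = h * s)
    (hodd : sign s = -1) :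
    2 * Nat.card (centralizer ({⟨h, hh⟩} : Set (alternatingGroup (Fin 8)))) ≤ Nat.card (centralizer ({h} : Set (Perm (Fin 8)))) := by
  classical
  let A := centralizer ({⟨h, hh⟩} : Set (alternatingGroup (Fin 8)))
  let C := centralizer ({h} : Set (Perm (Fin 8)))
  let f : Bool × A → C := fun p => ⟨(if p.1 then s else 1) * ((p.2 : alternatingGroup (Fin 8)) : Perm (Fin 8)), by
    have h1 : ((p.2 : alternatingGroup (Fin 8)) : Perm (Fin 8)) * h = h * ((p.2 : alternatingGroup (Fin 8)) : Perm (Fin 8)) :=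
      congrArg Subtype.val (mem_centralizer_singleton_iff.1 p.2.2)
    rw [mem_centralizer_singleton_iff]
    split_ifs
    · rw [mul_assoc, h1, ← mul_assoc, hs, mul_assoc]
    · rw [one_mul, h1]⟩
  have hf : Function.Injective f := by
    rintro ⟨a, x⟩ ⟨b, y⟩ hxy
    have e : (if a then s else 1) * ((x : alternatingGroup (Fin 8)) : Perm (Fin 8))
        = (if b then s else 1) * ((y : alternatingGroup (Fin 8)) : Perm (Fin 8)) := congrArg Subtype.val hxy
    have sx : sign ((x : alternatingGroup (Fin 8)) : Perm (Fin 8)) = 1 := mem_alternatingGroup.1 (x : alternatingGroup (Fin 8)).2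
    have sy : sign ((y : alternatingGroup (Fin 8)) : Perm (Fin 8)) = 1 := mem_alternatingGroup.1 (y : alternatingGroup (Fin 8)).2
    have e2 := congrArg sign e
    rw [map_mul, map_mul, sx, sy] at e2
    have hab : a = b := by
      cases a <;> cases b <;> simp [hodd] at e2 ⊢
    subst hab
    have e3 := mul_left_cancel e
    rw [Subtype.ext (Subtype.ext e3)]
  have h1 := Nat.card_le_card_of_injective f hf
  rw [Nat.card_prod] at h1
  simpa only [_root_.Nat.card_eq_fintype_card, _root_.ge_iff_le, _root_.Fintype.card_bool] using h1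

/-- the sub-case: the centralizer in `A₈` is bounded by the one in `S₈` -/
theorem card_le {h : Perm (Fin 8)} (hh : h ∈ alternatingGroup (Fin 8)) :
    Nat.card (centralizer ({⟨h, hh⟩} : Set (alternatingGroup (Fin 8)))) ≤ Nat.card (centralizer ({h} : Set (Perm (Fin 8)))) := by
  refine Nat.card_le_card_of_injective (fun p => ⟨((p : alternatingGroup (Fin 8)) : Perm (Fin 8)), ?_⟩) ?_
  · rw [mem_centralizer_singleton_iff]
    exact congrArg Subtype.val (mem_centralizer_singleton_iff.1 p.2)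
  · intro a b hab
    simp only [Subtype.mk.injEq] at hab
    exact Subtype.ext (Subtype.ext hab)

theorem card_rep {h : Perm (Fin 8)} {k p : ℕ} (hc : h.cycleType = Multiset.replicate k p) (hk : k ≠ 0) :
    Nat.card (centralizer ({h} : Set (Perm (Fin 8)))) = Nat.factorial (8 - k * p) * p ^ k * Nat.factorial k := by
  rw [Equiv.Perm.nat_card_centralizer, hc, Multiset.sum_replicate, Multiset.prod_replicate, Fintype.card_fin]
  have : (Multiset.replicate k p).toFinset = {p} := by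
    rw [Multiset.toFinset_replicate, if_neg hk]
  rw [this, Finset.prod_singleton, Multiset.count_replicate_self]
  simp

/-- **centralizers in `A₈`** -/
theorem card_centralizer_le {h : alternatingGroup (Fin 8)} (h1 : h ≠ 1) :
    Nat.card (centralizer ({h} : Set (alternatingGroup (Fin 8)))) ≤ 192 := by
  classical
  -- reduction to prime order
  have ho : orderOf h ≠ 1 := fun e => h1 (orderOf_eq_one_iff.1 e)
  obtain ⟨p, hp, hpd⟩ := Nat.exists_prime_and_dvd ho
  have hpos : 0 < orderOf h := orderOf_pos h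
  set k := h ^ (orderOf h / p) with hk
  have hko : orderOf k = p := orderOf_pow_orderOf_div hpos.ne' hpd
  have hle : centralizer ({h} : Set (alternatingGroup (Fin 8))) ≤ centralizer ({k} : Set (alternatingGroup (Fin 8))) := by
    intro g hg
    rw [mem_centralizer_singleton_iff] at hg ⊢
    exact (Commute.pow_right hg (orderOf h / p))
  refine (card_le_of_le hle).trans ?_
  obtain ⟨σ, hσ⟩ := k
  have hoσ : orderOf σ = p := by rw [← hko, Subgroup.orderOf_mk]
  obtain ⟨n, hn⟩ := cycleType_prime_order (σ := σ) (by rw [hoσ]; exact hp)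
  rw [hoσ] at hn
  have hs : (n + 1) * p ≤ 8 := by
    have h2 := sum_cycleType_le σ
    rw [hn, Multiset.sum_replicate, smul_eq_mul, Fintype.card_fin] at h2
    exact h2
  have hsg : sign σ = 1 := mem_alternatingGroup.1 hσ
  have hcard := card_rep hn (by omega)
  have hp2 := hp.two_le
  have hp8 : p ≤ 8 := by nlinarith only [hs]
  have hn8 : n ≤ 3 := by nlinarith only [hs, hp2]
  have hswap_fix : ∀ a b : Fin 8, σ a = a → σ b = b → a ≠ b → swap a b * σ = σ * swap a b := by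
    intro a b ha hb hab
    ext x
    simp only [Perm.mul_apply]
    by_cases hxa : x = a
    · subst hxa; rw [ha, swap_apply_left, hb]
    by_cases hxb : x = b
    · subst hxb; rw [hb, swap_apply_right, ha]
    rw [swap_apply_of_ne_of_ne hxa hxb, swap_apply_of_ne_of_ne]
    · intro e; exact hxa (σ.injective (e.trans ha.symm))
    · intro e; exact hxb (σ.injective (e.trans hb.symm))
  by_cases hp2' : p = 2
  · subst hp2'
    have hsq : σ * σ = 1 := by rw [← pow_two, ← hoσ, pow_orderOf_eq_one]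
    have hne : σ ≠ 1 := by
      rintro rfl
      rw [orderOf_one] at hoσ
      norm_num at hoσ
    obtain ⟨i, hi⟩ : ∃ i, σ i ≠ i := by
      by_contra hcon
      push Not at hcon
      exact hne (Equiv.ext hcon)
    have hii : σ (σ i) = i := by
      have := congrArg (fun t : Perm (Fin 8) => t i) hsq
      simpa using this
    have hcomm : swap i (σ i) * σ = σ * swap i (σ i) := by
      have e : σ * swap i (σ i) * σ⁻¹ = swap (σ i) (σ (σ i)) := Equiv.mul_swap_eq_swap_mul σ i (σ i) ▸ by group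
      rw [hii, swap_comm] at e
      have e2 := congrArg (fun t => t * σ) e
      simp only [inv_mul_cancel_right] at e2
      rw [swap_comm i (σ i)]
      exact e2.symm
    have h3 := card_half hσ hcomm (sign_swap (fun h => hi h.symm))
    rw [hcard] at h3
    have hs2 : (n + 1) * 2 ≤ 8 := hs
    have hsg2 := sign_of_cycleType σ
    rw [hn, hsg, Multiset.sum_replicate, Multiset.card_replicate, smul_eq_mul] at hsg2
    interval_cases n
    · exact absurd hsg2 (by decide)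
    · refine le_trans (by omega : _ ≤ _) (?_ : (Nat.factorial (8 - (1 + 1) * 2) * 2 ^ (1 + 1) * Nat.factorial (1 + 1)) / 2 ≤ 192)
      decide
    · exact absurd hsg2 (by decide)
    · refine le_trans (by omega : _ ≤ _) (?_ : (Nat.factorial (8 - (3 + 1) * 2) * 2 ^ (3 + 1) * Nat.factorial (3 + 1)) / 2 ≤ 192)
      decide
  by_cases h30 : p = 3 ∧ n = 0
  · obtain ⟨rfl, rfl⟩ := h30
    have hsup : σ.support.card = 3 := by
      rw [← sum_cycleType, hn]; rfl
    have hfix : 5 ≤ (σ.supportᶜ).card := by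
      rw [Finset.card_compl, hsup, Fintype.card_fin]
    obtain ⟨a, ha, b, hb, hab⟩ := Finset.one_lt_card.1 (by omega : 1 < (σ.supportᶜ).card)
    rw [Finset.mem_compl, notMem_support] at ha hb
    have h3 := card_half hσ (hswap_fix a b ha hb hab) (sign_swap hab)
    rw [hcard] at h3
    have e : Nat.factorial (8 - (0 + 1) * 3) * 3 ^ (0 + 1) * Nat.factorial (0 + 1) = 360 := by decide
    rw [e] at h3
    omega
  refine (card_le hσ).trans ?_
  rw [hcard]
  clear hcard hn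
  have h5 : p = 3 ∨ p = 5 ∨ p = 7 := by
    interval_cases p <;> first | (clear * - hσ hn8 hp2' h30; omega) | (exfalso; revert hp; decide)
  rcases h5 with h | h | h
  · have hn1 : n = 1 := by
      rw [h] at hs
      have : n ≠ 0 := fun h' => h30 ⟨h, h'⟩
      omega
    rw [h, hn1]
    decide
  · have hn1 : n = 0 := by
      rw [h] at hs
      omega
    rw [h, hn1]
    decide
  · have hn1 : n = 0 := by
      rw [h] at hs
      omega
    rw [h, hn1]
    decide

end Cfsg.Agent.H590.F4.AltC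
end

-- part: H590/F4/CFive
section
/-!
# S2491, row F4, box C5 : elements of `²E₆(2)` of order divisible by 5 (helper590)
-/

set_option autoImplicit false

namespace Cfsg.Agent.H590.F4.CFive

open Cfsg.Lie Subgroup
open Cfsg.Agent.H231.QF
open Cfsg.Agent.TwoESix.LeviA (Four)
open Cfsg.Agent.TwoESix.LongCard (r0)

universe u

/-- elements of `C(y) ≅ A × B`, `A` abelian -/
theorem card_cent_le {G A B : Type*} [Group G] [Finite G] [Group A] [Group B] {y g : G} {k : ℕ} (hy : y = g ^ k)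
    (e : centralizer ({y} : Set G) ≃* A × B) {n : ℕ} (hg : g ∈ centralizer ({y} : Set G))
    (hB : Nat.card (centralizer ({(e ⟨g, hg⟩).2} : Set B)) ≤ n) :
    Nat.card (centralizer ({g} : Set G)) ≤ Nat.card A * n := by
  have hle : centralizer ({g} : Set G) ≤ centralizer ({y} : Set G) := by
    intro c hc
    rw [mem_centralizer_singleton_iff] at hc ⊢
    rw [hy]
    exact Commute.pow_right hc k
  have : Finite (A × B) := Finite.of_equiv _ e.toEquiv
  have hfA : Finite A := Finite.of_injective (fun a : A => ((a, 1) : A × B)) fun a b h => (Prod.ext_iff.1 h).1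
  have hfB : Finite B := Finite.of_injective (fun a : B => ((1, a) : A × B)) fun a b h => (Prod.ext_iff.1 h).2
  let f : centralizer ({g} : Set G) → A × centralizer ({(e ⟨g, hg⟩).2} : Set B) := fun c =>
    ((e ⟨c, hle c.2⟩).1, ⟨(e ⟨c, hle c.2⟩).2, by
      rw [mem_centralizer_singleton_iff, ← Prod.snd_mul, ← Prod.snd_mul, ← map_mul, ← map_mul]
      congr 2
      exact Subtype.ext (mem_centralizer_singleton_iff.1 c.2)⟩)
  have hf : Function.Injective f := by
    intro a b hab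
    have h0 : f a = f b := hab
    have h1 : (f a).1 = (f b).1 := by rw [h0]
    have h2 : ((f a).2 : B) = ((f b).2 : B) := by rw [h0]
    have h3 : (⟨a, hle a.2⟩ : centralizer ({y} : Set G)) = ⟨b, hle b.2⟩ := e.injective (Prod.ext h1 h2)
    simp only [Subtype.mk.injEq] at h3
    exact Subtype.ext h3
  refine (Nat.card_le_card_of_injective f hf).trans ?_
  rw [Nat.card_prod]
  exact Nat.mul_le_mul_left _ hB

variable {F : Type u} [Field F] [Fintype F] (hF : Fintype.card F = 4) {φ : F →+* F} (hφ : ∀ t, φ t = t ^ 2)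

include hF hφ in
theorem four : Four F φ where
  card := hF
  sq := hφ
  inv t := by
    rw [hφ, hφ, ← pow_mul]
    have := FiniteField.pow_card t
    rwa [hF] at this

include hF hφ

/-- some element of order 5 commutes with a root element -/
theorem exists_five : ∃ x : KK F, orderOf x = 5 ∧ CR x := by
  have hc := Cfsg.Agent.TwoESix.LongCard.card_cent (four hF hφ)
  have h5 : 5 ∣ Nat.card (centralizer ({r0 (four hF hφ)} : Set (KK F))) := by
    rw [hc]; norm_num
  have : Fact (Nat.Prime 5) := ⟨by norm_num⟩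
  obtain ⟨x, hx⟩ := exists_prime_orderOf_dvd_card' 5 h5
  refine ⟨x, by rw [← hx, Subgroup.orderOf_coe], r0 (four hF hφ), ⟨?_, ?_, ?_⟩, mem_centralizer_singleton_iff.1 x.2⟩
  · exact Cfsg.Agent.TwoESix.LeviF.r0_ne (four hF hφ)
  · exact Cfsg.Agent.TwoESix.LeviF.r0_sq (four hF hφ)
  · rw [hc]; norm_num

/-- **C5** -/
theorem c_five (g : KK F) (h : 5 ∣ orderOf g) : CR g ∨ Sm g := by
  have : Finite (KK F) := inferInstance
  obtain ⟨hconj, hcen⟩ := Cfsg.Agent.H898.TE6Main.main hF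
  have hpos : 0 < orderOf g := orderOf_pos g
  set y := g ^ (orderOf g / 5) with hy
  have hyo : orderOf y = 5 := orderOf_pow_orderOf_div hpos.ne' h
  obtain ⟨e⟩ := hcen y hyo
  have hg : g ∈ centralizer ({y} : Set (KK F)) := by
    rw [mem_centralizer_singleton_iff, hy]
    exact Commute.pow_right (Commute.refl g) _
  by_cases h1 : (e ⟨g, hg⟩).2 = 1
  · left
    have h5 : g ^ 5 = 1 := by
      have e1 : (e ⟨g, hg⟩) ^ 5 = 1 := by
        refine Prod.ext ?_ ?_
        · show (e ⟨g, hg⟩).1 ^ 5 = 1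
          have := pow_card_eq_one' (x := (e ⟨g, hg⟩).1)
          rwa [Nat.card_eq_fintype_card, Fintype.card_multiplicative, ZMod.card] at this
        · show (e ⟨g, hg⟩).2 ^ 5 = 1
          rw [h1, one_pow]
      rw [← map_pow, map_eq_one_iff e e.injective] at e1
      exact congrArg Subtype.val e1
    have ho : orderOf g = 5 := by
      have h6 := orderOf_dvd_of_pow_eq_one h5
      rcases (Nat.dvd_prime (by norm_num)).1 h6 with h7 | h7
      · rw [h7] at h; norm_num at h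
      · exact h7
    obtain ⟨x, hx, t, ht, hxt⟩ := exists_five hF hφ
    obtain ⟨k, hk⟩ := isConj_iff.1 (hconj x g hx ho)
    refine ⟨k * t * k⁻¹, ?_, ?_⟩
    · obtain ⟨h1, h2, h3⟩ := ht
      refine ⟨?_, ?_, ?_⟩
      · intro h4
        apply h1
        calc t = k⁻¹ * (k * t * k⁻¹) * k := by group
          _ = 1 := by rw [h4]; group
      · calc k * t * k⁻¹ * (k * t * k⁻¹) = k * (t * t) * k⁻¹ := by group
          _ = 1 := by rw [h2]; group
      · have e2 : Nat.card (centralizer ({k * t * k⁻¹} : Set (KK F))) = Nat.card (centralizer ({t} : Set (KK F))) := by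
          refine Nat.card_congr ⟨fun c => ⟨k⁻¹ * c * k, ?_⟩, fun c => ⟨k * c * k⁻¹, ?_⟩, fun c => ?_, fun c => ?_⟩
          · have := mem_centralizer_singleton_iff.1 c.2
            rw [mem_centralizer_singleton_iff]
            calc k⁻¹ * (c : KK F) * k * t = k⁻¹ * ((c : KK F) * (k * t * k⁻¹)) * k := by group
              _ = k⁻¹ * ((k * t * k⁻¹) * (c : KK F)) * k := by rw [this]
              _ = t * (k⁻¹ * (c : KK F) * k) := by group
          · have := mem_centralizer_singleton_iff.1 c.2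
            rw [mem_centralizer_singleton_iff]
            calc k * (c : KK F) * k⁻¹ * (k * t * k⁻¹) = k * ((c : KK F) * t) * k⁻¹ := by group
              _ = k * (t * (c : KK F)) * k⁻¹ := by rw [this]
              _ = k * t * k⁻¹ * (k * (c : KK F) * k⁻¹) := by group
          · exact Subtype.ext (by group)
          · exact Subtype.ext (by group)
        rw [e2]; exact h3
    · rw [← hk]
      calc k * x * k⁻¹ * (k * t * k⁻¹) = k * (x * t) * k⁻¹ := by group
        _ = k * t * k⁻¹ * (k * x * k⁻¹) := by rw [hxt]; group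
  · right
    have h2 := card_cent_le hy e hg (AltC.card_centralizer_le h1)
    rw [Nat.card_eq_fintype_card (α := Multiplicative (ZMod 5)), Fintype.card_multiplicative, ZMod.card] at h2
    unfold Sm
    omega

end Cfsg.Agent.H590.F4.CFive
end

-- part: H258/QF/SecB
section
/-!
# `²E₆(2)` as a section of the Baby Monster: centralizers of elements of odd order (helper258)

* `exists_secB` : for every field of order four a subgroup `X₀` of the Baby Monster and an epimorphism `X₀ → ²E₆(2)` with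
  kernel `{1, t}`, `t` an involution;
* `Sc.exists_lift` : elements of odd order lift to elements of the same order; `Sc.two_mul_card_dvd` : `2 |C_E(y)|` divides
  `|C_X(m)|` for a lift `m` of odd order;
* `odd_dvd_B` : the odd divisors of `|C_B(y)|`, `|y| = 7`, divide `2205`; `odd_dvd` : the same for `²E₆(2)`.
-/

set_option autoImplicit false

namespace Cfsg.Agent.H258.QF

open Cfsg Subgroup

universe u v

/-- `σ : X₀ → E` is onto with kernel `{1, t}`, `t` an involution commuting with `X₀` -/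
structure Sc {X : Type v} {E : Type u} [Group X] [Group E] (t : X) {X₀ : Subgroup X} (σ : ↥X₀ →* E) : Prop where
  t_sq : t * t = 1
  t_ne : t ≠ 1
  mem : t ∈ X₀
  comm : ∀ m ∈ X₀, m * t = t * m
  surj : Function.Surjective σ
  ker : ∀ m : ↥X₀, σ m = 1 ↔ (m : X) = 1 ∨ (m : X) = t

namespace Sc

variable {X : Type v} {E : Type u} [Group X] [Group E] {t : X} {X₀ : Subgroup X} {σ : ↥X₀ →* E}

/-- elements of odd order lift to elements of the same order -/
theorem exists_lift (S : Sc t σ) {y : E} {n : ℕ} (hn : Odd n) (hy : orderOf y = n) : ∃ m : ↥X₀, σ m = y ∧ orderOf m = n := by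
  obtain ⟨m, hm⟩ := S.surj y
  have h1 : σ (m ^ n) = 1 := by rw [map_pow, hm, ← hy, pow_orderOf_eq_one]
  have h2 : (m ^ n) ^ 2 = 1 := by
    apply Subtype.ext
    rcases (S.ker _).1 h1 with h | h
    · rw [Subgroup.coe_pow, h, one_pow]; rfl
    · rw [Subgroup.coe_pow, h, pow_two, S.t_sq]; rfl
  refine ⟨m ^ (n + 1), ?_, ?_⟩
  · rw [map_pow, hm, pow_succ, ← hy, pow_orderOf_eq_one, one_mul]
  · have h3 : (m ^ (n + 1)) ^ n = 1 := by
      obtain ⟨k, hk⟩ := hn.add_one
      rw [← pow_mul, mul_comm, hk, pow_mul, ← two_mul, pow_mul, h2, one_pow]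
    have h4 : n ∣ orderOf (m ^ (n + 1)) := by
      have h5 : orderOf (σ (m ^ (n + 1))) ∣ orderOf (m ^ (n + 1)) := orderOf_map_dvd σ _
      rwa [show σ (m ^ (n + 1)) = y by rw [map_pow, hm, pow_succ, ← hy, pow_orderOf_eq_one, one_mul], hy] at h5
    exact Nat.dvd_antisymm (orderOf_dvd_of_pow_eq_one h3) h4

/-- if the images commute and `m` has odd order, then the elements commute -/
theorem comm_of (S : Sc t σ) {m c : ↥X₀} {n : ℕ} (hn : Odd n) (hm : m ^ n = 1) (h : σ c * σ m = σ m * σ c) :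
    c * m = m * c := by
  have h1 : σ (c * m * c⁻¹ * m⁻¹) = 1 := by
    rw [map_mul, map_mul, map_mul, map_inv, map_inv, h]
    group
  rcases (S.ker _).1 h1 with h2 | h2
  · have h3 : c * m * c⁻¹ * m⁻¹ = 1 := Subtype.ext h2
    have h4 : c * m * c⁻¹ = m := mul_inv_eq_one.1 h3
    exact mul_inv_eq_iff_eq_mul.1 h4
  · exfalso
    have h3 : c * m * c⁻¹ = (⟨t, S.mem⟩ : ↥X₀) * m := by
      have h4 : c * m * c⁻¹ * m⁻¹ = ⟨t, S.mem⟩ := Subtype.ext h2
      exact mul_inv_eq_iff_eq_mul.1 h4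
    have h5 : (c * m * c⁻¹) ^ n = 1 := by rw [conj_pow, hm]; group
    have hct : Commute (⟨t, S.mem⟩ : ↥X₀) m := Subtype.ext (S.comm m m.2).symm
    rw [h3, hct.mul_pow, hm, mul_one] at h5
    obtain ⟨k, rfl⟩ := hn
    have h6 : (⟨t, S.mem⟩ : ↥X₀) ^ 2 = 1 := Subtype.ext (by rw [Subgroup.coe_pow, pow_two]; exact S.t_sq)
    rw [pow_add, pow_mul, h6, one_pow, one_mul, pow_one] at h5
    exact S.t_ne (congrArg Subtype.val h5)

/-- `2 |C_E(y)|` divides `|C_X(m)|` for a lift `m` of odd order -/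
theorem two_mul_card_dvd (S : Sc t σ) [Finite X] {m : ↥X₀} {n : ℕ} (hn : Odd n) (hm : m ^ n = 1) :
    2 * Nat.card (centralizer ({σ m} : Set E)) ∣ Nat.card (centralizer ({(m : X)} : Set X)) := by
  have hE : Finite E := Finite.of_surjective σ S.surj
  set C : Subgroup E := centralizer ({σ m} : Set E) with hC
  set P : Subgroup ↥X₀ := C.comap σ with hP
  have h1 : P.map X₀.subtype ≤ centralizer ({(m : X)} : Set X) := by
    rintro _ ⟨c, hc, rfl⟩
    have h2 : σ c * σ m = σ m * σ c := mem_centralizer_singleton_iff.1 hc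
    have h3 := S.comm_of hn hm h2
    exact mem_centralizer_singleton_iff.2 (congrArg Subtype.val h3)
  have h2 : Nat.card ↥(P.map X₀.subtype) = Nat.card P :=
    Subgroup.card_map_of_injective X₀.subtype_injective
  have h3 : Nat.card P = 2 * Nat.card C := by
    have h4 := (σ.subgroupComap C).ker.card_mul_index
    rw [Subgroup.index_ker, MonoidHom.range_eq_top.2 (σ.subgroupComap_surjective_of_surjective C S.surj),
      Subgroup.card_top] at h4
    rw [← h4]
    congr 1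
    have e : (σ.subgroupComap C).ker ≃ ({1, t} : Set X) :=
      { toFun := fun a => ⟨((a : ↥P) : ↥X₀), by
          have h5 : σ ((a : ↥P) : ↥X₀) = 1 := congrArg Subtype.val ((MonoidHom.mem_ker).1 a.2)
          rcases (S.ker _).1 h5 with h | h
          · rw [h]; exact Set.mem_insert _ _
          · rw [h]; exact Set.mem_insert_of_mem _ rfl⟩
        invFun := fun b => ⟨⟨⟨b, by
            rcases b.2 with h | h
            · rw [h]; exact one_mem _
            · rw [Set.mem_singleton_iff.1 h]; exact S.mem⟩, by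
            have h5 : σ (⟨b, by
              rcases b.2 with h | h
              · rw [h]; exact one_mem _
              · rw [Set.mem_singleton_iff.1 h]; exact S.mem⟩ : ↥X₀) = 1 := (S.ker _).2 b.2
            change σ _ ∈ C
            rw [h5]; exact one_mem _⟩, by
          rw [MonoidHom.mem_ker]
          apply Subtype.ext
          exact (S.ker _).2 b.2⟩
        left_inv := fun a => rfl
        right_inv := fun b => rfl }
    have h6 : ({1, t} : Set X).ncard = 2 := Set.ncard_pair S.t_ne.symm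
    rw [Nat.card_congr e, ← h6]
    rfl
  rw [← h3, ← h2]
  exact card_dvd_of_le h1

end Sc

/-- **`²E₆(2)` as a section of the Baby Monster** -/
theorem exists_secB (F : Type u) [Field F] [Fintype F] (hF : Fintype.card F = 4) :
    ∃ (t : Spor.BabyMonster) (X₀ : Subgroup Spor.BabyMonster) (σ : ↥X₀ →* ↥(Lie.twistedE6 F 2)), Sc t σ := by
  obtain ⟨K, iK, iF, hK, t, X₀, σ, H, -, -⟩ := Cfsg.Agent.CTwoTab.BInst.exists_sec
  have e : K ≃+* F := FiniteField.ringEquivOfCardEq (by rw [hK, hF])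
  let E := Cfsg.Agent.H59.ESixField.equiv e 2
  refine ⟨t, X₀, E.toMonoidHom.comp σ, H.t_sq, H.t_ne, H.mem, H.comm, E.surjective.comp H.surj, fun m => ?_⟩
  rw [← H.ker m]
  change E (σ m) = 1 ↔ _
  exact MulEquiv.map_eq_one_iff E

/-! ### the prime seven -/

open Cfsg.Agent.MonsterX Cfsg.Agent.MonsterP Cfsg.Agent.CpAutBFive Cfsg.Agent.MFive Cfsg.Agent.H829.Pw in
/-- the centralizers of the involutions of `He` -/
theorem he_dvd {H : Type*} [Group H] (h : Spor.IsoHe H) {τ : H} (hτ : orderOf τ = 2) :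
    Nat.card ↥(centralizer ({τ} : Set H)) ∣ 2 ^ 10 * 315 := by
  obtain ⟨e⟩ := h
  rw [LThreeB.card_centralizer_congr e τ]
  have h2 : orderOf (e τ) = 2 := by rw [MulEquiv.orderOf_eq, hτ]
  have h3 : e τ * e τ = 1 := by rw [← pow_two, ← h2, pow_orderOf_eq_one]
  have h4 : e τ ≠ 1 := by
    intro h5
    rw [h5, orderOf_one] at h2
    norm_num at h2
  rcases CTwoTab.He.classes h3 h4 with hc | hc
  · have h5 : Nat.card ↥(Subgroup.centralizer ({CTwoTab.He.z} : Set Spor.He)) = 21504 := KFacts.He.Cent.card_cent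
    rw [card_cent_of_isConj hc, h5]
    norm_num
  · rw [card_cent_of_isConj hc]
    exact H997.OutHe.card_cent_a.trans (by norm_num)

open Cfsg.Agent.MonsterX Cfsg.Agent.MonsterP Cfsg.Agent.CpAutBFive Cfsg.Agent.MFive Cfsg.Agent.H829.Pw in
/-- `2 |C_B(y)|` divides `7 |C_He(τ)|` -/
theorem card_dvd_B {L : Type u} [Group L] [Finite L] (h : Spor.IsoB L) {y : L} (hy : orderOf y = 7) :
    2 * Nat.card ↥(centralizer ({y} : Set L)) ∣ 7 * (2 ^ 10 * 315) := by
  have hfin : Finite H630.Baby.Mon := MThirteen.Row.finite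
  obtain ⟨t, x, ht, hx, hxt, hc⟩ := H630.Baby.exists_lift_card h (by norm_num) (by norm_num) hy
  obtain ⟨g, hg⟩ := exists_he (v := t) ht hx hxt
  have hx' : orderOf (g⁻¹ * x * g) = 7 := by
    have h6 := MulEquiv.orderOf_eq (MulAut.conj g⁻¹) x
    rw [MulAut.conj_apply, inv_inv] at h6
    rw [h6, hx]
  have ht' : orderOf (g⁻¹ * t * g) = 2 := by
    have h6 := MulEquiv.orderOf_eq (MulAut.conj g⁻¹) t
    rw [MulAut.conj_apply, inv_inv] at h6
    rw [h6]
    exact MThirteen.Row.ta_order ht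
  have hxt' : g⁻¹ * x * g * (g⁻¹ * t * g) = g⁻¹ * t * g * (g⁻¹ * x * g) := by
    calc g⁻¹ * x * g * (g⁻¹ * t * g) = g⁻¹ * (x * t) * g := by group
      _ = g⁻¹ * (t * x) * g := by rw [hxt]
      _ = _ := by group
  obtain ⟨τ, hτ, hd⟩ := H979.BAdj.card_XT_dvd (r := 7) (by norm_num) (by norm_num) hx' ht' hxt'
  have h1 : Nat.card ↥(LThreeB.XT x t) = Nat.card ↥(LThreeB.XT (g⁻¹ * x * g) (g⁻¹ * t * g)) := by
    have h2 := Nat.card_congr (LThreeB.conjXT g⁻¹ x t).toEquiv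
    rw [inv_inv] at h2
    exact h2
  rw [← h1, hc] at hd
  rw [mul_comm]
  exact hd.trans (Nat.mul_dvd_mul_left 7 (he_dvd hg hτ))

/-- the centralizers of the elements of order seven of `²E₆(2)` -/
theorem card_dvd {F : Type u} [Field F] [Fintype F] (hF : Fintype.card F = 4) {y : ↥(Lie.twistedE6 F 2)}
    (hy : orderOf y = 7) : Nat.card ↥(centralizer ({y} : Set ↥(Lie.twistedE6 F 2))) ∣ 2 ^ 8 * 2205 := by
  have hfin : Finite Spor.BabyMonster := CTwoTab.BInst.finite_B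
  obtain ⟨t, X₀, σ, S⟩ := exists_secB F hF
  obtain ⟨m, hm, hm7⟩ := S.exists_lift (by decide : Odd 7) hy
  have h1 := S.two_mul_card_dvd (m := m) (by decide : Odd 7) (by rw [← hm7]; exact pow_orderOf_eq_one m)
  rw [hm] at h1
  have h2 : orderOf (m : Spor.BabyMonster) = 7 := by rw [Subgroup.orderOf_coe, hm7]
  have h3 := card_dvd_B (L := Spor.BabyMonster) ⟨MulEquiv.refl _⟩ h2
  have h4 : 2 * (2 * Nat.card ↥(centralizer ({y} : Set ↥(Lie.twistedE6 F 2)))) ∣ 7 * (2 ^ 10 * 315) :=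
    (Nat.mul_dvd_mul_left 2 h1).trans h3
  have h5 : 4 * Nat.card ↥(centralizer ({y} : Set ↥(Lie.twistedE6 F 2))) ∣ 4 * (2 ^ 8 * 2205) := by
    have e : 7 * (2 ^ 10 * 315) = 4 * (2 ^ 8 * 2205) := by norm_num
    rw [← e]
    refine dvd_trans (dvd_of_eq ?_) h4
    ring
  exact Nat.dvd_of_mul_dvd_mul_left (by norm_num) h5

end Cfsg.Agent.H258.QF
end

-- part: H258/QF/OddSeven
section
/-!
# `²E₆(2)` : elements of order divisible by seven with a centralizer of odd order (helper258)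

`odd_seven` : `7 ∣ |g|` and `|C(g)|` odd imply `|C(g)| ≤ 735`, so `Sm g`.
-/

set_option autoImplicit false

namespace Cfsg.Agent.H258.QF

open Cfsg Cfsg.Lie Subgroup
open Cfsg.Agent.H231.QF

universe u

/-- no element of order 21 in `Sym 8` -/
theorem not_21 (s : Equiv.Perm (Fin 8)) : orderOf s ≠ 21 := by
  intro h
  have h1 : s.cycleType.sum ≤ 8 := by
    rw [Equiv.Perm.sum_cycleType]
    exact (Finset.card_le_univ _).trans (by rw [Fintype.card_fin])
  have h2 : s.cycleType.lcm = 21 := by rw [Equiv.Perm.lcm_cycleType, h]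
  have key : ∀ p : ℕ, p.Prime → ∀ S : Multiset ℕ, p ∣ S.lcm → ∃ a ∈ S, p ∣ a := by
    intro p hp S
    induction S using Multiset.induction_on with
    | empty =>
      intro h
      rw [Multiset.lcm_zero] at h
      exact absurd (Nat.dvd_one.1 h) hp.ne_one
    | cons a S ih =>
      intro h
      rw [Multiset.lcm_cons] at h
      have h3 : p ∣ a * S.lcm := h.trans (by
        change Nat.lcm a S.lcm ∣ _
        exact Nat.lcm_dvd_mul _ _)
      rcases hp.dvd_mul.1 h3 with h4 | h4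
      · exact ⟨a, Multiset.mem_cons_self a S, h4⟩
      · obtain ⟨b, hb, hb'⟩ := ih h4
        exact ⟨b, Multiset.mem_cons_of_mem hb, hb'⟩
  obtain ⟨a, ha, ha7⟩ := key 7 (by norm_num) _ (by rw [h2]; norm_num)
  obtain ⟨b, hb, hb3⟩ := key 3 (by norm_num) _ (by rw [h2]; norm_num)
  have ha2 := Equiv.Perm.two_le_of_mem_cycleType ha
  have hb2 := Equiv.Perm.two_le_of_mem_cycleType hb
  have hale : a ≤ s.cycleType.sum := Multiset.le_sum_of_mem ha
  have hab : a ≠ b := by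
    rintro rfl
    have : 21 ∣ a := by
      have := Nat.Coprime.mul_dvd_of_dvd_of_dvd (by norm_num : Nat.Coprime 7 3) ha7 hb3
      simpa using this
    have := Nat.le_of_dvd (by (clear * - ha2; omega)) this
    (clear * - h1 ha7 ha2 hale hb3; omega)
  have h3 : a + b ≤ s.cycleType.sum := by
    obtain ⟨T, hT⟩ := Multiset.exists_cons_of_mem ha
    rw [hT] at hb ⊢
    rcases Multiset.mem_cons.1 hb with h | h
    · exact absurd h.symm hab
    · rw [Multiset.sum_cons]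
      exact Nat.add_le_add_left (Multiset.le_sum_of_mem h) a
  have h7 := Nat.le_of_dvd (by omega) ha7
  have h8 := Nat.le_of_dvd (by omega) hb3
  omega

/-- no commuting elements of orders 3, 5, 7 in `²E₆(2)` -/
theorem no_105 {F : Type u} [Field F] [Fintype F] (hF : Fintype.card F = 4) {w y s : KK F} (hw : orderOf w = 5)
    (hy : orderOf y = 7) (hs : orderOf s = 3) (h1 : w * y = y * w) (h2 : w * s = s * w) (h3 : y * s = s * y) : False := by
  obtain ⟨e⟩ := (Cfsg.Agent.S2227.result (K := F) hF).2 w hw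
  let y' : ↥(centralizer ({w} : Set (KK F))) := ⟨y, mem_centralizer_singleton_iff.2 h1.symm⟩
  let s' : ↥(centralizer ({w} : Set (KK F))) := ⟨s, mem_centralizer_singleton_iff.2 h2.symm⟩
  have hc : Commute y' s' := Subtype.ext h3
  have ho : orderOf (y' * s') = 21 := by
    have hy' : orderOf y' = 7 := by rw [← Subgroup.orderOf_coe]; exact hy
    have hs' : orderOf s' = 3 := by rw [← Subgroup.orderOf_coe]; exact hs
    rw [hc.orderOf_mul_eq_mul_orderOf_of_coprime (by rw [hy', hs']; norm_num), hy', hs']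
  have ho' : orderOf (e (y' * s')) = 21 := by rw [MulEquiv.orderOf_eq, ho]
  generalize e (y' * s') = x at ho'
  obtain ⟨a, b⟩ := x
  rw [Prod.orderOf_mk] at ho'
  have ha : orderOf a ∣ 5 := by
    have h4 := _root_.orderOf_dvd_natCard a
    rwa [Nat.card_eq_fintype_card, Fintype.card_multiplicative, ZMod.card] at h4
  have h5 : orderOf a = 1 := by
    rcases (Nat.dvd_prime (by norm_num)).1 ha with h | h
    · exact h
    · exfalso
      have h6 : orderOf a ∣ (orderOf a).lcm (orderOf b) := Nat.dvd_lcm_left _ _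
      rw [ho', h] at h6
      norm_num at h6
  rw [h5, Nat.lcm_one_left] at ho'
  refine not_21 (b : Equiv.Perm (Fin 8)) ?_
  rw [Subgroup.orderOf_coe, ho']

/-- an element of order five, normalized by an element of order three, is centralized -/
theorem comm_of_norm {G : Type*} [Group G] {w s : G} (hw : orderOf w = 5) (hs : orderOf s = 3)
    (h : s * w * s⁻¹ ∈ zpowers w) : w * s = s * w := by
  obtain ⟨k, hk⟩ := mem_zpowers_iff.1 h
  have h1 : s * w * s⁻¹ = w ^ k := hk.symm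
  have h2 : s * (s * w * s⁻¹) * s⁻¹ = w ^ (k * k) := by
    rw [h1, ← conj_zpow, h1, ← zpow_mul]
  have h3 : s * (s * (s * w * s⁻¹) * s⁻¹) * s⁻¹ = w ^ (k * k * k) := by
    rw [h2, ← conj_zpow, h1, ← zpow_mul]
    congr 1
    ring
  have h4 : s * (s * (s * w * s⁻¹) * s⁻¹) * s⁻¹ = w := by
    have h5 : s * s * s = 1 := by
      have := pow_orderOf_eq_one s
      rwa [hs, pow_succ, pow_two] at this
    calc s * (s * (s * w * s⁻¹) * s⁻¹) * s⁻¹ = (s * s * s) * w * (s * s * s)⁻¹ := by group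
      _ = w := by rw [h5]; group
  rw [h4] at h3
  have h6 : w ^ (k * k * k - 1) = 1 := by
    rw [zpow_sub, ← h3, zpow_one, mul_inv_cancel]
  have h7 : ((5 : ℕ) : ℤ) ∣ k * k * k - 1 := by
    rw [← hw]
    exact orderOf_dvd_iff_zpow_eq_one.2 h6
  have h8 : ((5 : ℕ) : ℤ) ∣ k - 1 := by
    have h9 : k * k * k - 1 = k ^ 3 - 1 := by ring
    rw [h9] at h7
    have h10 : ((k : ZMod 5)) ^ 3 = 1 := by
      have := (ZMod.intCast_zmod_eq_zero_iff_dvd (k ^ 3 - 1) 5).2 h7
      push_cast at this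
      exact sub_eq_zero.1 this
    have h11 : ∀ a : ZMod 5, a ^ 3 = 1 → a = 1 := by decide
    have h12 := h11 _ h10
    have h13 : ((k - 1 : ℤ) : ZMod 5) = 0 := by
      push_cast
      rw [h12, sub_self]
    exact (ZMod.intCast_zmod_eq_zero_iff_dvd (k - 1) 5).1 h13
  have h9 : w ^ (k - 1) = 1 := by
    rw [← orderOf_dvd_iff_zpow_eq_one, hw]
    exact h8
  have h10 : w ^ k = w := by
    rw [show k = k - 1 + 1 by ring, zpow_add, h9, one_mul, zpow_one]
  rw [h10] at h1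
  exact (mul_inv_eq_iff_eq_mul.1 h1).symm

/-- `|C(g)| ≠ 2205` -/
theorem ne_2205 {F : Type u} [Field F] [Fintype F] (hF : Fintype.card F = 4) {g : KK F} (h : 7 ∣ orderOf g) :
    Nat.card (centralizer ({g} : Set (KK F))) ≠ 2205 := by
  intro hc
  have hfin : Finite (KK F) := inferInstance
  obtain ⟨k, hk⟩ := h
  have hpos := orderOf_pos g
  have hy : orderOf (g ^ k) = 7 := by
    rw [orderOf_pow_of_dvd (by rintro rfl; omega) (by rw [hk]; exact Dvd.intro_left 7 rfl), hk]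
    exact Nat.mul_div_cancel _ (by rcases Nat.eq_zero_or_pos k with h | h; · subst h; omega
                                   · exact h)
  set y := g ^ k with hyd
  set C := centralizer ({g} : Set (KK F)) with hC
  have hyc : ∀ c ∈ C, c * y = y * c := by
    intro c hc
    have h1 : Commute c g := mem_centralizer_singleton_iff.1 hc
    exact h1.pow_right k
  have : Fact (Nat.Prime 5) := ⟨by norm_num⟩
  have : Fact (Nat.Prime 3) := ⟨by norm_num⟩
  obtain ⟨S⟩ := (inferInstance : Nonempty (Sylow 5 ↥C))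
  have hS : Nat.card S = 5 := by
    rw [Sylow.card_eq_multiplicity, hc]
    have : (2205 : ℕ).factorization 5 = 1 := by
      rw [show (2205 : ℕ) = 5 ^ 1 * 441 by norm_num, Nat.factorization_mul (by norm_num) (by norm_num)]
      rw [Nat.Prime.factorization_pow (by norm_num)]
      simp only [Finsupp.coe_add, Pi.add_apply, Finsupp.single_eq_same]
      rw [Nat.factorization_eq_zero_of_not_dvd (by norm_num)]
    rw [this, pow_one]
  -- the normalizer
  have hn1 : Nat.card (Sylow 5 ↥C) ≡ 1 [MOD 5] := card_sylow_modEq_one 5 ↥C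
  have hn2 : Nat.card (Sylow 5 ↥C) = (normalizer ((S : Subgroup ↥C) : Set ↥C)).index := Sylow.card_eq_index_normalizer S
  have hn3 := (normalizer ((S : Subgroup ↥C) : Set ↥C)).card_mul_index
  rw [hc, ← hn2] at hn3
  have hycC : y ∈ C := mem_centralizer_singleton_iff.2 ((Commute.refl g).pow_left k)
  let y' : ↥C := ⟨y, hycC⟩
  have hy' : orderOf y' = 7 := by rw [← Subgroup.orderOf_coe]; exact hy
  have h7 : 7 ∣ Nat.card (normalizer ((S : Subgroup ↥C) : Set ↥C)) := by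
    have h8 : y' ∈ normalizer ((S : Subgroup ↥C) : Set ↥C) := by
      rw [mem_normalizer_iff]
      intro a
      have h9 : y' * a * y'⁻¹ = a := by
        rw [mul_inv_eq_iff_eq_mul]
        exact Subtype.ext (hyc a a.2).symm
      rw [h9]
    have h10 : orderOf (⟨y', h8⟩ : ↥(normalizer ((S : Subgroup ↥C) : Set ↥C))) = 7 := by
      rw [Subgroup.orderOf_mk, hy']
    rw [← h10]
    exact _root_.orderOf_dvd_natCard _
  have h5 : 5 ∣ Nat.card (normalizer ((S : Subgroup ↥C) : Set ↥C)) := by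
    have h11 := card_dvd_of_le (le_normalizer (H := (S : Subgroup ↥C)))
    rwa [hS] at h11
  have h3 : 3 ∣ Nat.card (normalizer ((S : Subgroup ↥C) : Set ↥C)) := by
    generalize Nat.card (normalizer ((S : Subgroup ↥C) : Set ↥C)) = a at hn3 h7 h5 ⊢
    generalize Nat.card (Sylow 5 ↥C) = b at hn3 hn1
    have h35 : 35 ∣ a := by
      have := Nat.Coprime.mul_dvd_of_dvd_of_dvd (by norm_num : Nat.Coprime 7 5) h7 h5
      simpa using this
    obtain ⟨c, rfl⟩ := h35
    have hcb : c * b = 63 := by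
      have h1 : 35 * (c * b) = 35 * 63 := by rw [← mul_assoc, hn3]
      exact Nat.eq_of_mul_eq_mul_left (by norm_num) h1
    have hc1 : c ∣ 63 := Dvd.intro _ hcb
    have hc2 : c ∈ Nat.divisors 63 := Nat.mem_divisors.2 ⟨hc1, by norm_num⟩
    have hd : Nat.divisors 63 = {1, 3, 7, 9, 21, 63} := by decide +kernel
    rw [hd] at hc2
    simp only [Finset.mem_insert, Finset.mem_singleton] at hc2
    rcases hc2 with h | h | h | h | h | h <;> subst h
    · exfalso
      have : b = 63 := by omega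
      subst this
      exact absurd hn1 (by decide)
    · norm_num
    · exfalso
      have : b = 9 := by omega
      subst this
      exact absurd hn1 (by decide)
    · norm_num
    · norm_num
    · norm_num
  obtain ⟨⟨s, hsN⟩, hs⟩ := exists_prime_orderOf_dvd_card' 3 h3
  rw [Subgroup.orderOf_mk] at hs
  obtain ⟨⟨w, hwS⟩, hw⟩ := exists_prime_orderOf_dvd_card' (G := ↥(S : Subgroup ↥C)) 5 (by
    rw [show Nat.card ↥(S : Subgroup ↥C) = 5 from hS])
  rw [Subgroup.orderOf_mk] at hw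
  have hz : zpowers w = (S : Subgroup ↥C) := by
    refine Subgroup.eq_of_le_of_card_ge (by rw [zpowers_le]; exact hwS) ?_
    rw [Nat.card_zpowers, hw]
    exact le_of_eq hS
  have hsw : s * w * s⁻¹ ∈ zpowers w := by
    rw [hz]
    exact (mem_normalizer_iff.1 hsN w).1 hwS
  have hcomm := comm_of_norm hw hs hsw
  refine no_105 hF (w := (w : KK F)) (y := y) (s := (s : KK F)) (by rw [Subgroup.orderOf_coe]; exact hw) hy
    (by rw [Subgroup.orderOf_coe]; exact hs) (hyc _ w.2) (congrArg Subtype.val hcomm) (hyc _ s.2).symm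

/-- **`7 ∣ |g|` and `|C(g)|` odd : `|C(g)| ≤ 735`** -/
theorem odd_seven {F : Type u} [Field F] [Fintype F] (hF : Fintype.card F = 4) (g : KK F) (h : 7 ∣ orderOf g)
    (ho : Odd (Nat.card (centralizer ({g} : Set (KK F))))) : Nat.card (centralizer ({g} : Set (KK F))) ≤ 735 := by
  have hfin : Finite (KK F) := inferInstance
  have hne := ne_2205 hF h
  obtain ⟨k, hk⟩ := h
  have hpos := orderOf_pos g
  have hy : orderOf (g ^ k) = 7 := by
    rw [orderOf_pow_of_dvd (by rintro rfl; omega) (by rw [hk]; exact Dvd.intro_left 7 rfl), hk]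
    exact Nat.mul_div_cancel _ (by rcases Nat.eq_zero_or_pos k with h | h; · subst h; omega
                                   · exact h)
  have h1 : centralizer ({g} : Set (KK F)) ≤ centralizer ({g ^ k} : Set (KK F)) := by
    intro c hc
    have h1 : Commute c g := mem_centralizer_singleton_iff.1 hc
    exact mem_centralizer_singleton_iff.2 (h1.pow_right k)
  have h2 := (card_dvd_of_le h1).trans (card_dvd hF hy)
  have h3 : Nat.card (centralizer ({g} : Set (KK F))) ∣ 2205 :=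
    (Nat.Coprime.dvd_mul_left (Nat.Coprime.pow_right 8 (Nat.coprime_two_right.2 ho))).1 h2
  obtain ⟨b, hb⟩ := h3
  have h4 : b ≠ 1 := by
    rintro rfl
    rw [mul_one] at hb
    exact hne hb.symm
  have h5 : Odd b := by
    have : Odd (Nat.card (centralizer ({g} : Set (KK F))) * b) := by rw [← hb]; decide
    exact (Nat.odd_mul.1 this).2
  obtain ⟨c, hc⟩ := h5
  have h6 : 3 ≤ b := by omega
  generalize Nat.card (centralizer ({g} : Set (KK F))) = a at hb
  nlinarith only [h6, hb]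

theorem sm_of_odd_seven {F : Type u} [Field F] [Fintype F] (hF : Fintype.card F = 4) (g : KK F) (h : 7 ∣ orderOf g)
    (ho : Odd (Nat.card (centralizer ({g} : Set (KK F))))) : Sm g :=
  (odd_seven hF g h ho).trans (by norm_num)

end Cfsg.Agent.H258.QF
end

-- part: H287/F4/Split
section
/-!
# `²E₆(2)`: elements commuting with an involution, with the position of the involution (S2491, row F4)

* `par_split` : if `g z = z g`, `z² = 1 ≠ z`, then `g` is conjugate into `P₁` or `P₄`, or a conjugate of `(g, z)` is in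
  `(P₂, V₂)` and `7 ∣ orderOf g`, or in `(P_J, V_J)`, `J = {0,1,3}` or `{0,3}`, and `5 ∣ orderOf g`.
-/

set_option autoImplicit false
set_option linter.unusedSectionVars false

namespace Cfsg.Agent.H287.F4.Par

open CoxeterSystem Cfsg.Agent.ChevalleyStructure.CoxeterGeom Cfsg.Agent.Tits.Roots Cfsg.Agent.Tits.Core
  Cfsg.Agent.Nodes Cfsg.Agent.Nodes.Reps Cfsg.Agent.Nodes.BNOf Cfsg.Agent.Nodes.RGDLib Cfsg.Agent.Nodes.Bruhat
  Cfsg.Agent.Nodes.OppDec Cfsg.Agent.Nodes.LeviDec Cfsg.Agent.Nodes.StabComb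
open Cfsg.Lie Subgroup
open Cfsg.Agent.H231.QF (cs X V Lv P j1 j2 j3 j4 In Out CR Sm)
open Cfsg.Agent.H164.F4.OutV (charTwo hqq gg_top)

universe u

/-- the group -/
local notation "YY" => Cfsg.Agent.H231.QF.KK

variable {F : Type u} [Field F] [Fintype F] (hF : Fintype.card F = 4) {φ : F →+* F} (hφ : ∀ t, φ t = t ^ 2)

include hF hφ

theorem par_split (g z : YY F) (hz : z ≠ 1) (hz2 : z * z = 1) (hc : g * z = z * g) :
    In φ j1 g ∨ In φ j4 g ∨
      (∃ x : YY F, x * g * x⁻¹ ∈ P φ j2 ∧ x * z * x⁻¹ ∈ V φ j2 ∧ 7 ∣ orderOf (x * g * x⁻¹)) ∨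
      ∃ (x : YY F) (J : Set (Fin 4)), (J = j3 ∨ J = {0, 3}) ∧ x * g * x⁻¹ ∈ P φ J ∧ x * z * x⁻¹ ∈ V φ J ∧
        5 ∣ orderOf (x * g * x⁻¹) := by
  have hfin := finW
  have : CharP F 2 := charTwo hF
  have : Fact (Nat.Prime 2) := ⟨Nat.prime_two⟩
  have hK : IsPGroup 2 (Subgroup.zpowers z) := by
    rintro ⟨x, hx⟩
    obtain ⟨k, rfl⟩ := hx
    refine ⟨1, Subtype.ext ?_⟩
    change (z ^ k) ^ 2 ^ 1 = 1
    rw [pow_one, ← zpow_natCast, ← zpow_mul, mul_comm, zpow_mul]
    norm_num only [_root_.zpow_ofNat]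
    rw [sq, hz2, one_zpow]
  have hK1 : Subgroup.zpowers z ≠ ⊥ := by
    rw [Ne, Subgroup.zpowers_eq_bot]
    exact hz
  obtain ⟨a, J, hJ, h1, h2⟩ := Cfsg.Agent.KFacts.RgdFilt.borel_tits_of_filt
    (Cfsg.Agent.KFacts.RgdFiltTwAll.filt_fold cs RGDTwE6.isCartan RGDTwE6.foldData (RGDTwE6.foldGrp hφ (hqq hF)) 2)
    (RGDTwE6.G1_eq_top cs hφ (hqq hF)) hK hK1
  have h3 : g ∈ Subgroup.normalizer (Subgroup.zpowers z : Set (YY F)) := by
    refine norm_of_comm fun k hk => ?_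
    obtain ⟨m, rfl⟩ := Subgroup.mem_zpowers_iff.1 hk
    exact (Commute.zpow_right hc m).eq
  have h4 := h2 h3
  have h1' := h1 (Subgroup.mem_zpowers z)
  rw [mem_cj] at h4 h1'
  have h4' : a⁻¹ * g * (a⁻¹)⁻¹ ∈ P φ J := by rw [inv_inv]; exact h4
  have h1'' : a⁻¹ * z * (a⁻¹)⁻¹ ∈ V φ J := by rw [inv_inv]; exact h1'
  obtain ⟨i, hi⟩ : ∃ i, i ∉ J := by
    by_contra hcon
    push Not at hcon
    exact hJ (Set.eq_univ_of_forall hcon)
  have h5 : ∀ (i : Fin 4) (j : Set (Fin 4)), i ∉ J → (∀ k, k ≠ i → k ∈ j) → a⁻¹ * g * (a⁻¹)⁻¹ ∈ P φ j :=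
    fun i j hi hj => PJ_mono (fun k hk => hj k (by rintro rfl; exact hi hk)) h4'
  have hin : ∀ {J' : Set (Fin 4)}, In φ J' (a⁻¹ * g * (a⁻¹)⁻¹) → In φ J' g := by
    rintro J' ⟨x, hx⟩
    refine ⟨x * a⁻¹, ?_⟩
    have e : x * a⁻¹ * g * (x * a⁻¹)⁻¹ = x * (a⁻¹ * g * (a⁻¹)⁻¹) * x⁻¹ := by group
    rw [e]
    exact hx
  by_cases h0 : (0 : Fin 4) ∈ J
  swap
  · exact Or.inl ⟨a⁻¹, h5 0 j1 h0 fun k hk => hk⟩
  by_cases h3' : (3 : Fin 4) ∈ J
  swap
  · exact Or.inr (Or.inl ⟨a⁻¹, h5 3 j4 h3' fun k hk => hk⟩)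
  by_cases h22 : (2 : Fin 4) ∈ J
  · have h11 : (1 : Fin 4) ∉ J := by
      intro h11
      apply hi
      have : ∀ i : Fin 4, i = 0 ∨ i = 1 ∨ i = 2 ∨ i = 3 := by decide
      rcases this i with rfl | rfl | rfl | rfl <;> assumption
    have hJ2 : J = j2 := by
      ext k
      constructor
      · rintro hk rfl
        exact h11 hk
      · intro hk
        have h6 : k ≠ 1 := hk
        have : ∀ i : Fin 4, i ≠ 1 → i = 0 ∨ i = 2 ∨ i = 3 := by decide
        rcases this k h6 with rfl | rfl | rfl <;> assumption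
    rw [hJ2] at h4' h1''
    rcases case_j2 hF hφ h4' with h6 | h6
    · exact Or.inr (Or.inl (hin h6))
    · exact Or.inr (Or.inr (Or.inl ⟨a⁻¹, h4', h1'', h6⟩))
  · rcases case_j3 hF hφ (h5 2 j3 h22 fun k hk => hk) with h6 | h6
    · exact Or.inr (Or.inl (hin h6))
    · refine Or.inr (Or.inr (Or.inr ⟨a⁻¹, J, ?_, h4', h1'', h6⟩))
      by_cases h11 : (1 : Fin 4) ∈ J
      · left
        ext k
        constructor
        · rintro hk rfl
          exact h22 hk
        · intro hk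
          have h7 : k ≠ 2 := hk
          have : ∀ i : Fin 4, i ≠ 2 → i = 0 ∨ i = 1 ∨ i = 3 := by decide
          rcases this k h7 with rfl | rfl | rfl <;> assumption
      · right
        ext k
        constructor
        · intro hk
          have h7 : k ≠ 2 := by rintro rfl; exact h22 hk
          have h8 : k ≠ 1 := by rintro rfl; exact h11 hk
          exact (show ∀ i : Fin 4, i ≠ 2 → i ≠ 1 → (i = 0 ∨ i = 3) by decide) k h7 h8
        · rintro (rfl | hk)
          · exact h0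
          · rw [Set.mem_singleton_iff.1 hk]
            exact h3'

end Cfsg.Agent.H287.F4.Par
end
end

-- part: H235/F4/CSeven
section
set_option linter.all false
open scoped Cfsg.Agent.FastGrp

/-!
# S2491, row F4 = `²E₆(2)` : C7 from its pieces (helper235)

`c_seven_of` : the stub `c_seven` from K1, K2, E7 (fixed points of elements of order divisible by `7` in `V₂`).
-/

set_option autoImplicit false
set_option linter.unusedSectionVars false

namespace Cfsg.Agent.H235.F4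

open CoxeterSystem Cfsg.Agent.ChevalleyStructure.CoxeterGeom Cfsg.Agent.Tits.Roots Cfsg.Agent.Tits.Core
  Cfsg.Agent.Nodes Cfsg.Agent.Nodes.Reps Cfsg.Agent.Nodes.BNOf Cfsg.Agent.Nodes.RGDLib Cfsg.Agent.Nodes.Bruhat
  Cfsg.Agent.Nodes.OppDec Cfsg.Agent.Nodes.LeviDec Cfsg.Agent.Nodes.StabComb
open Cfsg.Lie Subgroup
open Cfsg.Agent.H231.QF

universe u

variable {F : Type u} [Field F]

theorem re_conj {t : KK F} (h : RE t) (x : KK F) : RE (x * t * x⁻¹) := by
  obtain ⟨h1, h2, h3⟩ := h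
  refine ⟨?_, ?_, ?_⟩
  · intro h4
    apply h1
    calc t = x⁻¹ * (x * t * x⁻¹) * x := by group
      _ = 1 := by rw [h4]; group
  · calc x * t * x⁻¹ * (x * t * x⁻¹) = x * (t * t) * x⁻¹ := by group
      _ = 1 := by rw [h2]; group
  · have h4 : Nat.card (centralizer ({x * t * x⁻¹} : Set (KK F))) = Nat.card (centralizer ({t} : Set (KK F))) := by
      have h5 : centralizer ({x * t * x⁻¹} : Set (KK F)) = (centralizer ({t} : Set (KK F))).map (MulAut.conj x).toMonoidHom := by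
        ext y
        rw [mem_centralizer_singleton_iff]
        constructor
        · intro h
          refine ⟨x⁻¹ * y * x, ?_, ?_⟩
          · show x⁻¹ * y * x ∈ centralizer ({t} : Set (KK F))
            rw [mem_centralizer_singleton_iff]
            calc x⁻¹ * y * x * t = x⁻¹ * (y * (x * t * x⁻¹)) * x := by group
              _ = t * (x⁻¹ * y * x) := by rw [h]; group
          · show x * (x⁻¹ * y * x) * x⁻¹ = y
            group
        · rintro ⟨z, hz, rfl⟩
          have hz' : z ∈ centralizer ({t} : Set (KK F)) := hz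
          rw [mem_centralizer_singleton_iff] at hz'
          show x * z * x⁻¹ * (x * t * x⁻¹) = x * t * x⁻¹ * (x * z * x⁻¹)
          calc x * z * x⁻¹ * (x * t * x⁻¹) = x * (z * t) * x⁻¹ := by group
            _ = _ := by rw [hz']; group
      rw [h5]
      exact (Nat.card_congr ((centralizer ({t} : Set (KK F))).equivMapOfInjective _
        (MulAut.conj x).injective).toEquiv).symm
    rw [h4]
    exact h3

/-- `CR` is invariant under conjugation -/
theorem cr_of_conj {g x : KK F} (h : CR (x * g * x⁻¹)) : CR g := by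
  obtain ⟨t, ht, hc⟩ := h
  refine ⟨x⁻¹ * t * (x⁻¹)⁻¹, re_conj ht x⁻¹, ?_⟩
  calc g * (x⁻¹ * t * (x⁻¹)⁻¹) = x⁻¹ * (x * g * x⁻¹ * t) * x := by group
    _ = _ := by rw [hc]; group

section

variable [Fintype F] {φ : F →+* F}
  (hre : ∀ t : KK F, RE t ↔ t ≠ 1 ∧ ∃ x : KK F, x * t * x⁻¹ ∈ X φ th)
  (hcen : ∀ {t : KK F}, t ∈ X φ th → t ≠ 1 → centralizer ({t} : Set (KK F)) = P φ j1)

include hre hcen in
theorem cr_of_in (hF : Fintype.card F = 4) {g : KK F} (h : In φ j1 g) : CR g := by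
  obtain ⟨x, hx⟩ := h
  obtain ⟨t, ht⟩ := Cfsg.Agent.H258.QF.exists_re (F := F) hF
  obtain ⟨h1, y, hy⟩ := (hre t).1 ht
  refine cr_of_conj (x := x) ⟨y * t * y⁻¹, re_conj ht y, ?_⟩
  have h2 : y * t * y⁻¹ ≠ 1 := (re_conj ht y).1
  rw [← hcen hy h2, mem_centralizer_singleton_iff] at hx
  exact hx

/-- E7 : an element of `P₂` of order divisible by `7` commuting with a nontrivial element of `V₂` commutes with a root
element -/
def ESeven (φ : F →+* F) : Prop := ∀ g z : KK F, g ∈ P φ j2 → z ∈ V φ j2 → z ≠ 1 → g * z = z * g → 7 ∣ orderOf g → CR g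

include hre hcen in
/-- **C7** -/
theorem c_seven_of (hF : Fintype.card F = 4) (hφ : ∀ t, φ t = t ^ 2) (hE : ESeven φ) (g : KK F)
    (h7 : 7 ∣ orderOf g) : CR g ∨ H231.QF.Out φ j4 g ∨ Sm g := by
  have : Finite (KK F) := inferInstance
  rcases Nat.even_or_odd (Nat.card (centralizer ({g} : Set (KK F)))) with he | he
  swap
  · exact Or.inr (Or.inr (Cfsg.Agent.H258.QF.sm_of_odd_seven hF g h7 he))
  by_cases h5 : 5 ∣ orderOf g
  · rcases Cfsg.Agent.H590.F4.CFive.c_five hF hφ g h5 with h | h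
    · exact Or.inl h
    · exact Or.inr (Or.inr h)
  have : Fact (Nat.Prime 2) := ⟨Nat.prime_two⟩
  obtain ⟨⟨z, hz⟩, hz2⟩ := exists_prime_orderOf_dvd_card' (G := centralizer ({g} : Set (KK F))) 2 he.two_dvd
  rw [Subgroup.orderOf_mk] at hz2
  rw [mem_centralizer_singleton_iff] at hz
  have hz1 : z ≠ 1 := by
    rintro rfl
    rw [orderOf_one] at hz2
    norm_num at hz2
  have hzz : z * z = 1 := by
    have h1 := pow_orderOf_eq_one z
    rwa [hz2, pow_two] at h1
  rcases Cfsg.Agent.H287.F4.Par.par_split hF hφ g z hz1 hzz hz.symm with h | h | ⟨x, hg, hv, -⟩ | ⟨x, J, -, -, -, h⟩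
  · exact Or.inl (cr_of_in hre hcen hF h)
  · rcases Cfsg.Agent.H258.QF.in_or_out h with h | h
    · exact Or.inl (cr_of_in hre hcen hF h)
    · exact Or.inr (Or.inl h)
  · refine Or.inl (cr_of_conj (x := x) (hE _ _ hg hv ?_ ?_ ?_))
    · intro h1
      apply hz1
      calc z = x⁻¹ * (x * z * x⁻¹) * x := by group
        _ = 1 := by rw [h1]; group
    · calc x * g * x⁻¹ * (x * z * x⁻¹) = x * (g * z) * x⁻¹ := by group
        _ = x * z * x⁻¹ * (x * g * x⁻¹) := by rw [← hz]; group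
    · rwa [show x * g * x⁻¹ = MulAut.conj x g from rfl, MulEquiv.orderOf_eq]
  · exfalso
    apply h5
    rwa [show x * g * x⁻¹ = MulAut.conj x g from rfl, MulEquiv.orderOf_eq] at h

end

end Cfsg.Agent.H235.F4
end

-- part: H461/QF/P1Main_mg
section
prune_inst 0x101020020010082000000020001c168a000430002884000400020006808f020080802034200102020282010035000010000010000000000000000000010120800042041200a008260001000104400000000000000000000000000000000000000000000
set_option linter.all false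
open scoped Cfsg.Agent.FastGrp

-- part: H326/QF/GenV
section
/-!
# S2491, row F4: generation of `V_1` of `²E₆` (piece TSTAR)

`R` root group datum of type `F₄` in characteristic 2 with the facts `Dat`; `V_1 = Sup {x 0 ≥ 1}`.

* `le_of_low` : `V_1 ≤ M` if `M` contains `X α₀`, `X θ` and the commutators of `X c` (`c ≥ 0`, `c 0 = 0`) with the root groups
  of `V_1`;
* `le_of_high` : `V_1 ≤ M` if `M` contains `X (θ - α₀)`, `X θ` and is closed under commutators with `X c`, `c 0 = 0`;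
* `comm_mem_rho` : `[V_1, V_1] ≤ X θ`.
-/

set_option autoImplicit false
set_option linter.unusedSectionVars false

namespace Cfsg.Agent.H326.QF.GenV

open CoxeterSystem Cfsg.Agent.ChevalleyStructure.CoxeterGeom Cfsg.Agent.Tits.Roots Cfsg.Agent.Tits.Core
  Cfsg.Agent.Tits.RootComb Cfsg.Agent.Nodes.Reps Cfsg.Agent.Nodes.BNOf Cfsg.Agent.Nodes.Coroot
  Cfsg.Agent.Nodes.StabComb Cfsg.Agent.Nodes.Bruhat Cfsg.Agent.Nodes.OppDec Cfsg.Agent.Nodes.LeviDec
  Cfsg.Agent.KFacts.RgdSL Cfsg.Agent.KFacts.RgdTI Cfsg.Agent.Nodes.RGDTwE6 Cfsg.Agent.KFacts.TwESix.Comb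
  Cfsg.Agent.KFacts.TwESix.Btw Cfsg.Agent.KFacts.TwESix.Facts Cfsg.Agent.H326.QS.VP
open scoped commutatorElement

variable {W Y : Type*} [Group W] [Group Y] {cs : CoxeterSystem CoxeterMatrix.F₄ W} {T : Subgroup Y}
  {n : Fin 4 → Y} {X : (Fin 4 → ℤ) → Subgroup Y} {R : RGD cs isCartan 2 T n X} (D : Dat R)

include D

theorem le_of_a2 {x y : Fin 4 → ℤ} (hx : x ∈ rts) (hy : y ∈ rts) (hl : bf x x = bf y y)
    (hxy : 2 * bf x y = - bf x x) {u : Y} (hu : u ∈ X x) (hu1 : u ≠ 1) {M : Subgroup Y}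
    (h : ∀ v ∈ X y, ⁅u, v⁆ ∈ M) : X (x + y) ≤ M := by
  have : Finite W := finiteW cs
  intro w hw
  obtain ⟨v, hv, e⟩ := (a2 cs ((mem_rts cs).2 hx) ((mem_rts cs).2 hy) hl hxy).comm_surj R hu hu1 hw
  rw [← e]
  exact h v hv

theorem le_of_135 {x y : Fin 4 → ℤ} (hx : x ∈ rts) (hy : y ∈ rts) (hxx : bf x x = 4) (hyy : bf y y = 2)
    (hxy : bf x y = -2) (hs : x + y ∈ rts) (hl : x + (2 : ℤ) • y ∈ rts) {u : Y} (hu : u ∈ X x) (hu1 : u ≠ 1)
    {M : Subgroup Y} (hM : X (x + (2 : ℤ) • y) ≤ M) (h : ∀ v ∈ X y, ⁅u, v⁆ ∈ M) : X (x + y) ≤ M := by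
  intro w hw
  obtain ⟨v, hv, z, hz, e⟩ := surj_135 D ((mem_rts cs).2 hx) ((mem_rts cs).2 hy) hxx hyy hxy ((mem_rts cs).2 hs)
    ((mem_rts cs).2 hl) hu hu1 hw
  have h1 : w = ⁅u, v⁆ * z⁻¹ := by rw [e]; group
  rw [h1]
  exact mul_mem (h v hv) (inv_mem (hM hz))

theorem low_roots : ∀ b ∈ rts, 1 ≤ b 0 → b = rho ∨ b = sr 0 ∨ b = ![1, 1, 1, 0] ∨
    ∃ c ∈ rts, c 0 = 0 ∧ (∀ k, 0 ≤ c k) ∧ (b - c) ∈ rts ∧ 1 ≤ (b - c) 0 ∧ bf c c = bf (b - c) (b - c) ∧
      2 * bf c (b - c) = - bf c c := by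
  clear D
  decide +kernel

/-- **Generation from below.** -/
theorem le_of_low {M : Subgroup Y} (h0 : X (sr 0) ≤ M) (hr : X rho ≤ M)
    (h : ∀ c ∈ rts, c 0 = 0 → (∀ k, 0 ≤ c k) → ∀ d ∈ rts, 1 ≤ d 0 → ∀ u ∈ X c, ∀ v ∈ X d, ⁅u, v⁆ ∈ M) :
    RGD.Sup X (Q (fun x => 1 ≤ x 0)) ≤ M := by
  have hA : ∀ b c : Fin 4 → ℤ, b ∈ rts → c ∈ rts → c 0 = 0 → (∀ k, 0 ≤ c k) → (b - c) ∈ rts → 1 ≤ (b - c) 0 →
      bf c c = bf (b - c) (b - c) → 2 * bf c (b - c) = - bf c c → X b ≤ M := by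
    intro b c hb hc hc0 hcp hbc hbc0 h1 h2
    obtain ⟨u, hu, hu1⟩ := _root_.Cfsg.Agent.KFacts.TwESix.Facts.exists_ne_one R ((mem_rts cs).2 hc)
    have := le_of_a2 D hc hbc h1 h2 hu hu1 (M := M) (fun v hv => h c hc hc0 hcp _ hbc hbc0 u hu v hv)
    rwa [add_sub_cancel] at this
  refine RGD.Sup_le fun b hb => ?_
  rcases low_roots D b hb.1 hb.2 with rfl | rfl | rfl | ⟨c, hc, hc0, hcp, hbc, hbc0, h1, h2⟩
  · exact hr
  · exact h0
  · obtain ⟨u, hu, hu1⟩ := _root_.Cfsg.Agent.KFacts.TwESix.Facts.exists_ne_one R ((mem_rts cs).2 (show (![1, 1, 0, 0] : Fin 4 → ℤ) ∈ rts by decide +kernel))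
    have h1 : X (![1, 1, 0, 0] + (2 : ℤ) • ![0, 0, 1, 0]) ≤ M := by
      rw [show (![1, 1, 0, 0] + (2 : ℤ) • ![0, 0, 1, 0] : Fin 4 → ℤ) = ![1, 1, 2, 0] by decide +kernel]
      exact hA ![1, 1, 2, 0] ![0, 1, 2, 0] (by decide +kernel) (by decide +kernel) (by decide +kernel)
        (by decide +kernel) (by decide +kernel) (by decide +kernel) (by decide +kernel) (by decide +kernel)
    have h2 := le_of_135 D (x := ![1, 1, 0, 0]) (y := ![0, 0, 1, 0]) (by decide +kernel) (by decide +kernel)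
      (by decide +kernel) (by decide +kernel) (by decide +kernel) (by decide +kernel) (by decide +kernel) hu hu1 h1
      (fun v hv => by
        have h3 := h ![0, 0, 1, 0] (by decide +kernel) (by decide +kernel) (by decide +kernel) ![1, 1, 0, 0]
          (by decide +kernel) (by decide +kernel) v hv u hu
        rw [← commutatorElement_inv]
        exact inv_mem h3)
    rwa [show (![1, 1, 0, 0] + ![0, 0, 1, 0] : Fin 4 → ℤ) = ![1, 1, 1, 0] by decide +kernel] at h2
  · exact hA b c hb.1 hc hc0 hcp hbc hbc0 h1 h2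

theorem high_roots : ∀ b ∈ rts, 1 ≤ b 0 → b = rho ∨ b = ![1, 3, 4, 2] ∨ b = ![1, 2, 4, 2] ∨ b = ![1, 2, 2, 2] ∨
    b = ![1, 2, 2, 0] ∨ b = ![1, 1, 2, 2] ∨ b = ![1, 1, 2, 0] ∨ b = ![1, 1, 0, 0] ∨ b = ![1, 0, 0, 0] ∨
    b = ![1, 1, 1, 0] ∨ b = ![1, 1, 1, 1] ∨ b = ![1, 1, 2, 1] ∨ b = ![1, 2, 2, 1] ∨ b = ![1, 2, 3, 1] ∨
    b = ![1, 2, 3, 2] := by
  clear D
  decide +kernel

/-- **Generation from above.** -/
theorem le_of_high {M : Subgroup Y} (h1 : X ![1, 3, 4, 2] ≤ M) (hr : X rho ≤ M)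
    (h : ∀ c ∈ rts, c 0 = 0 → ∀ d ∈ rts, 1 ≤ d 0 → X d ≤ M → ∀ u ∈ X d, ∀ v ∈ X c, ⁅u, v⁆ ∈ M) :
    RGD.Sup X (Q (fun x => 1 ≤ x 0)) ≤ M := by
  have st : ∀ d c b : Fin 4 → ℤ, X d ≤ M → d ∈ rts → c ∈ rts → d + c = b → c 0 = 0 → 1 ≤ d 0 → bf d d = bf c c →
      2 * bf d c = - bf d d → X b ≤ M := by
    intro d c b hM hd hc hb hc0 hd0 e1 e2
    obtain ⟨u, hu, hu1⟩ := _root_.Cfsg.Agent.KFacts.TwESix.Facts.exists_ne_one R ((mem_rts cs).2 hd)
    rw [← hb]
    exact le_of_a2 D hd hc e1 e2 hu hu1 (fun v hv => h c hc hc0 d hd hd0 hM u hu v hv)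
  have a1 : X ![1, 2, 4, 2] ≤ M := st ![1, 3, 4, 2] ![0, -1, 0, 0] _ h1 (by decide +kernel) (by decide +kernel)
    (by decide +kernel) (by decide +kernel) (by decide +kernel) (by decide +kernel) (by decide +kernel)
  have a2 : X ![1, 2, 2, 2] ≤ M := st ![1, 3, 4, 2] ![0, -1, -2, 0] _ h1 (by decide +kernel) (by decide +kernel)
    (by decide +kernel) (by decide +kernel) (by decide +kernel) (by decide +kernel) (by decide +kernel)
  have a3 : X ![1, 2, 2, 0] ≤ M := st ![1, 3, 4, 2] ![0, -1, -2, -2] _ h1 (by decide +kernel) (by decide +kernel)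
    (by decide +kernel) (by decide +kernel) (by decide +kernel) (by decide +kernel) (by decide +kernel)
  have a4 : X ![1, 1, 2, 2] ≤ M := st ![1, 2, 4, 2] ![0, -1, -2, 0] _ a1 (by decide +kernel) (by decide +kernel)
    (by decide +kernel) (by decide +kernel) (by decide +kernel) (by decide +kernel) (by decide +kernel)
  have a5 : X ![1, 1, 2, 0] ≤ M := st ![1, 2, 4, 2] ![0, -1, -2, -2] _ a1 (by decide +kernel) (by decide +kernel)
    (by decide +kernel) (by decide +kernel) (by decide +kernel) (by decide +kernel) (by decide +kernel)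
  have a6 : X ![1, 1, 0, 0] ≤ M := st ![1, 2, 2, 2] ![0, -1, -2, -2] _ a2 (by decide +kernel) (by decide +kernel)
    (by decide +kernel) (by decide +kernel) (by decide +kernel) (by decide +kernel) (by decide +kernel)
  have a7 : X ![1, 0, 0, 0] ≤ M := st ![1, 1, 0, 0] ![0, -1, 0, 0] _ a6 (by decide +kernel) (by decide +kernel)
    (by decide +kernel) (by decide +kernel) (by decide +kernel) (by decide +kernel) (by decide +kernel)
  have b1 : X ![1, 1, 1, 0] ≤ M := by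
    obtain ⟨u, hu, hu1⟩ := _root_.Cfsg.Agent.KFacts.TwESix.Facts.exists_ne_one R ((mem_rts cs).2 (show (![1, 1, 0, 0] : Fin 4 → ℤ) ∈ rts by decide +kernel))
    have h2 := le_of_135 D (x := ![1, 1, 0, 0]) (y := ![0, 0, 1, 0]) (by decide +kernel) (by decide +kernel)
      (by decide +kernel) (by decide +kernel) (by decide +kernel) (by decide +kernel) (by decide +kernel) hu hu1
      (M := M)
      (by rwa [show (![1, 1, 0, 0] + (2 : ℤ) • ![0, 0, 1, 0] : Fin 4 → ℤ) = ![1, 1, 2, 0] by decide +kernel])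
      (fun v hv => h ![0, 0, 1, 0] (by decide +kernel) (by decide +kernel) ![1, 1, 0, 0]
          (by decide +kernel) (by decide +kernel) a6 u hu v hv)
    rwa [show (![1, 1, 0, 0] + ![0, 0, 1, 0] : Fin 4 → ℤ) = ![1, 1, 1, 0] by decide +kernel] at h2
  have b2 : X ![1, 1, 1, 1] ≤ M := st ![1, 1, 1, 0] ![0, 0, 0, 1] _ b1 (by decide +kernel) (by decide +kernel)
    (by decide +kernel) (by decide +kernel) (by decide +kernel) (by decide +kernel) (by decide +kernel)
  have b3 : X ![1, 1, 2, 1] ≤ M := st ![1, 1, 1, 1] ![0, 0, 1, 0] _ b2 (by decide +kernel) (by decide +kernel)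
    (by decide +kernel) (by decide +kernel) (by decide +kernel) (by decide +kernel) (by decide +kernel)
  have b4 : X ![1, 2, 2, 1] ≤ M := st ![1, 1, 1, 0] ![0, 1, 1, 1] _ b1 (by decide +kernel) (by decide +kernel)
    (by decide +kernel) (by decide +kernel) (by decide +kernel) (by decide +kernel) (by decide +kernel)
  have b5 : X ![1, 2, 3, 1] ≤ M := st ![1, 1, 1, 0] ![0, 1, 2, 1] _ b1 (by decide +kernel) (by decide +kernel)
    (by decide +kernel) (by decide +kernel) (by decide +kernel) (by decide +kernel) (by decide +kernel)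
  have b6 : X ![1, 2, 3, 2] ≤ M := st ![1, 1, 1, 1] ![0, 1, 2, 1] _ b2 (by decide +kernel) (by decide +kernel)
    (by decide +kernel) (by decide +kernel) (by decide +kernel) (by decide +kernel) (by decide +kernel)
  refine RGD.Sup_le fun b hb => ?_
  rcases high_roots D b hb.1 hb.2 with rfl | rfl | rfl | rfl | rfl | rfl | rfl | rfl | rfl | rfl | rfl | rfl | rfl |
    rfl | rfl <;> assumption

/-! ### `[V_1, V_1] ≤ X θ` -/

theorem ge_two : ∀ x ∈ rts, 1 ≤ x 0 → ∀ y ∈ rts, 1 ≤ y 0 → ∀ z ∈ rts, bt x y z → z = rho ∨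
    (bf x x = 4 ∧ bf y y = 4 ∧ 0 ≤ bf x y) := by
  clear D
  decide +kernel

theorem comm_roots {x y : Fin 4 → ℤ} (hx : x ∈ rts) (hx0 : 1 ≤ x 0) (hy : y ∈ rts) (hy0 : 1 ≤ y 0) {u v : Y}
    (hu : u ∈ X x) (hv : v ∈ X y) : ⁅u, v⁆ ∈ X rho := by
  have : Finite W := finiteW cs
  by_cases hxy : x = y
  · subst hxy
    rw [commutatorElement_eq_one_iff_mul_comm.2 (abel R ((mem_rts cs).2 hx) hu hv)]
    exact one_mem _
  by_cases hl : bf x x = 4 ∧ bf y y = 4 ∧ 0 ≤ bf x y
  · rw [commutatorElement_eq_one_iff_mul_comm.2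
      (comm_long D ((mem_rts cs).2 hx) ((mem_rts cs).2 hy) hl.2.1 hl.2.2 hu hv)]
    exact one_mem _
  have hne : x ≠ -y := by
    intro h
    have := congrFun h 0
    rw [Pi.neg_apply] at this
    omega
  refine btw_le_of (fun z hz => ?_) (R.comm x y ((mem_rts cs).2 hx) ((mem_rts cs).2 hy) hxy hne u hu v hv)
  obtain ⟨h1, h2⟩ := btwn_spec cs ((mem_rts cs).2 hx) ((mem_rts cs).2 hy) hxy hne hz
  exact (ge_two D x hx hx0 y hy hy0 z h1 h2).resolve_right hl

/-- `X θ` is central in the group generated by the `X x`, `x 0 ≥ 0` -/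
theorem rho_comm {x : Fin 4 → ℤ} (hx : x ∈ rts) (hx0 : 0 ≤ x 0) {u v : Y} (hu : u ∈ X x) (hv : v ∈ X rho) :
    u * v = v * u :=
  comm_long D ((mem_rts cs).2 hx) (rho_root cs) rho_long (by rw [bf_rho]; omega) hu hv

theorem V_comm_rho {u v : Y} (hu : u ∈ RGD.Sup X (Q (fun x => 1 ≤ x 0))) (hv : v ∈ X rho) : u * v = v * u := by
  have h1 : RGD.Sup X (Q (fun x => 1 ≤ x 0)) ≤ Subgroup.centralizer ({v} : Set Y) := by
    refine RGD.Sup_le fun x hx c hc => ?_
    rw [Subgroup.mem_centralizer_singleton_iff]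
    exact rho_comm D hx.1 (by have := hx.2; omega) hc hv
  exact Subgroup.mem_centralizer_singleton_iff.1 (h1 hu)

/-- **`[V_1, V_1] ≤ X θ`.** -/
theorem comm_mem_rho {u v : Y} (hu : u ∈ RGD.Sup X (Q (fun x => 1 ≤ x 0)))
    (hv : v ∈ RGD.Sup X (Q (fun x => 1 ≤ x 0))) : ⁅u, v⁆ ∈ X rho := by
  set V := RGD.Sup X (Q (fun x => 1 ≤ x 0)) with hV
  -- the second variable
  have key : ∀ u : Y, u ∈ V → (∀ y ∈ rts, 1 ≤ y 0 → ∀ w ∈ X y, ⁅u, w⁆ ∈ X rho) → ∀ v ∈ V, ⁅u, v⁆ ∈ X rho := by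
    intro u hu h
    let S : Subgroup Y :=
      { carrier := {w | w ∈ V ∧ ⁅u, w⁆ ∈ X rho}
        one_mem' := ⟨one_mem _, by rw [commutatorElement_one_right]; exact one_mem _⟩
        mul_mem' := by
          rintro a b ⟨ha, ha'⟩ ⟨hb, hb'⟩
          refine ⟨mul_mem ha hb, ?_⟩
          have e : ⁅u, a * b⁆ = ⁅u, a⁆ * (a * ⁅u, b⁆ * a⁻¹) := by
            simp only [commutatorElement_def]; group
          rw [e, V_comm_rho D ha hb', mul_inv_cancel_right]
          exact mul_mem ha' hb'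
        inv_mem' := by
          rintro a ⟨ha, ha'⟩
          refine ⟨inv_mem ha, ?_⟩
          have e : ⁅u, a⁻¹⁆ = a⁻¹ * ⁅u, a⁆⁻¹ * a := by
            simp only [commutatorElement_def]; group
          have h1 := V_comm_rho D (inv_mem ha) (inv_mem ha')
          rw [e, h1, mul_assoc, inv_mul_cancel, mul_one]
          exact inv_mem ha' }
    have h1 : V ≤ S := RGD.Sup_le fun y hy w hw => ⟨RGD.le_Sup hy hw, h y hy.1 hy.2 w hw⟩
    exact fun v hv => (h1 hv).2
  refine key u hu (fun y hy hy0 w hw => ?_) v hv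
  have hwV : w ∈ V := RGD.le_Sup (S := Q (fun x => 1 ≤ x 0)) ⟨hy, hy0⟩ hw
  rw [← commutatorElement_inv]
  refine inv_mem (key w hwV (fun x hx hx0 a ha => ?_) u hu)
  exact comm_roots D hy hy0 hx hx0 hw ha

end Cfsg.Agent.H326.QF.GenV
end

-- part: H326/QF/TStar
section
/-!
# S2491, row F4: TSTAR

In every perfect central extension `π : L → ²E₆(2)` there is `t` over the root group `X θ` with `t² = 1`, centralised by the
preimage of `P_1`, such that the commutators of the preimage of `V_1` are `1` or `t`. Input: `P_1` is perfect.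
-/

set_option autoImplicit false

namespace Cfsg.Agent.H326.QF

open CoxeterSystem Cfsg.Agent.ChevalleyStructure.CoxeterGeom Cfsg.Agent.Tits.Roots Cfsg.Agent.Tits.Core
  Cfsg.Agent.Nodes Cfsg.Agent.Nodes.Reps Cfsg.Agent.Nodes.BNOf Cfsg.Agent.Nodes.RGDLib Cfsg.Agent.Nodes.Bruhat
  Cfsg.Agent.Nodes.OppDec Cfsg.Agent.Nodes.LeviDec Cfsg.Agent.Nodes.StabComb
open Cfsg.Lie Subgroup
open Cfsg.Agent.H51.Mult (PCE)
open Cfsg.Agent.H231.QF
open Cfsg.Agent.KFacts.TwESix.Comb Cfsg.Agent.KFacts.TwESix.Facts Cfsg.Agent.H326.QS.VP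
open scoped commutatorElement

universe u v

/-! ### Centralizers in the preimage of a perfect subgroup -/

section cent

variable {K : Type u} [Group K] {L : Type v} [Group L] {π : L →* K}

/-- elements over the centralizer of a perfect subgroup are centralised by its preimage -/
theorem cent_of_perf (hπ : PCE π) {H : Subgroup K} (hH : ⁅H, H⁆ = H) {x : L} (hx : ∀ h ∈ H, h * π x = π x * h) {g : L}
    (hg : π g ∈ H) : g * x = x * g := by
  have hz : ∀ a : L, π a ∈ H → ∃ z, π z = 1 ∧ a * x = z * (x * a) := by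
    intro a ha
    refine ⟨a * x * (x * a)⁻¹, ?_, by group⟩
    rw [map_mul, map_inv, map_mul, map_mul, hx _ ha, mul_inv_cancel]
  have h1 : ⁅H.comap π, H.comap π⁆ ≤ centralizer ({x} : Set L) := by
    rw [commutator_le]
    intro a ha b hb
    obtain ⟨z, hz1, ea⟩ := hz a ha
    obtain ⟨w, hw1, eb⟩ := hz b hb
    have cz : ∀ g, z * g = g * z := hπ.comm hz1
    have cw : ∀ g, w * g = g * w := hπ.comm hw1
    rw [mem_centralizer_singleton_iff, commutatorElement_def]
    have ea' : a * x * a⁻¹ = z * x := by rw [ea]; group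
    have eb' : b * x * b⁻¹ = w * x := by rw [eb]; group
    have ea2 : a⁻¹ * x * a = z⁻¹ * x := by
      have h1 : x = z * (a⁻¹ * x * a) := by
        calc x = a⁻¹ * (a * x * a⁻¹) * a := by group
          _ = a⁻¹ * (z * x) * a := by rw [ea']
          _ = (a⁻¹ * z) * x * a := by group
          _ = (z * a⁻¹) * x * a := by rw [cz]
          _ = _ := by group
      rw [eq_inv_mul_iff_mul_eq]; exact h1.symm
    have eb2 : b⁻¹ * x * b = w⁻¹ * x := by
      have h1 : x = w * (b⁻¹ * x * b) := by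
        calc x = b⁻¹ * (b * x * b⁻¹) * b := by group
          _ = b⁻¹ * (w * x) * b := by rw [eb']
          _ = (b⁻¹ * w) * x * b := by group
          _ = (w * b⁻¹) * x * b := by rw [cw]
          _ = _ := by group
      rw [eq_inv_mul_iff_mul_eq]; exact h1.symm
    have czi : ∀ g, z⁻¹ * g = g * z⁻¹ := fun g => by
      rw [inv_mul_eq_iff_eq_mul, ← mul_assoc, cz, mul_assoc, mul_inv_cancel, mul_one]
    have cwi : ∀ g, w⁻¹ * g = g * w⁻¹ := fun g => by
      rw [inv_mul_eq_iff_eq_mul, ← mul_assoc, cw, mul_assoc, mul_inv_cancel, mul_one]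
    have h2 : (a * b * a⁻¹ * b⁻¹) * x * (a * b * a⁻¹ * b⁻¹)⁻¹ = x := by
      calc (a * b * a⁻¹ * b⁻¹) * x * (a * b * a⁻¹ * b⁻¹)⁻¹
          = a * (b * (a⁻¹ * (b⁻¹ * x * b) * a) * b⁻¹) * a⁻¹ := by group
        _ = a * (b * (a⁻¹ * (w⁻¹ * x) * a) * b⁻¹) * a⁻¹ := by rw [eb2]
        _ = a * (b * ((a⁻¹ * w⁻¹) * x * a) * b⁻¹) * a⁻¹ := by group
        _ = a * (b * ((w⁻¹ * a⁻¹) * x * a) * b⁻¹) * a⁻¹ := by rw [cwi]
        _ = a * (b * (w⁻¹ * (a⁻¹ * x * a)) * b⁻¹) * a⁻¹ := by group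
        _ = a * (b * (w⁻¹ * (z⁻¹ * x)) * b⁻¹) * a⁻¹ := by rw [ea2]
        _ = a * ((b * w⁻¹) * (z⁻¹ * x) * b⁻¹) * a⁻¹ := by group
        _ = a * ((w⁻¹ * b) * (z⁻¹ * x) * b⁻¹) * a⁻¹ := by rw [cwi]
        _ = a * (w⁻¹ * (b * z⁻¹) * x * b⁻¹) * a⁻¹ := by group
        _ = a * (w⁻¹ * (z⁻¹ * b) * x * b⁻¹) * a⁻¹ := by rw [czi b]
        _ = a * (w⁻¹ * z⁻¹ * (b * x * b⁻¹)) * a⁻¹ := by group
        _ = a * (w⁻¹ * z⁻¹ * (w * x)) * a⁻¹ := by rw [eb']
        _ = a * (w⁻¹ * (z⁻¹ * w) * x) * a⁻¹ := by group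
        _ = a * (w⁻¹ * (w * z⁻¹) * x) * a⁻¹ := by rw [czi w]
        _ = (a * z⁻¹) * x * a⁻¹ := by group
        _ = (z⁻¹ * a) * x * a⁻¹ := by rw [czi a]
        _ = z⁻¹ * (a * x * a⁻¹) := by group
        _ = z⁻¹ * (z * x) := by rw [ea']
        _ = x := by group
    calc a * b * a⁻¹ * b⁻¹ * x = ((a * b * a⁻¹ * b⁻¹) * x * (a * b * a⁻¹ * b⁻¹)⁻¹) * (a * b * a⁻¹ * b⁻¹) := by group
      _ = x * (a * b * a⁻¹ * b⁻¹) := by rw [h2]
  have hmap : (⁅H.comap π, H.comap π⁆).map π = H := by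
    rw [map_commutator, map_comap_eq_self_of_surjective hπ.surj, hH]
  have h2 : π g ∈ (⁅H.comap π, H.comap π⁆).map π := by rw [hmap]; exact hg
  obtain ⟨c, hc, hcg⟩ := h2
  have h3 : c * x = x * c := mem_centralizer_singleton_iff.1 (h1 hc)
  have h4 : ∀ y, (c⁻¹ * g) * y = y * (c⁻¹ * g) := hπ.comm (by rw [map_mul, map_inv, hcg, inv_mul_cancel])
  have e : g = c * (c⁻¹ * g) := by group
  rw [e, mul_assoc, h4, ← mul_assoc, h3, mul_assoc]

end cent

section

variable {F : Type u} [Field F] [Fintype F] (hF : Fintype.card F = 4) {φ : F →+* F} (hφ : ∀ t, φ t = t ^ 2)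
variable {L : Type v} [Group L] {π : L →* KK F}

omit [Fintype F] in
theorem V_eq : V φ j1 = RGD.Sup (X φ) (Q (fun x => 1 ≤ x 0)) := by
  show VJ cs RGDTwE6.isCartan (X φ) j1 = _
  unfold VJ
  rw [← j1_eq, NotJ_eq]

theorem mem_P1 {x : Fin 4 → ℤ} (hx : x ∈ rts) (h0 : 0 ≤ x 0) : X φ x ≤ P φ j1 := by
  rcases h0.lt_or_eq with h | h
  · refine le_trans ?_ VJ_le_PJ
    have h1 := V_eq (φ := φ)
    rw [show VJ cs RGDTwE6.isCartan (X φ) j1 = RGD.Sup (X φ) (Q (fun x => 1 ≤ x 0)) from h1]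
    exact RGD.le_Sup (S := Q (fun x => 1 ≤ x 0)) ⟨hx, h⟩
  · refine le_trans (X_le_LJ ?_) LJ_le_PJ
    rw [← j1_eq, RootsJ_eq]
    exact ⟨hx, h.symm⟩

include hF hφ in
/-- the root group datum and its facts -/
theorem dat' : ∃ R : RGD cs RGDTwE6.isCartan 2 (RGDTwE6.T F 2) (RGDTwE6.nn hφ) (X φ), Dat R := by
  have := charP_two hF
  have : Fact (Nat.Prime 2) := ⟨Nat.prime_two⟩
  exact ⟨RGDTwE6.rgd cs hφ (frob_frob hF) 2,
    Cfsg.Agent.KFacts.TwESix.Dat.dat cs hφ (frob_frob hF) (by rw [hF]; norm_num) (by norm_num)⟩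

include hF hφ in
theorem card_X0' : Nat.card ↥(X φ (sr 0)) = 2 :=
  Cfsg.Agent.H326.QS.VPE.card_X0 hφ (frob_frob hF)

include hF hφ in
/-- `P_1` centralises `X θ` -/
theorem P1_comm {g x : KK F} (hg : g ∈ P φ j1) (hx : x ∈ X φ th) : g * x = x * g := by
  obtain ⟨R, D⟩ := dat' hF hφ
  have h1 : P φ j1 ≤ centralizer ({x} : Set (KK F)) := by
    refine sup_le (sup_le ?_ ?_) ?_
    · intro t ht
      rw [mem_centralizer_singleton_iff]
      by_cases hx1 : x = 1
      · rw [hx1, mul_one, one_mul]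
      have h2 : t * x * t⁻¹ ∈ X φ th := tor_mem R ((mem_rts cs).2 (by decide +kernel)) ht hx
      have h3 : t * x * t⁻¹ = x := by
        refine eq_of_long R (eq_of_card (card_X0' hF hφ)) (x := th) (by decide +kernel) (by decide +kernel) h2 hx ?_ hx1
        intro h
        exact hx1 (by simpa only [mul_assoc, mul_eq_one_iff_eq_inv, _root_.mul_inv_rev, _root_.inv_inv, _root_.left_eq_mul, _root_.inv_eq_one] using h)
      calc t * x = (t * x * t⁻¹) * t := by group
        _ = x * t := by rw [h3]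
    · rw [← j1_eq]
      refine RGD.Sup_le fun y hy c hc => ?_
      rw [RootsJ_eq] at hy
      rw [mem_centralizer_singleton_iff]
      exact GenV.rho_comm D hy.1 (by rw [hy.2]) hc hx
    · have h1 := V_eq (φ := φ)
      rw [show VJ cs RGDTwE6.isCartan (X φ) j1 = RGD.Sup (X φ) (Q (fun x => 1 ≤ x 0)) from h1]
      refine RGD.Sup_le fun y hy c hc => ?_
      rw [mem_centralizer_singleton_iff]
      exact GenV.rho_comm D hy.1 (by have := hy.2; omega) hc hx
  exact mem_centralizer_singleton_iff.1 (h1 hg)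

variable (hπ : PCE π)

include hF hφ hπ in
/-- **TSTAR.** -/
theorem tstar_of (perf : ⁅P φ j1, P φ j1⁆ = P φ j1) : ∃ t : L, π t ∈ X φ th ∧ π t ≠ 1 ∧ t * t = 1 ∧
    (∀ g, π g ∈ P φ j1 → g * t = t * g) ∧
    (∀ x y, π x ∈ V φ j1 → π y ∈ V φ j1 → x * y = y * x ∨ x * y = y * x * t) := by
  have : Finite CoxeterMatrix.F₄.Group := finiteW cs
  obtain ⟨R, D⟩ := dat' hF hφ
  have hV := V_eq (φ := φ)
  have hVP : V φ j1 ≤ P φ j1 := VJ_le_PJ
  have ct : ∀ {g x : L}, π g ∈ P φ j1 → π x ∈ X φ th → g * x = x * g := fun {g x} hg hx =>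
    cent_of_perf hπ perf (fun h hh => P1_comm hF hφ hh hx) hg
  have cV : ∀ {x y : L}, π x ∈ V φ j1 → π y ∈ V φ j1 → π ⁅x, y⁆ ∈ X φ th := fun {x y} hx hy => by
    rw [map_commutatorElement]
    rw [hV] at hx hy
    exact GenV.comm_mem_rho D hx hy
  -- bilinearity
  have bil : ∀ {x y y' : L}, π x ∈ V φ j1 → π y ∈ V φ j1 → π y' ∈ V φ j1 → ⁅x, y * y'⁆ = ⁅x, y⁆ * ⁅x, y'⁆ := by
    intro x y y' hx hy hy'
    have e : ⁅x, y * y'⁆ = ⁅x, y⁆ * (y * ⁅x, y'⁆ * y⁻¹) := by
      simp only [commutatorElement_def]; group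
    rw [e, ct (hVP hy) (cV hx hy'), mul_inv_cancel_right]
  have bilr : ∀ {x x' y : L}, π x ∈ V φ j1 → π x' ∈ V φ j1 → π y ∈ V φ j1 → ⁅x * x', y⁆ = ⁅x, y⁆ * ⁅x', y⁆ := by
    intro x x' y hx hx' hy
    have e : ⁅x * x', y⁆ = (x * ⁅x', y⁆ * x⁻¹) * ⁅x, y⁆ := by
      simp only [commutatorElement_def]; group
    rw [e, ct (hVP hx) (cV hx' hy), mul_inv_cancel_right, ct (hVP ?_) (cV hx hy)]
    rw [map_commutatorElement, commutatorElement_def]
    exact mul_mem (mul_mem (mul_mem hx' hy) (inv_mem hx')) (inv_mem hy)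
  -- the two elements
  obtain ⟨vK, hvK, hvK1⟩ := _root_.Cfsg.Agent.KFacts.TwESix.Facts.exists_ne_one R ((mem_rts cs).2 (show (![1, 3, 4, 2] : Fin 4 → ℤ) ∈ rts by decide +kernel))
  obtain ⟨aK, haK, haK1⟩ := _root_.Cfsg.Agent.KFacts.TwESix.Facts.exists_ne_one R ((mem_rts cs).2 (show (sr 0 : Fin 4 → ℤ) ∈ rts by decide +kernel))
  obtain ⟨vh, rfl⟩ := hπ.surj vK
  obtain ⟨ah, rfl⟩ := hπ.surj aK
  have hvV : π vh ∈ V φ j1 := by
    rw [hV]; exact RGD.le_Sup (S := Q (fun x => 1 ≤ x 0)) ⟨by decide +kernel, by decide +kernel⟩ hvK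
  have haV : π ah ∈ V φ j1 := by
    rw [hV]; exact RGD.le_Sup (S := Q (fun x => 1 ≤ x 0)) ⟨by decide +kernel, by decide +kernel⟩ haK
  have hA : Cfsg.Agent.KFacts.RgdSL.A2 cs RGDTwE6.isCartan ![1, 3, 4, 2] (sr 0) :=
    a2 cs ((mem_rts cs).2 (by decide +kernel)) ((mem_rts cs).2 (by decide +kernel)) (by decide +kernel)
      (by decide +kernel)
  set t := ⁅vh, ah⁆ with ht
  have htX : π t ∈ X φ th := cV hvV haV
  have ht1 : π t ≠ 1 := by
    rw [ht, map_commutatorElement]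
    exact hA.comm_ne_one R hvK hvK1 haK haK1
  have hvv : ∀ g, (vh * vh) * g = g * (vh * vh) := hπ.comm (by
    rw [map_mul]; exact _root_.Cfsg.Agent.KFacts.TwESix.Facts.sq R ((mem_rts cs).2 (by decide +kernel)) hvK)
  have htt : t * t = 1 := by
    have h1 : ⁅vh * vh, ah⁆ = t * t := bilr hvV hvV haV
    rw [← h1]
    exact commutatorElement_eq_one_iff_mul_comm.2 (hvv ah)
  have htc : ∀ g, π g ∈ P φ j1 → g * t = t * g := fun g hg => ct hg htX
  have htinv : t⁻¹ = t := inv_eq_of_mul_eq_one_left htt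
  -- membership in `{1, t}`
  have cl_mul : ∀ {a b : L}, (a = 1 ∨ a = t) → (b = 1 ∨ b = t) → (a * b = 1 ∨ a * b = t) := by
    rintro a b (rfl | rfl) (rfl | rfl)
    · left; rw [mul_one]
    · right; rw [one_mul]
    · right; rw [mul_one]
    · left; exact htt
  have cl_inv : ∀ {a : L}, (a = 1 ∨ a = t) → (a⁻¹ = 1 ∨ a⁻¹ = t) := by
    rintro a (rfl | rfl)
    · left; exact inv_one
    · right; exact htinv
  -- `S`
  let S : Subgroup L :=
    { carrier := {w | π w ∈ V φ j1 ∧ (⁅vh, w⁆ = 1 ∨ ⁅vh, w⁆ = t)}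
      one_mem' := ⟨by rw [map_one]; exact one_mem _, Or.inl (commutatorElement_one_right _)⟩
      mul_mem' := by
        rintro a b ⟨ha, ha'⟩ ⟨hb, hb'⟩
        refine ⟨by rw [map_mul]; exact mul_mem ha hb, ?_⟩
        rw [bil hvV ha hb]
        exact cl_mul ha' hb'
      inv_mem' := by
        rintro a ⟨ha, ha'⟩
        have hai : π a⁻¹ ∈ V φ j1 := by rw [map_inv]; exact inv_mem ha
        refine ⟨hai, ?_⟩
        have h1 : ⁅vh, a⁻¹⁆ * ⁅vh, a⁆ = 1 := by
          rw [← bil hvV hai ha, inv_mul_cancel, commutatorElement_one_right]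
        rw [eq_inv_of_mul_eq_one_left h1]
        exact cl_inv ha' }
  have memS : ∀ {w : L}, w ∈ S ↔ π w ∈ V φ j1 ∧ (⁅vh, w⁆ = 1 ∨ ⁅vh, w⁆ = t) := Iff.rfl
  have hnorm : ∀ {g x : L}, π g ∈ P φ j1 → π x ∈ V φ j1 → π (g * x * g⁻¹) ∈ V φ j1 := by
    intro g x hg hx
    rw [map_mul, map_mul, map_inv]
    exact (mem_normalizer_iff.1 (PJ_le_normalizer_VJ R j1 hg) _).1 hx
  have hS : V φ j1 ≤ S.map π := by
    rw [hV]
    refine GenV.le_of_low D ?_ ?_ ?_
    · intro x hx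
      by_cases hx1 : x = 1
      · rw [hx1]; exact one_mem _
      · have e : x = π ah := eq_of_card (card_X0' hF hφ) x hx _ haK hx1 haK1
        rw [e]
        exact ⟨ah, memS.2 ⟨haV, Or.inr rfl⟩, rfl⟩
    · intro x hx
      obtain ⟨x, rfl⟩ := hπ.surj x
      refine ⟨x, memS.2 ⟨?_, Or.inl ?_⟩, rfl⟩
      · rw [hV]; exact RGD.le_Sup (S := Q (fun x => 1 ≤ x 0)) ⟨by decide +kernel, by decide +kernel⟩ hx
      · exact commutatorElement_eq_one_iff_mul_comm.2 (ct (hVP hvV) hx)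
    · intro c hc hc0 hcp d hd hd0 u hu w hw
      obtain ⟨u, rfl⟩ := hπ.surj u
      obtain ⟨w, rfl⟩ := hπ.surj w
      have huP : π u ∈ P φ j1 := mem_P1 hc (by rw [hc0]) hu
      have hwV : π w ∈ V φ j1 := by
        rw [hV]; exact RGD.le_Sup (S := Q (fun x => 1 ≤ x 0)) ⟨hd, hd0⟩ hw
      have huw : π (u * w * u⁻¹) ∈ V φ j1 := hnorm huP hwV
      have hwi : π w⁻¹ ∈ V φ j1 := by rw [map_inv]; exact inv_mem hwV
      have e0 : ⁅u, w⁆ = (u * w * u⁻¹) * w⁻¹ := commutatorElement_def _ _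
      refine ⟨⁅u, w⁆, memS.2 ⟨?_, Or.inl ?_⟩, map_commutatorElement _ _ _⟩
      · rw [e0, map_mul]; exact mul_mem huw hwi
      · rw [e0, bil hvV huw hwi]
        -- `u` centralises `v` modulo the kernel
        have hb : 0 ≤ bf c ![1, 3, 4, 2] := by
          have : ∀ c ∈ rts, c 0 = 0 → (∀ k, 0 ≤ c k) → 0 ≤ bf c ![1, 3, 4, 2] := by decide +kernel
          exact this c hc hc0 hcp
        have huv : π u * π vh = π vh * π u := comm_long D ((mem_rts cs).2 hc) ((mem_rts cs).2 (by decide +kernel))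
          (by decide +kernel) hb hu hvK
        have hz : ∀ g, (vh⁻¹ * (u⁻¹ * vh * u)) * g = g * (vh⁻¹ * (u⁻¹ * vh * u)) := hπ.comm (by
          rw [map_mul, map_mul, map_mul, map_inv, map_inv, mul_assoc (π u)⁻¹, ← huv]; group)
        set z := vh⁻¹ * (u⁻¹ * vh * u) with hzd
        have e1 : u⁻¹ * vh * u = vh * z := by rw [hzd]; group
        have e2 : ⁅vh, u * w * u⁻¹⁆ = u * ⁅u⁻¹ * vh * u, w⁆ * u⁻¹ := by
          simp only [commutatorElement_def]; group
        have e3 : ⁅vh * z, w⁆ = ⁅vh, w⁆ := by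
          simp only [commutatorElement_def, mul_inv_rev]
          calc vh * z * w * (z⁻¹ * vh⁻¹) * w⁻¹ = vh * (z * w) * z⁻¹ * vh⁻¹ * w⁻¹ := by group
            _ = vh * (w * z) * z⁻¹ * vh⁻¹ * w⁻¹ := by rw [hz]
            _ = _ := by group
        rw [e2, e1, e3, ct huP (cV hvV hwV), mul_inv_cancel_right, ← bil hvV hwV hwi, mul_inv_cancel,
          commutatorElement_one_right]
  have hS' : ∀ {w : L}, π w ∈ V φ j1 → ⁅vh, w⁆ = 1 ∨ ⁅vh, w⁆ = t := by
    intro w hw
    obtain ⟨s, hs, e⟩ := hS hw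
    have hz : ∀ g, (s⁻¹ * w) * g = g * (s⁻¹ * w) := hπ.comm (by rw [map_mul, map_inv, e, inv_mul_cancel])
    have e1 : w = s * (s⁻¹ * w) := by group
    have hz' : π (s⁻¹ * w) ∈ V φ j1 := by rw [map_mul, map_inv, e, inv_mul_cancel]; exact one_mem _
    rw [e1, bil hvV (memS.1 hs).1 hz', commutatorElement_eq_one_iff_mul_comm.2 (hz vh).symm, mul_one]
    exact (memS.1 hs).2
  -- `N`
  let N : Subgroup L :=
    { carrier := {x | π x ∈ V φ j1 ∧ ∀ w, π w ∈ V φ j1 → (⁅x, w⁆ = 1 ∨ ⁅x, w⁆ = t)}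
      one_mem' := ⟨by rw [map_one]; exact one_mem _, fun w _ => Or.inl (commutatorElement_one_left _)⟩
      mul_mem' := by
        rintro a b ⟨ha, ha'⟩ ⟨hb, hb'⟩
        refine ⟨by rw [map_mul]; exact mul_mem ha hb, fun w hw => ?_⟩
        rw [bilr ha hb hw]
        exact cl_mul (ha' w hw) (hb' w hw)
      inv_mem' := by
        rintro a ⟨ha, ha'⟩
        have hai : π a⁻¹ ∈ V φ j1 := by rw [map_inv]; exact inv_mem ha
        refine ⟨hai, fun w hw => ?_⟩
        have h1 : ⁅a⁻¹, w⁆ * ⁅a, w⁆ = 1 := by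
          rw [← bilr hai ha hw, inv_mul_cancel, commutatorElement_one_left]
        rw [eq_inv_of_mul_eq_one_left h1]
        exact cl_inv (ha' w hw) }
  have memN : ∀ {x : L}, x ∈ N ↔ π x ∈ V φ j1 ∧ ∀ w, π w ∈ V φ j1 → (⁅x, w⁆ = 1 ∨ ⁅x, w⁆ = t) := Iff.rfl
  have hNconj : ∀ {g x : L}, π g ∈ P φ j1 → x ∈ N → g * x * g⁻¹ ∈ N := by
    intro g x hg hx
    refine memN.2 ⟨hnorm hg (memN.1 hx).1, fun w hw => ?_⟩
    have hgi : π g⁻¹ ∈ P φ j1 := by rw [map_inv]; exact inv_mem hg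
    have h1 := (memN.1 hx).2 (g⁻¹ * w * g⁻¹⁻¹) (hnorm hgi hw)
    have e : ⁅g * x * g⁻¹, w⁆ = g * ⁅x, g⁻¹ * w * g⁻¹⁻¹⁆ * g⁻¹ := by
      simp only [commutatorElement_def]; group
    rw [e]
    rcases h1 with h1 | h1
    · left; rw [h1]; group
    · right; rw [h1, htc g hg]; group
  have hkerN : ∀ {z : L}, π z = 1 → z ∈ N := fun {z} hz =>
    memN.2 ⟨by rw [hz]; exact one_mem _, fun w _ => Or.inl (commutatorElement_eq_one_iff_mul_comm.2 (hπ.comm hz w))⟩
  have hN : V φ j1 ≤ N.map π := by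
    have hvN : vh ∈ N := memN.2 ⟨hvV, fun w hw => hS' hw⟩
    rw [hV]
    refine GenV.le_of_high D ?_ ?_ ?_
    · intro x hx
      by_cases hx1 : x = 1
      · rw [hx1]; exact one_mem _
      · have e : x = π vh := eq_of_long R (eq_of_card (card_X0' hF hφ)) (by decide +kernel) (by decide +kernel) hx hvK
          hx1 hvK1
        rw [e]
        exact ⟨vh, hvN, rfl⟩
    · intro x hx
      obtain ⟨x, rfl⟩ := hπ.surj x
      refine ⟨x, memN.2 ⟨?_, fun w hw => Or.inl ?_⟩, rfl⟩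
      · rw [hV]; exact RGD.le_Sup (S := Q (fun x => 1 ≤ x 0)) ⟨by decide +kernel, by decide +kernel⟩ hx
      · exact commutatorElement_eq_one_iff_mul_comm.2 (ct (hVP hw) hx).symm
    · intro c hc hc0 d hd hd0 hdN u hu w hw
      obtain ⟨u', hu', rfl⟩ := hdN hu
      obtain ⟨w, rfl⟩ := hπ.surj w
      have hwP : π w ∈ P φ j1 := mem_P1 hc (by rw [hc0]) hw
      refine ⟨⁅u', w⁆, ?_, map_commutatorElement _ _ _⟩
      have e : ⁅u', w⁆ = u' * (w * u'⁻¹ * w⁻¹) := by rw [commutatorElement_def]; group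
      rw [SetLike.mem_coe, e]
      exact mul_mem hu' (hNconj hwP (inv_mem hu'))
  refine ⟨t, htX, ht1, htt, htc, fun x y hx hy => ?_⟩
  obtain ⟨s, hs, e⟩ := hN hx
  have hxN : x ∈ N := by
    have e1 : x = s * (s⁻¹ * x) := by group
    rw [e1]
    exact mul_mem hs (hkerN (by rw [map_mul, map_inv, e, inv_mul_cancel]))
  have e2 : x * y = ⁅x, y⁆ * (y * x) := by rw [commutatorElement_def]; group
  rcases (memN.1 hxN).2 y hy with h1 | h1
  · left; rw [e2, h1, one_mul]
  · right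
    rw [e2, h1, ← htc (y * x) (by rw [map_mul]; exact mul_mem (hVP hy) (hVP hx))]

include hF hφ hπ in
/-- **TSTAR**, in the form of the `2`-part `lft 2 π V_1`. -/
theorem tstar_lft_of (perf : ⁅P φ j1, P φ j1⁆ = P φ j1) : ∃ t : L, π t ∈ X φ th ∧ π t ≠ 1 ∧ t * t = 1 ∧
    (∀ g, π g ∈ P φ j1 → g * t = t * g) ∧
    (∀ x ∈ RGDLift.lft 2 π (V φ j1), ∀ y ∈ RGDLift.lft 2 π (V φ j1), x * y = y * x ∨ x * y = y * x * t) := by
  obtain ⟨t, h1, h2, h3, h4, h5⟩ := tstar_of hF hφ hπ perf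
  exact ⟨t, h1, h2, h3, h4, fun x hx y hy => h5 x y (RGDLift.map_lft_le 2 π _ (mem_map_of_mem π hx))
    (RGDLift.map_lft_le 2 π _ (mem_map_of_mem π hy))⟩

end

end Cfsg.Agent.H326.QF
end

-- part: H434/QF/Match3
section
/-!
# S2491, row F4: matching of two perfect central extensions of `PSU₆(2)` (helper434)

* `exists_over` : two perfect central extensions of the same group, of coprime type: the first one maps onto the second one
* `match_abs`, `match3` : the commutators of `SU₆(2)` give the commutators of the preimage of the parabolic subgroup `P₁` of `²E₆(2)`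
  modulo the 2-part of the preimage of its unipotent radical
-/

set_option autoImplicit false

namespace Cfsg.Agent.H434.QF

open Subgroup Cfsg.Agent.H51.Mult Cfsg.Agent.H68.Bounds Cfsg.Agent.Nodes.RGDLift

universe u v w u'

section univ

variable {S : Type u} {E : Type w} {Y : Type v} [Group S] [Group E] [Group Y] [Finite S] [Finite E]

/-- a perfect central extension maps onto another one if the kernel of a cover is too small -/
theorem exists_over {σ : S →* Y} (hσ : PCE σ) {ρ : E →* Y} (hρ : PCE ρ) {A : Type u'} [CommGroup A]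
    (hA : Cfsg.HasSchurMultiplier Y A) {m k : ℕ} (hm : Nat.card A = Nat.card σ.ker * m) (hmk : Nat.Coprime m k)
    (hk : ∀ x : E, ρ x = 1 → x ^ k = 1) : ∃ θ : S →* E, Function.Surjective θ ∧ ∀ x, ρ (θ x) = σ x := by
  obtain ⟨D, _, f, g, hf, hg, hfg, hD, hDf⟩ := exists_common hσ hρ
  have hfin : Finite D := hDf inferInstance inferInstance
  have h1 := Cfsg.Agent.H990.TC.card_ker_dvd hA hD
  rw [card_ker_comp hf.surj, hm] at h1
  have h2 : Nat.card f.ker ∣ m := Nat.dvd_of_mul_dvd_mul_left Nat.card_pos h1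
  have h3 : f.ker ≤ g.ker := by
    intro x hx
    rw [MonoidHom.mem_ker]
    have h4 : ρ (g x) = 1 := by
      have h5 : ρ (g x) = σ (f x) := (DFunLike.congr_fun hfg x).symm
      rw [h5, MonoidHom.mem_ker.1 hx, map_one]
    have h5 : (g x) ^ k = 1 := hk _ h4
    have h6 : (g x) ^ m = 1 := by
      obtain ⟨c, hc⟩ := h2
      have h7 : (⟨x, hx⟩ : f.ker) ^ Nat.card f.ker = 1 := pow_card_eq_one'
      have h8 : x ^ Nat.card f.ker = 1 := congrArg Subtype.val h7
      rw [← map_pow, hc, pow_mul, h8, one_pow, map_one]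
    rw [← orderOf_eq_one_iff, ← Nat.dvd_one, ← hmk.gcd_eq_one]
    exact Nat.dvd_gcd (orderOf_dvd_of_pow_eq_one h6) (orderOf_dvd_of_pow_eq_one h5)
  let θ : S →* E := f.liftOfSurjective hf.surj ⟨g, h3⟩
  have hθ : ∀ x, θ (f x) = g x := fun x =>
    MonoidHom.liftOfRightInverse_comp_apply f _ (Function.rightInverse_surjInv hf.surj) ⟨g, h3⟩ x
  refine ⟨θ, ?_, ?_⟩
  · intro y
    obtain ⟨d, rfl⟩ := hg.surj y
    exact ⟨f d, hθ d⟩
  · intro x
    obtain ⟨d, rfl⟩ := hf.surj x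
    rw [hθ]
    exact (DFunLike.congr_fun hfg d).symm

end univ

theorem comm_mul {G : Type*} [Group G] {x y z w : G} (hz : ∀ g, z * g = g * z) (hw : ∀ g, w * g = g * w) :
    (x * z) * (y * w) * (x * z)⁻¹ * (y * w)⁻¹ = x * y * x⁻¹ * y⁻¹ := by
  calc (x * z) * (y * w) * (x * z)⁻¹ * (y * w)⁻¹ = x * (z * (y * w)) * z⁻¹ * x⁻¹ * w⁻¹ * y⁻¹ := by group
    _ = x * y * (w * x⁻¹) * w⁻¹ * y⁻¹ := by rw [hz]; group
    _ = x * y * x⁻¹ * y⁻¹ := by rw [hw]; group

section main

variable {Y : Type u} [Group Y] {L : Type v} [Group L] [Finite L] {π : L →* Y}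

/-- the decomposition -/
theorem dec (hπ : PCE π) (hk : Nat.card π.ker = 12) {V : Subgroup Y} (hV : IsPGroup 2 V) {x : L} (hx : π x ∈ V) :
    ∃ y ∈ lft 2 π V, ∃ z : L, π z = 1 ∧ z ^ 3 = 1 ∧ x = y * z := by
  have := Fact.mk Nat.prime_two
  obtain ⟨k, hk1⟩ := hV ⟨π x, hx⟩
  have hk2 : (π x) ^ 2 ^ k = 1 := congrArg Subtype.val hk1
  have hk3 : (x ^ 2 ^ k) ^ 12 = 1 := by
    have h1 : (⟨x ^ 2 ^ k, by rw [MonoidHom.mem_ker, map_pow, hk2]⟩ : π.ker) ^ Nat.card π.ker = 1 := pow_card_eq_one'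
    rw [hk] at h1
    exact congrArg Subtype.val h1
  set n := 2 ^ k * 4 with hn
  have h3n : x ^ (3 * n) = 1 := by
    rw [← hk3, ← pow_mul]
    congr 1
    rw [hn]; ring
  obtain ⟨t, ht⟩ : ∃ t, n ^ 2 = 3 * t + 1 := by
    have h1 : n ^ 2 % 3 = 1 := by
      rw [hn, mul_pow, ← pow_mul, Nat.mul_comm k 2, pow_mul, Nat.mul_mod, Nat.pow_mod]
      norm_num
    exact ⟨n ^ 2 / 3, by omega⟩
  have hπn : (π x) ^ n = 1 := by rw [hn, pow_mul, hk2, one_pow]
  have hzn : (x ^ n ^ 2) ^ n = x ^ n := by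
    calc (x ^ n ^ 2) ^ n = x ^ (3 * n * t + n) := by rw [← pow_mul, ht]; congr 1; ring
      _ = x ^ n := by rw [pow_add, pow_mul, h3n, one_pow, one_mul]
  refine ⟨x * (x ^ n ^ 2)⁻¹, ?_, x ^ n ^ 2, ?_, ?_, by rw [inv_mul_cancel_right]⟩
  · have h1 : π (x ^ n ^ 2) = 1 := by rw [map_pow, pow_two, pow_mul, hπn, one_pow]
    rw [mem_lft hπ.cen hV]
    refine ⟨by rw [map_mul, map_inv, h1, inv_one, mul_one]; exact hx, k + 2, ?_⟩
    have h2 : Commute x (x ^ n ^ 2)⁻¹ := ((Commute.refl x).pow_right _).inv_right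
    have h3 : 2 ^ (k + 2) = n := by rw [hn, pow_add]; norm_num
    rw [h3, h2.mul_pow, inv_pow, hzn, mul_inv_cancel]
  · rw [map_pow, pow_two, pow_mul, hπn, one_pow]
  · calc (x ^ n ^ 2) ^ 3 = (x ^ (3 * n)) ^ n := by rw [← pow_mul, ← pow_mul]; congr 1; ring
      _ = 1 := by rw [h3n, one_pow]

/-- **Matching.** -/
theorem match_abs (hπ : PCE π) (hk : Nat.card π.ker = 12) {P V M : Subgroup Y} (hVP : V ≤ P) (hMP : M ≤ P)
    (hN : P ≤ normalizer (V : Set Y)) (hdec : ∀ g ∈ P, ∃ l ∈ M, ∃ v ∈ V, g = l * v) (hdis : ∀ x ∈ M, x ∈ V → x = 1)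
    (hV : IsPGroup 2 V) (hperf : P ≤ ⁅P, P⁆)
    (hz3 : ∀ z : L, π z = 1 → z ^ 3 = 1 → z ∈ ⁅P.comap π, P.comap π⁆)
    {S : Type u} [Group S] [Finite S] {f : S →* Y} (hf : f.range = M) (hkf : f.ker = center S)
    (hS : commutator S = ⊤) {A : Type u'} [CommGroup A] (hA : Cfsg.HasSchurMultiplier (S ⧸ center S) A) {m : ℕ}
    (hm : Nat.card A = Nat.card (center S) * m) (hm3 : Nat.Coprime m 3)
    (g : L) {v : Y} (hv : v ∈ V) (h : S) (hg : π g = v * f h) :
    ∃ s ∈ center S, ∀ (a b : S) (a' b' : L), h * s = a * b * a⁻¹ * b⁻¹ → π a' = f a → π b' = f b →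
      g * (a' * b' * a'⁻¹ * b'⁻¹)⁻¹ ∈ lft 2 π V := by
  have := Fact.mk Nat.prime_two
  -- the quotients
  have hfP : ∀ x, f x ∈ P := fun x => hMP (by rw [← hf]; exact ⟨x, rfl⟩)
  have hVn : (V.subgroupOf P).Normal := ⟨fun x hx y => by
    rw [mem_subgroupOf] at hx ⊢
    exact (mem_normalizer_iff.1 (hN y.2) _).1 hx⟩
  have hNn : ((lft 2 π V).subgroupOf (P.comap π)).Normal := ⟨fun x hx y => by
    rw [mem_subgroupOf, mem_lft hπ.cen hV] at hx ⊢
    obtain ⟨h1, k, h2⟩ := hx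
    refine ⟨?_, k, ?_⟩
    · show π (y.1 * x.1 * y.1⁻¹) ∈ V
      rw [map_mul, map_mul, map_inv]
      exact (mem_normalizer_iff.1 (hN y.2) _).1 h1
    · show (y.1 * x.1 * y.1⁻¹) ^ 2 ^ k = 1
      rw [conj_pow, h2, mul_one, mul_inv_cancel]⟩
  let Y0 := P ⧸ V.subgroupOf P
  let E := (P.comap π) ⧸ (lft 2 π V).subgroupOf (P.comap π)
  let fP : S →* P := f.codRestrict P hfP
  let σ0 : S →* Y0 := (QuotientGroup.mk' (V.subgroupOf P)).comp fP
  let ρ0 : E →* Y0 := QuotientGroup.map _ (V.subgroupOf P) (π.subgroupComap P) (by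
    intro x hx
    rw [mem_subgroupOf, mem_lft hπ.cen hV] at hx
    exact hx.1)
  have hρ0 : ∀ x : P.comap π, ρ0 (QuotientGroup.mk' _ x) = QuotientGroup.mk' _ (⟨π x.1, x.2⟩ : P) := fun x => rfl
  have hσs : Function.Surjective σ0 := by
    intro y
    obtain ⟨⟨y, hy⟩, rfl⟩ := QuotientGroup.mk'_surjective _ y
    obtain ⟨l, hl, v, hv, rfl⟩ := hdec y hy
    rw [← hf] at hl
    obtain ⟨x, rfl⟩ := hl
    refine ⟨x, ?_⟩
    refine (QuotientGroup.eq).2 ?_
    rw [mem_subgroupOf]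
    show (f x)⁻¹ * (f x * v) ∈ V
    rw [inv_mul_cancel_left]
    exact hv
  have hσk : σ0.ker = center S := by
    rw [← hkf]
    ext x
    rw [MonoidHom.mem_ker, MonoidHom.mem_ker]
    constructor
    · intro hx
      have h1 : fP x ∈ V.subgroupOf P := (QuotientGroup.eq_one_iff _).1 hx
      rw [mem_subgroupOf] at h1
      exact hdis (f x) (by rw [← hf]; exact ⟨x, rfl⟩) h1
    · intro hx
      refine (QuotientGroup.eq_one_iff _).2 ?_
      rw [mem_subgroupOf]
      show f x ∈ V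
      rw [hx]
      exact V.one_mem
  have hσ : PCE σ0 := ⟨hσs, hσk.le, hS⟩
  -- the kernel of `ρ0`
  have hker : ∀ y : E, ρ0 y = 1 → ∃ z : L, ∃ hz : z ∈ P.comap π, π z = 1 ∧ z ^ 3 = 1 ∧ y = QuotientGroup.mk' _ (⟨z, hz⟩ : P.comap π) := by
    intro y hy
    obtain ⟨⟨x, hx⟩, rfl⟩ := QuotientGroup.mk'_surjective _ y
    have h1 : (⟨π x, hx⟩ : P) ∈ V.subgroupOf P := (QuotientGroup.eq_one_iff _).1 hy
    rw [mem_subgroupOf] at h1
    obtain ⟨x2, hx2, z, hz, hz3', rfl⟩ := dec hπ hk hV h1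
    have hzP : z ∈ P.comap π := by rw [mem_comap, hz]; exact P.one_mem
    refine ⟨z, hzP, hz, hz3', ?_⟩
    refine (QuotientGroup.eq).2 ?_
    rw [mem_subgroupOf]
    show (x2 * z)⁻¹ * z ∈ lft 2 π V
    have h2 : (x2 * z)⁻¹ * z = x2⁻¹ := by
      have h3 := hπ.comm hz x2⁻¹
      calc (x2 * z)⁻¹ * z = z⁻¹ * (x2⁻¹ * z) := by group
        _ = x2⁻¹ := by rw [← h3]; group
    rw [h2]
    exact inv_mem hx2
  have hρc : ρ0.ker ≤ center E := by
    intro y hy
    obtain ⟨z, hz, h1, -, rfl⟩ := hker y hy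
    rw [mem_center_iff]
    intro w
    obtain ⟨w, rfl⟩ := QuotientGroup.mk'_surjective _ w
    rw [← map_mul, ← map_mul]
    congr 1
    exact Subtype.ext (hπ.comm h1 w.1).symm
  have hρ : PCE ρ0 := by
    refine ⟨?_, hρc, ?_⟩
    · intro y
      obtain ⟨⟨y, hy⟩, rfl⟩ := QuotientGroup.mk'_surjective _ y
      obtain ⟨x, rfl⟩ := hπ.surj y
      exact ⟨QuotientGroup.mk' _ ⟨x, hy⟩, rfl⟩
    · rw [eq_top_iff]
      intro y _
      obtain ⟨⟨x, hx⟩, rfl⟩ := QuotientGroup.mk'_surjective _ y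
      have hmap : (⁅P.comap π, P.comap π⁆).map π = ⁅P, P⁆ := by
        rw [map_commutator, map_comap_eq_self_of_surjective hπ.surj]
      have hlift : ∀ c : L, ∀ hc : c ∈ ⁅P.comap π, P.comap π⁆, ∃ hc' : c ∈ P.comap π,
          QuotientGroup.mk' ((lft 2 π V).subgroupOf (P.comap π)) ⟨c, hc'⟩ ∈ commutator E := by
        intro c hc
        rw [← map_subtype_commutator] at hc
        obtain ⟨c', hc', rfl⟩ := hc
        refine ⟨c'.2, ?_⟩
        have h1 : QuotientGroup.mk' ((lft 2 π V).subgroupOf (P.comap π)) c' ∈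
            (commutator (P.comap π)).map (QuotientGroup.mk' _) := ⟨c', hc', rfl⟩
        rw [commutator_def, map_commutator] at h1
        exact commutator_mono le_top le_top h1
      have h1 : π x ∈ (⁅P.comap π, P.comap π⁆).map π := by rw [hmap]; exact hperf hx
      obtain ⟨c, hc, hcx⟩ := h1
      obtain ⟨x2, hx2, z, hz, hz3', hw⟩ := dec hπ hk hV (x := c⁻¹ * x) (by
        rw [map_mul, map_inv, hcx, inv_mul_cancel]; exact V.one_mem)
      obtain ⟨hc', hc2⟩ := hlift c hc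
      obtain ⟨hz', hz2⟩ := hlift z (hz3 z hz hz3')
      have h2 : QuotientGroup.mk' ((lft 2 π V).subgroupOf (P.comap π)) ⟨x, hx⟩ =
          QuotientGroup.mk' _ ⟨c, hc'⟩ * QuotientGroup.mk' _ ⟨z, hz'⟩ := by
        rw [← map_mul]
        refine (QuotientGroup.eq).2 ?_
        rw [mem_subgroupOf]
        show x⁻¹ * (c * z) ∈ lft 2 π V
        have h3 : x = c * (x2 * z) := by rw [← hw]; group
        have h4 : x⁻¹ * (c * z) = x2⁻¹ := by
          have h5 := hπ.comm hz x2⁻¹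
          calc x⁻¹ * (c * z) = z⁻¹ * (x2⁻¹ * z) := by rw [h3]; group
            _ = x2⁻¹ := by rw [← h5]; group
        rw [h4]
        exact inv_mem hx2
      rw [h2]
      exact mul_mem hc2 hz2
  -- the identification
  let e : Y0 ≃* (S ⧸ center S) :=
    ((QuotientGroup.quotientMulEquivOfEq hσk.symm).trans (QuotientGroup.quotientKerEquivOfSurjective σ0 hσs)).symm
  have hσe : PCE (e.toMonoidHom.comp σ0) := hσ.congr e
  have hρe : PCE (e.toMonoidHom.comp ρ0) := hρ.congr e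
  have hkσ : (e.toMonoidHom.comp σ0).ker = σ0.ker := by
    ext x
    rw [MonoidHom.mem_ker, MonoidHom.mem_ker]
    show e (σ0 x) = 1 ↔ _
    rw [map_eq_one_iff _ e.injective]
  obtain ⟨θ, hθs, hθ⟩ := exists_over hσe hρe hA (m := m) (k := 3) (by rw [hkσ, hσk, hm]) hm3 (by
    intro x hx
    have h1 : ρ0 x = 1 := (map_eq_one_iff _ e.injective).1 hx
    obtain ⟨z, hz, -, h2, rfl⟩ := hker x h1
    rw [← map_pow]
    have h3 : (⟨z, hz⟩ : P.comap π) ^ 3 = 1 := Subtype.ext h2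
    rw [h3, map_one])
  have hθ' : ∀ x, ρ0 (θ x) = σ0 x := fun x => e.injective (hθ x)
  -- the element
  have hgP : g ∈ P.comap π := by
    rw [mem_comap, hg]
    exact P.mul_mem (hVP hv) (hfP h)
  have hgσ : ρ0 (QuotientGroup.mk' _ ⟨g, hgP⟩) = σ0 h := by
    rw [hρ0]
    refine (QuotientGroup.eq).2 ?_
    rw [mem_subgroupOf]
    show (π g)⁻¹ * f h ∈ V
    rw [hg]
    have h1 : (v * f h)⁻¹ * f h = (f h)⁻¹ * v⁻¹ * ((f h)⁻¹)⁻¹ := by group
    rw [h1]
    exact (mem_normalizer_iff.1 (hN (P.inv_mem (hfP h))) _).1 (V.inv_mem hv)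
  obtain ⟨s, hs⟩ := hθs ((θ h)⁻¹ * QuotientGroup.mk' _ ⟨g, hgP⟩)
  have hsc : s ∈ center S := by
    rw [← hσk, MonoidHom.mem_ker, ← hθ' s, hs, map_mul, map_inv, hθ', hgσ, inv_mul_cancel]
  refine ⟨s, hsc, ?_⟩
  intro a b a' b' hab ha hb
  have haP : a' ∈ P.comap π := by rw [mem_comap, ha]; exact hfP a
  have hbP : b' ∈ P.comap π := by rw [mem_comap, hb]; exact hfP b
  have key : ∀ (a : S) (a' : L) (haP : a' ∈ P.comap π), π a' = f a →
      ∃ z : E, (∀ w, z * w = w * z) ∧ QuotientGroup.mk' _ (⟨a', haP⟩ : P.comap π) = θ a * z := by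
    intro a a' haP ha
    refine ⟨(θ a)⁻¹ * QuotientGroup.mk' _ (⟨a', haP⟩ : P.comap π), ?_, by rw [mul_inv_cancel_left]⟩
    intro w
    refine (mem_center_iff.1 (hρc ?_) w).symm
    have h1 : (⟨π a', haP⟩ : P) = fP a := Subtype.ext ha
    rw [MonoidHom.mem_ker, map_mul, map_inv, hθ', hρ0, h1]
    exact inv_mul_cancel _
  obtain ⟨z1, hz1, h1⟩ := key a a' haP ha
  obtain ⟨z2, hz2, h2⟩ := key b b' hbP hb
  have h3 : QuotientGroup.mk' ((lft 2 π V).subgroupOf (P.comap π)) (⟨a', haP⟩ * ⟨b', hbP⟩ * (⟨a', haP⟩ : P.comap π)⁻¹ *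
      (⟨b', hbP⟩ : P.comap π)⁻¹) = QuotientGroup.mk' _ ⟨g, hgP⟩ := by
    rw [map_mul, map_mul, map_mul, map_inv, map_inv, h1, h2, comm_mul hz1 hz2, ← map_inv, ← map_inv, ← map_mul,
      ← map_mul, ← map_mul, ← hab, map_mul, hs, mul_inv_cancel_left]
  have h4 := (QuotientGroup.eq).1 h3
  rw [mem_subgroupOf] at h4
  have h5 : (a' * b' * a'⁻¹ * b'⁻¹)⁻¹ * g ∈ lft 2 π V := h4
  have h6 : g * (a' * b' * a'⁻¹ * b'⁻¹)⁻¹ =
      (a' * b' * a'⁻¹ * b'⁻¹) * ((a' * b' * a'⁻¹ * b'⁻¹)⁻¹ * g) * (a' * b' * a'⁻¹ * b'⁻¹)⁻¹ := by group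
  rw [h6]
  have hcP : a' * b' * a'⁻¹ * b'⁻¹ ∈ P.comap π :=
    mul_mem (mul_mem (mul_mem haP hbP) (inv_mem haP)) (inv_mem hbP)
  exact hNn.conj_mem ⟨_, mul_mem (inv_mem hcP) hgP⟩ (by rw [mem_subgroupOf]; exact h5) ⟨_, hcP⟩

end main

open CoxeterSystem Cfsg.Agent.ChevalleyStructure.CoxeterGeom Cfsg.Agent.Tits.Roots Cfsg.Agent.Tits.Core
  Cfsg.Agent.Nodes Cfsg.Agent.Nodes.Reps Cfsg.Agent.Nodes.BNOf Cfsg.Agent.Nodes.RGDLib Cfsg.Agent.Nodes.Bruhat
  Cfsg.Agent.Nodes.OppDec Cfsg.Agent.Nodes.LeviDec Cfsg.Agent.Nodes.StabComb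
open Cfsg.Lie
open Cfsg.Agent.H231.QF

section twisted

variable {F : Type u} [Field F] [Fintype F] (hF : Fintype.card F = 4) {φ : F →+* F} (hφ : ∀ t, φ t = t ^ 2)

include hF in
theorem charP_two : CharP F 2 := by
  obtain ⟨p, hp⟩ := CharP.exists F
  have hpp : p.Prime := CharP.char_is_prime F p
  have := Fact.mk hpp
  obtain ⟨n, -, hn⟩ := FiniteField.card F p
  have h1 : p ∣ 2 ^ 2 := by
    rw [show (2 : ℕ) ^ 2 = 4 by norm_num, ← hF, hn]
    exact dvd_pow_self p n.2.ne'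
  have h2 : p = 2 := (Nat.prime_dvd_prime_iff_eq hpp Nat.prime_two).1 (hpp.dvd_of_dvd_pow h1)
  rwa [h2] at hp

include hF hφ in
/-- the structure of the parabolic subgroup -/
theorem parab (J : Set (Fin 4)) :
    P φ J ≤ normalizer (V φ J : Set (KK F)) ∧ (∀ g ∈ P φ J, ∃ l ∈ Lv φ J, ∃ v ∈ V φ J, g = l * v) ∧
      (∀ x ∈ Lv φ J, x ∈ V φ J → x = 1) ∧ IsPGroup 2 (V φ J) := by
  have := charP_two hF
  have := Fact.mk Nat.prime_two
  have hqq : ∀ t : F, (t ^ 2) ^ 2 = t := by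
    intro t
    rw [← pow_mul, show 2 * 2 = Fintype.card F by rw [hF]]
    exact FiniteField.pow_card t
  have R := RGDTwE6.rgd cs hφ hqq 2
  have hW : Finite CoxeterMatrix.F₄.Group := RGDFold.finite_W (hp := RGDTwE6.hp) cs RGDTwE6.isCartan RGDTwE6.foldData
  refine ⟨PJ_le_normalizer_VJ R J, fun g hg => (mem_PJ R).1 hg, fun x hx hx' => ?_, ?_⟩
  · have h1 := LJ_inf_VJ R J
    have h2 : x ∈ LJ cs RGDTwE6.isCartan (RGDTwE6.T F 2) (X φ) J ⊓ VJ cs RGDTwE6.isCartan (X φ) J := ⟨hx, hx'⟩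
    rw [h1] at h2
    exact h2
  · exact R.isPGroup_Upos.to_le (VJ_le_U J)

include hF hφ in
/-- **MATCH3** -/
theorem match3 {L : Type v} [Group L] [Finite L] {π : L →* KK F} (hπ : PCE π) (hk : Nat.card π.ker = 12)
    (hperf : ⁅P φ j1, P φ j1⁆ = P φ j1)
    (hz3 : ∀ z : L, π z = 1 → z ^ 3 = 1 → z ∈ ⁅(P φ j1).comap π, (P φ j1).comap π⁆)
    {f : SU 6 F 2 →* KK F} (hf : f.range = Lv φ j1) (hkf : f.ker = center (SU 6 F 2)) (g : L) {v : KK F}
    (hv : v ∈ V φ j1) (h : SU 6 F 2) (hg : π g = v * f h) :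
    ∃ s ∈ center (SU 6 F 2), ∀ (a b : SU 6 F 2) (a' b' : L), h * s = a * b * a⁻¹ * b⁻¹ → π a' = f a → π b' = f b →
      g * (a' * b' * a'⁻¹ * b'⁻¹)⁻¹ ∈ lft 2 π (V φ j1) := by
  obtain ⟨h1, h2, h3, h4⟩ := parab hF hφ j1
  have hS : commutator (SU 6 F 2) = ⊤ :=
    LieClassical.HermPerfect.commutator_SU_eq_top hF (by norm_num) (by norm_num)
  refine match_abs hπ hk VJ_le_PJ LJ_le_PJ h1 h2 h3 h4 hperf.ge hz3 hf hkf hS (Cfsg.Agent.S2091.result hF) (m := 4) ?_
    (by norm_num) g hv h hg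
  rw [Cfsg.Agent.S0279.result (q := 2) (by rw [hF]; norm_num) 6 (by norm_num),
    Nat.card_congr (Multiplicative.toAdd (α := ZMod 3 × ZMod 2 × ZMod 2)), Nat.card_prod, Nat.card_prod,
    Nat.card_zmod, Nat.card_zmod]
  norm_num

omit [Fintype F] in
/-- the second form of the hypothesis -/
theorem z3_of {L : Type v} [Group L] {π : L →* KK F}
    (hz3 : ∀ z : L, π z = 1 → z ^ 3 = 1 → z ∈ ⁅(Lv φ j1).comap π, (Lv φ j1).comap π⁆) (z : L) (h1 : π z = 1)
    (h3 : z ^ 3 = 1) : z ∈ ⁅(P φ j1).comap π, (P φ j1).comap π⁆ :=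
  commutator_mono (comap_mono LJ_le_PJ) (comap_mono LJ_le_PJ) (hz3 z h1 h3)

end twisted

end Cfsg.Agent.H434.QF
end

-- part: H259/QF/Rk
section
/-!
# S2491, row F4 = `²E₆(2)`, K7 (B): the element `u u'` of order 3 of a long root `SL₂(2)` has index `≥ 2¹⁰` on `V₁ / X_θ`

Generic: a root group datum of type `F₄` whose long root groups have order 2, `J = {1, 2, 3}`, `V = VJ`, `θ = rho`;
`u ∈ X (sr 1)`, `u' ∈ X (-sr 1)` nontrivial.
-/

set_option autoImplicit false
set_option linter.unusedSectionVars false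
set_option maxRecDepth 20000

namespace Cfsg.Agent.H259.QF

open CoxeterSystem Cfsg.Agent.ChevalleyStructure.CoxeterGeom Cfsg.Agent.Tits.Roots Cfsg.Agent.Tits.Core
  Cfsg.Agent.Tits.RootComb Cfsg.Agent.Nodes.Reps Cfsg.Agent.Nodes.BNOf Cfsg.Agent.Nodes.Coroot
  Cfsg.Agent.Nodes.StabComb Cfsg.Agent.Nodes.Bruhat Cfsg.Agent.Nodes.OppDec Cfsg.Agent.Nodes.LeviDec
  Cfsg.Agent.KFacts.RgdSL Cfsg.Agent.KFacts.RgdTI Cfsg.Agent.Nodes.RGDTwE6 Cfsg.Agent.KFacts.TwESix.Comb
  Cfsg.Agent.KFacts.TwESix.Btw Cfsg.Agent.H326.QS.VP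
open scoped commutatorElement

/-- the roots of `V` -/
abbrev Pv (x : Fin 4 → ℤ) : Prop := 1 ≤ x 0

variable {W Y : Type*} [Group W] [Group Y] {cs : CoxeterSystem CoxeterMatrix.F₄ W} {p : ℕ} {T : Subgroup Y}
  {n : Fin 4 → Y} {X : (Fin 4 → ℤ) → Subgroup Y}

section

variable (R : RGD cs isCartan p T n X)

include R

section
variable (hlr : ∀ a, IsRoot cs isCartan a → bf a a = 4 → LR R a)

include hlr

end

end

end Cfsg.Agent.H259.QF
end

-- part: H259/QF/RkK
section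
/-!
# S2491, row F4 = `²E₆(2)`, K7 (B) in the group `KK F`
-/

set_option autoImplicit false
set_option linter.unusedSectionVars false
set_option maxRecDepth 20000

namespace Cfsg.Agent.H259.QF

open CoxeterSystem Cfsg.Agent.ChevalleyStructure.CoxeterGeom Cfsg.Agent.Tits.Roots Cfsg.Agent.Tits.Core
  Cfsg.Agent.Nodes.Reps Cfsg.Agent.Nodes.BNOf Cfsg.Agent.Nodes.Bruhat Cfsg.Agent.Nodes.LeviDec
open Cfsg.Agent.Nodes.RGDTwE6 (isCartan)
open Cfsg.Agent.KFacts.TwESix.Comb (rho bf mem_rts)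
open Cfsg.Agent.H326.QS.VP (Q NotJ_eq eq_of_card)
open Cfsg.Agent.H231.QF (KK cs th V j1)
open Cfsg.Lie Subgroup

universe u

variable {F : Type u} [Field F] [Fintype F] (hF : Fintype.card F = 4) {φ : F →+* F} (hφ : ∀ t, φ t = t ^ 2)

theorem j1_eq : j1 = ({1, 2, 3} : Set (Fin 4)) := by
  ext k
  show k ≠ 0 ↔ _
  (revert k; simp only [_root_.Fin.forall_fin_succ, Fin.isValue, _root_.ne_eq, _root_.Set.mem_insert_iff, _root_.Set.mem_singleton_iff, _root_.not_true_eq_false, _root_.zero_ne_one, Fin.reduceEq, _root_.or_self, _root_.Fin.succ_ne_zero, _root_.not_false_eq_true, _root_.true_iff, _root_.Fin.succ_zero_eq_one, _root_.or_false, _root_.Fin.succ_one_eq_two, _root_.or_true, Fin.reduceSucc, _root_.IsEmpty.forall_iff, _root_.and_self])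

theorem V_eq' : V φ j1 = RGD.Sup (Cfsg.Agent.H231.QF.X φ) (Q Pv) := by
  show VJ cs isCartan (Cfsg.Agent.H231.QF.X φ) j1 = _
  unfold VJ
  rw [j1_eq, NotJ_eq]

include hF hφ

theorem card_sr0 : Nat.card ↥(Cfsg.Agent.H231.QF.X φ (sr 0)) = 2 :=
  have : CharP F 2 := H150.QF.charTwo_of hF
  H326.QS.VPE.card_X0 hφ (H150.QF.hqq_of hF)

end Cfsg.Agent.H259.QF
end

-- part: H259/QF/Perf
section
/-!
# S2491, row F4 = `²E₆(2)`: PERF

`V₁ = [V₁, P₁]` and `P₁` is perfect.
-/

set_option autoImplicit false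
set_option linter.unusedSectionVars false
set_option maxRecDepth 20000

namespace Cfsg.Agent.H259.QF

open CoxeterSystem Cfsg.Agent.ChevalleyStructure.CoxeterGeom Cfsg.Agent.Tits.Roots Cfsg.Agent.Tits.Core
  Cfsg.Agent.Nodes.Reps Cfsg.Agent.Nodes.BNOf Cfsg.Agent.Nodes.Bruhat Cfsg.Agent.Nodes.LeviDec
  Cfsg.Agent.KFacts.RgdSL
open Cfsg.Agent.Nodes.RGDTwE6 (isCartan)
open Cfsg.Agent.KFacts.TwESix.Comb (rho bf mem_rts rts a2 exists_rep_short finiteW)
open Cfsg.Agent.H326.QS.VP (Q NotJ_eq eq_of_card eq_of_long)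
open Cfsg.Agent.H231.QF (KK cs th V j1 P Lv)
open Cfsg.Lie Subgroup
open scoped commutatorElement

universe u

variable {F : Type u} [Field F] [Fintype F] (hF : Fintype.card F = 4) {φ : F →+* F} (hφ : ∀ t, φ t = t ^ 2)

/-- every long root of `V` except `θ` is the sum of two long roots, one in `V`, one in the Levi complement -/
theorem tab_long : ∀ b ∈ rts, 1 ≤ b 0 → bf b b = 4 → b ≠ rho → ∃ a ∈ rts, ∃ c ∈ rts, a 0 = 0 ∧ 1 ≤ c 0 ∧
    bf a a = 4 ∧ bf c c = 4 ∧ bf a c = -2 ∧ a + c = b := by decide +kernel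

theorem tab_len : ∀ b ∈ rts, bf b b = 4 ∨ bf b b = 2 := by decide +kernel

include hF hφ

theorem X_le_comm {b : Fin 4 → ℤ} (hb : b ∈ rts) (h1 : 1 ≤ b 0) :
    Cfsg.Agent.H231.QF.X φ b ≤ ⁅V φ j1, P φ j1⁆ := by
  have : CharP F 2 := H150.QF.charTwo_of hF
  have : Fact (Nat.Prime 2) := ⟨Nat.prime_two⟩
  have hW : Finite CoxeterMatrix.F₄.Group := finiteW cs
  have R := H150.QF.rgdK hF hφ
  have hXV : ∀ c ∈ rts, 1 ≤ c 0 → Cfsg.Agent.H231.QF.X φ c ≤ V φ j1 := by
    intro c hc hc0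
    rw [V_eq']
    exact RGD.le_Sup (S := Q Pv) ⟨hc, hc0⟩
  rcases tab_len b hb with hl | hs
  · by_cases hbr : b = rho
    · -- the highest root
      subst hbr
      obtain ⟨hc1, -, hc3, hc4⟩ := H594.QF.V1_struct hF hφ
      obtain ⟨x, hx, y, hy, hxy⟩ : ∃ x ∈ V φ j1, ∃ y ∈ V φ j1, x * y ≠ y * x := by
        by_contra hno
        push Not at hno
        have h3 : V φ j1 ≤ Cfsg.Agent.H231.QF.X φ th := fun x hx => hc3 x hx (hno x hx)
        have h4 : Nat.card (V φ j1) ≤ Nat.card (Cfsg.Agent.H231.QF.X φ th) := Nat.card_le_card_of_injective _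
          (Subgroup.inclusion_injective h3)
        have h5 : Nat.card (Cfsg.Agent.H231.QF.X φ th) = 2 := by
          obtain ⟨w, hw⟩ := Cfsg.Agent.KFacts.TwESix.Comb.exists_rep_long cs
            (Cfsg.Agent.KFacts.TwESix.Comb.rho_root cs) (by decide +kernel)
          have h6 := Cfsg.Agent.Nodes.CardSup.card_X_rep R w (isRoot_sr cs isCartan 0)
          have h7 : rep cs isCartan w (sr 0) = th := hw
          rw [h7] at h6
          exact h6.trans (card_sr0 hF hφ)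
        rw [hc4, h5] at h4
        norm_num at h4
      have h3 := hc1 x hx y hy
      have h4 : x * y * x⁻¹ * y⁻¹ ≠ 1 := by
        intro h
        apply hxy
        calc x * y = (x * y * x⁻¹ * y⁻¹) * (y * x) := by group
          _ = y * x := by rw [h, one_mul]
      intro z hz
      by_cases hz1 : z = 1
      · rw [hz1]; exact one_mem _
      · have h5 : z = x * y * x⁻¹ * y⁻¹ := eq_of_long R (eq_of_card (card_sr0 hF hφ)) (x := rho) hb hl hz h3 hz1 h4
        rw [h5, ← commutatorElement_def]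
        exact commutator_mem_commutator hx (VJ_le_PJ hy)
    · obtain ⟨a, ha, c, hc, ha0, hc0, hla, hlc, hac, rfl⟩ := tab_long b hb h1 hl hbr
      have hA : A2 cs isCartan a c := a2 cs ((mem_rts cs).2 ha) ((mem_rts cs).2 hc) (by rw [hla, hlc]) (by
        rw [hac, hla]; norm_num)
      have hne : ∀ {x : Fin 4 → ℤ}, IsRoot cs isCartan x → ∃ u ∈ Cfsg.Agent.H231.QF.X φ x, u ≠ 1 := by
        intro x hx
        have := X_ne_bot R hx
        rw [Subgroup.ne_bot_iff_exists_ne_one] at this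
        obtain ⟨⟨u, hu⟩, h1⟩ := this
        exact ⟨u, hu, fun h2 => h1 (Subtype.ext h2)⟩
      obtain ⟨u, hu, hu1⟩ := hne hA.rx
      obtain ⟨v, hv, hv1⟩ := hne ((mem_rts cs).2 hc)
      have h3 := hA.comm_mem R hu hv
      have h4 := hA.comm_ne_one R hu hu1 hv hv1
      intro z hz
      by_cases hz1 : z = 1
      · rw [hz1]; exact one_mem _
      · have h5 : z = ⁅u, v⁆ := eq_of_long R (eq_of_card (card_sr0 hF hφ)) hb hl hz h3 hz1 h4
        rw [h5, Subgroup.commutator_comm]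
        refine commutator_mem_commutator (LJ_le_PJ (X_le_LJ ?_ hu)) (hXV c hc hc0 hv)
        rw [j1_eq, Cfsg.Agent.H326.QS.VP.RootsJ_eq]
        exact ⟨ha, ha0⟩
  · have hb' := (mem_rts cs).2 hb
    obtain ⟨w, hw⟩ := exists_rep_short cs hb' hs
    have hcard : 2 < Nat.card (Cfsg.Agent.H231.QF.X φ b) := by
      have h3 := Cfsg.Agent.Nodes.CardSup.card_X_rep R w (isRoot_sr cs isCartan 3)
      rw [hw] at h3
      have h8 := Cfsg.Agent.KFacts.TwESix.Dat.card_lt hφ (H150.QF.hqq_of hF) hF one_lt_two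
      rw [h3]
      exact lt_of_eq_of_lt (card_sr0 hF hφ).symm h8
    intro z hz
    by_cases hz1 : z = 1
    · rw [hz1]; exact one_mem _
    · obtain ⟨v, hv, hv1, hvz⟩ : ∃ v ∈ Cfsg.Agent.H231.QF.X φ b, v ≠ 1 ∧ z * v ≠ 1 := by
        by_contra hno
        push Not at hno
        have : ∀ x : Cfsg.Agent.H231.QF.X φ b, x = 1 ∨ x = ⟨z⁻¹, inv_mem hz⟩ := by
          intro x
          by_cases hx1 : (x : KK F) = 1
          · exact Or.inl (Subtype.ext hx1)
          · exact Or.inr (Subtype.ext (eq_inv_of_mul_eq_one_right (hno x x.2 hx1)))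
        have h4 : Nat.card (Cfsg.Agent.H231.QF.X φ b) ≤ 2 := by
          classical
          have : Function.Surjective (fun i : Bool => if i then (1 : Cfsg.Agent.H231.QF.X φ b) else ⟨z⁻¹, inv_mem hz⟩) := by
            intro x
            rcases this x with h | h
            · exact ⟨true, by simp [h]⟩
            · exact ⟨false, by simp [h]⟩
          have h5 := Nat.card_le_card_of_surjective _ this
          simpa only [_root_.Nat.card_eq_fintype_card, _root_.ge_iff_le, _root_.Fintype.card_bool] using h5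
        omega
      obtain ⟨t, ht, e⟩ := Cfsg.Agent.KFacts.TwESix.Facts.exists_tor R hb' hv hv1 (mul_mem hz hv) hvz
      have h3 : z = ⁅t, v⁆ := by
        rw [commutatorElement_def, e, mul_inv_cancel_right]
      rw [h3, Subgroup.commutator_comm]
      exact commutator_mem_commutator (LJ_le_PJ (T_le_LJ ht)) (hXV b hb h1 hv)

/-- `V₁ = [V₁, P₁]` -/
theorem V_le_comm : V φ j1 ≤ ⁅V φ j1, P φ j1⁆ := by
  conv_lhs => rw [V_eq']
  exact RGD.Sup_le fun b hb => X_le_comm hF hφ hb.1 hb.2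

theorem Lv_le_comm : Lv φ j1 ≤ ⁅Lv φ j1, Lv φ j1⁆ := by
  obtain ⟨f, hf, -⟩ := H297.QF.Su.exists_su6 hF hφ
  have h1 : _root_.commutator (SU 6 F 2) = ⊤ :=
    Cfsg.Agent.LieClassical.HermPerfect.commutator_SU_eq_top (by rw [hF]; norm_num) (by norm_num) (by norm_num)
  rw [← hf, MonoidHom.range_eq_map, ← map_commutator, ← _root_.commutator_def, h1]

/-- **PERF** : `P₁` is perfect -/
theorem perf : ⁅P φ j1, P φ j1⁆ = P φ j1 := by
  apply le_antisymm
  · exact Subgroup.commutator_le_self _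
  · refine sup_le ?_ ?_
    · exact (Lv_le_comm hF hφ).trans (commutator_mono LJ_le_PJ LJ_le_PJ)
    · exact (V_le_comm hF hφ).trans (commutator_mono VJ_le_PJ le_rfl)

end Cfsg.Agent.H259.QF
end

-- part: H374/QF/ZThree
section
/-!
# S2491, row F4 = `²E₆(2)`: the 3-part of the kernel lies in `⁅L̃₁, L̃₁⁆` (Z3LEV, helper374)
-/

set_option autoImplicit false
set_option linter.unusedSectionVars false

namespace Cfsg.Agent.H374.QF.ZThree

open CoxeterSystem Cfsg.Agent.ChevalleyStructure.CoxeterGeom Cfsg.Agent.Tits.Roots Cfsg.Agent.Tits.Core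
  Cfsg.Agent.Nodes Cfsg.Agent.Nodes.Reps Cfsg.Agent.Nodes.BNOf Cfsg.Agent.Nodes.RGDLib Cfsg.Agent.Nodes.Bruhat
  Cfsg.Agent.Nodes.OppDec Cfsg.Agent.Nodes.LeviDec Cfsg.Agent.Nodes.StabComb
  Cfsg.Agent.Nodes.RGDLift
  Cfsg.Agent.H928.Ore.TwE Cfsg.Agent.H928.Ore.TwS
open Cfsg.Lie
open Cfsg.Agent.Nodes.RGDFoldSL (Fx mem_Fx)
open Cfsg.Agent.Nodes.RGDTwNode.E6 (rest)
open Cfsg.Agent.OddHalf.NI.Mult (dg nn up lo dgHom Coord)
open Cfsg.Agent.H231.QS.Lift Cfsg.Agent.H231.QS.TwCen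
open Cfsg.Agent.H51.Mult (PCE)
open Cfsg.Agent.H231.QF
open scoped MatrixGroups

universe u v

theorem sr_mem_RootsJ {i : Fin 4} (hi : i ≠ 0) : sr i ∈ RootsJ cs RGDTwE6.isCartan j1 := by
  refine ⟨isRoot_sr cs RGDTwE6.isCartan i, fun k hk => ?_⟩
  have hk : k = 0 := by
    by_contra h
    exact hk h
  subst hk
  simp [sr, hi.symm]

theorem neg_sr_mem_RootsJ {i : Fin 4} (hi : i ≠ 0) : -sr i ∈ RootsJ cs RGDTwE6.isCartan j1 := by
  refine ⟨(isRoot_sr cs RGDTwE6.isCartan i).neg, fun k hk => ?_⟩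
  have h := (sr_mem_RootsJ hi).2 k hk
  rw [Pi.neg_apply, h, neg_zero]

/-- **The kernel (order dividing 3): commutators of elements over the Levi subgroup of `P₁`.** -/
theorem central {K : Type u} [Field K] [Fintype K] (hK : Fintype.card K = 4) {φ : K →+* K} (hφ : ∀ t, φ t = t ^ 2)
    {E : Type*} [Group E] [Finite E] {π : E →* ↥(twistedE6 K 2)} (hsur : Function.Surjective π)
    (hc : π.ker ≤ Subgroup.center E) (h3 : Nat.card π.ker ∣ 3) (hE : commutator E = ⊤) {x : E} (hx : x ∈ π.ker) :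
    ∃ a b : E, π a ∈ Lv φ j1 ∧ π b ∈ Lv φ j1 ∧ x = a * b * a⁻¹ * b⁻¹ := by
  have hqq := Cfsg.Agent.H326.QF.frob_frob hK
  obtain ⟨p, hpc⟩ := CharP.exists K
  have : Fact p.Prime := ⟨(CharP.char_is_prime_or_zero K p).resolve_right (CharP.char_ne_zero_of_finite K p)⟩
  have : Fact (Nat.Prime 3) := ⟨Nat.prime_three⟩
  have h0 : (p : K) = 0 := CharP.cast_eq_zero K p
  have hp3 : p ≠ 3 := by
    rintro rfl
    have h1 : 3 ∣ Fintype.card K := by
      rw [← CharP.cast_eq_zero_iff K 3]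
      exact Nat.cast_card_eq_zero K
    rw [hK] at h1
    omega
  have h3' : IsPGroup 3 π.ker := by
    rcases (Nat.dvd_prime Nat.prime_three).1 h3 with h4 | h4
    · exact IsPGroup.of_card (n := 0) (by rw [h4, pow_zero])
    · exact IsPGroup.of_card (n := 1) (by rw [h4, pow_one])
  have hfin : Finite (GL chevE6.Idx K) := by
    have : Finite (Matrix chevE6.Idx chevE6.Idx K) := inferInstance
    infer_instance
  have : Finite ↥(twistedE6 K 2) := inferInstance
  have R := RGDTwE6.rgd CoxeterMatrix.F₄.toCoxeterSystem hφ hqq p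
  have : Finite CoxeterMatrix.F₄.Group := Cfsg.Agent.Nodes.RGDFold.finite_W (hp := RGDTwE6.hp)
    CoxeterMatrix.F₄.toCoxeterSystem RGDTwE6.isCartan RGDTwE6.foldData
  have hker : (Nat.card π.ker).Coprime p := by
    obtain ⟨k, hk⟩ := IsPGroup.iff_card.1 h3'
    rw [hk]
    exact Nat.Coprime.pow_left k ((Nat.coprime_primes Fact.out Fact.out).2 (Ne.symm hp3))
  have hn : ∃ n' : Fin 4 → E, ∀ i, π (n' i) = RGDTwE6.nn hφ i := by
    choose n' hn' using fun i => hsur (RGDTwE6.nn hφ i)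
    exact ⟨n', hn'⟩
  obtain ⟨n', hn'⟩ := hn
  have R' := rgd_lift hc hker hsur R hn'
  have hG := RGDTwE6.G1_eq_top CoxeterMatrix.F₄.toCoxeterSystem hφ hqq
  have hG' := Cfsg.Agent.OddHalf.NI.Mult.G1_lift R hG hsur hc hker hE
  have C := Cfsg.Agent.H958.TS.TwCommon.coordP hφ hqq
  have hch : ∀ i : Fin 4, ((p : ℕ) : Fx φ ((rest i).length + 1)) = 0 := fun i =>
    Subtype.ext (by
      rw [Subring.coe_natCast, ZeroMemClass.coe_zero]
      exact h0)
  have hlift : ∀ i, ∃ s' : Matrix.SpecialLinearGroup (Fin 2) (Fx φ ((rest i).length + 1))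
      →* E, π.comp s' = Cfsg.Agent.H958.TS.TwCommon.P hφ hqq i := fun i =>
    Cfsg.Agent.H231.QS.Lift.exists_lift (p := p) (r := 3) hp3 hsur hc h3' _ (closure_pow (hch i))
      (fun P => cyc_two (hch i) hp3 P)
  choose t ht using hlift
  have ht' : ∀ i A, π (t i A) = Cfsg.Agent.H958.TS.TwCommon.P hφ hqq i A := fun i A => DFunLike.congr_fun (ht i) A
  have C' := Cfsg.Agent.OddHalf.NI.Mult.coord_lift R C hc hker ht
  have hT := Cfsg.Agent.OddHalf.NI.Mult.torus R' C' hG'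
  -- membership in the Levi subgroup
  have hTL : RGDTwE6.T K 2 ≤ Lv φ j1 := T_le_LJ
  have hPL : ∀ i : Fin 4, i ≠ 0 → ∀ A, Cfsg.Agent.H958.TS.TwCommon.P hφ hqq i A ∈ Lv φ j1 := by
    intro i hi A
    have h5 := C.range_le_KK i ⟨A, rfl⟩
    refine (?_ : (X φ (sr i) ⊔ X φ (-sr i) : Subgroup ↥(twistedE6 K 2)) ≤ Lv φ j1) h5
    refine sup_le (X_le_LJ ?_) (X_le_LJ ?_)
    · exact sr_mem_RootsJ hi
    · exact neg_sr_mem_RootsJ hi
  by_cases hcom : ∀ i j, i ≠ j → ∀ a b, Commute (t i (dg a)) (t j (dg b))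
  · have hcomm : Pairwise fun i j => ∀ (a : (Fx φ ((rest i).length + 1))ˣ) (b : (Fx φ ((rest j).length + 1))ˣ),
        Commute (((t i).comp dgHom) a) (((t j).comp dgHom) b) := fun i j hij a b => hcom i j hij a b
    have hx1 : x ∈ (MonoidHom.noncommPiCoprod (fun i => (t i).comp dgHom) hcomm).range := by
      rw [MonoidHom.noncommPiCoprod_range, ← hT, Subgroup.mem_comap]
      rw [MonoidHom.mem_ker] at hx
      rw [hx]
      exact one_mem _
    obtain ⟨u, hu⟩ := hx1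
    have hsingle : ∀ i (a : (Fx φ ((rest i).length + 1))ˣ), MonoidHom.noncommPiCoprod (fun i => (t i).comp dgHom) hcomm
        (Pi.mulSingle i a) = t i (dg a) := by
      intro i a
      rw [MonoidHom.noncommPiCoprod_mulSingle]
      rfl
    have hu1 : u = Pi.mulSingle 0 (u 0) * Pi.mulSingle 1 (u 1) * Pi.mulSingle 2 (u 2) * Pi.mulSingle 3 (u 3) := by
      rw [← Fin.prod_univ_four (fun i => Pi.mulSingle i (u i)), Finset.univ_prod_mulSingle]
    rw [hu1, map_mul, map_mul, map_mul, hsingle, hsingle, hsingle, hsingle] at hu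
    have hx2 : π x = 1 := hx
    rw [← hu, map_mul, map_mul, map_mul, ht', ht', ht', ht'] at hx2
    obtain ⟨e0, e1, e2⟩ := ker_tor hφ hqq (t0 := u 0) (t1 := u 1) (t2 := u 2) (t3 := u 3) hx2
    have hcard : 4 ≤ Nat.card (Fx φ 2) := by
      have h5 : (Fx φ 2) = ⊤ := by
        rw [eq_top_iff]
        intro y _
        rw [mem_Fx]
        change φ (φ y) = y
        rw [hφ, hφ, hqq]
      have h6 : Nat.card (Fx φ 2) = Nat.card K := by
        rw [h5]
        exact Nat.card_congr Subfield.topEquiv.toEquiv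
      rw [h6, Nat.card_eq_fintype_card, hK]
    have hperf : commutator SL(2, Fx φ 2) = ⊤ := perf2 hcard
    obtain ⟨s2, hs2⟩ : ∃ s2 : SL(2, Fx φ 2) →* E, s2 = t 2 := ⟨_, rfl⟩
    obtain ⟨s3, hs3⟩ : ∃ s3 : SL(2, Fx φ 2) →* E, s3 = t 3 := ⟨_, rfl⟩
    have hq2 : ∀ A, π (s2 A) = Q2 hφ hqq A := by
      rw [hs2]
      exact fun A => ht' 2 A
    have hq3 : ∀ A, π (s3 A) = Q3 hφ hqq A := by
      rw [hs3]
      exact fun A => ht' 3 A
    obtain ⟨v, hv⟩ : ∃ v : (Fx φ 2)ˣ, v = u 3 := ⟨_, rfl⟩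
    have h32 : ∀ A, s3 (dg v) * s2 A * (s3 (dg v))⁻¹ = s2 (cj2 v⁻¹ A) := by
      have h5 : (MulAut.conj (s3 (dg v))).toMonoidHom.comp s2 = s2.comp (cj2 v⁻¹) := by
        refine hom_eq hperf hc fun A => ?_
        change π (s3 (dg v) * s2 A * (s3 (dg v))⁻¹) = π (s2 (cj2 v⁻¹ A))
        rw [map_mul, map_mul, map_inv, hq3, hq2, hq2]
        exact rel32 hφ hqq v A
      exact fun A => DFunLike.congr_fun h5 A
    have h23' : ∀ A, s2 (dg v) * s3 A * (s2 (dg v))⁻¹ = s3 (cj2 v⁻¹ A) := by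
      have h5 : (MulAut.conj (s2 (dg v))).toMonoidHom.comp s3 = s3.comp (cj2 v⁻¹) := by
        refine hom_eq hperf hc fun A => ?_
        change π (s2 (dg v) * s3 A * (s2 (dg v))⁻¹) = π (s3 (cj2 v⁻¹ A))
        rw [map_mul, map_mul, map_inv, hq2, hq3, hq3]
        exact rel23 hφ hqq v A
      exact fun A => DFunLike.congr_fun h5 A
    have hc23 : s2 (dg v) * s3 (dg v) = s3 (dg v) * s2 (dg v) := by
      rw [hs2, hs3]
      exact hcom 2 3 (by decide) v v
    have h6 := scal v h32 h23' hc23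
    have h9 : x = s3 (dg v) * (s2 (dg v))⁻¹ := by
      rw [← hu]
      have k0 : t 0 (dg (u 0)) = 1 := by
        have : u 0 = 1 := e0
        rw [this, Cfsg.Agent.OddHalf.NI.Mult.dg_one, map_one]
      have k1 : t 1 (dg (u 1)) = 1 := by
        have : u 1 = 1 := e1
        rw [this, Cfsg.Agent.OddHalf.NI.Mult.dg_one, map_one]
      have k2 : t 2 (dg (u 2)) = (s2 (dg v))⁻¹ := by
        have h7 : (u 2 : (Fx φ 2)ˣ) = v⁻¹ := by rw [hv]; exact e2
        have h8 : s2 (dg (u 2 : (Fx φ 2)ˣ)) = (s2 (dg v))⁻¹ := by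
          rw [h7, ← map_inv, ← Cfsg.Agent.OddHalf.NI.Mult.dg_inv]
        rw [← h8, hs2]
        rfl
      have k3 : t 3 (dg (u 3)) = s3 (dg v) := by
        rw [hs3, hv]
        rfl
      rw [k0, k1, k2, k3, one_mul, one_mul]
      have h8 : Commute (s2 (dg v)) (s3 (dg v)) := hc23
      exact h8.inv_left.eq
    refine ⟨_, _, ?_, ?_, h9.trans h6⟩
    · rw [map_mul, hq2, hq3]
      exact mul_mem (hPL 2 (by decide) _) (hPL 3 (by decide) _)
    · rw [hq2]
      exact hPL 2 (by decide) _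
  · push Not at hcom
    obtain ⟨i, j, hij, a, b, hab⟩ := hcom
    obtain ⟨ζ, hζ⟩ : ∃ ζ, t i (dg a) * t j (dg b) * (t i (dg a))⁻¹ * (t j (dg b))⁻¹ = ζ := ⟨_, rfl⟩
    have hζ1 : π ζ = 1 := by
      have h5 := Cfsg.Agent.H958.TS.TwCommon.T_comm (π (t i (dg a)))
        (Cfsg.Agent.OddHalf.NI.Mult.dg_mem_T R' C' i a) (π (t j (dg b)))
        (Cfsg.Agent.OddHalf.NI.Mult.dg_mem_T R' C' j b)
      rw [← hζ, map_mul, map_mul, map_mul, map_inv, map_inv, h5]
      group
    have hζ2 : ζ ≠ 1 := by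
      intro h5
      apply hab
      rw [h5] at hζ
      have h6 := mul_inv_eq_one.1 hζ
      exact mul_inv_eq_iff_eq_mul.1 h6
    have h5 : Nat.card π.ker = 3 := by
      rcases (Nat.dvd_prime Nat.prime_three).1 h3 with h4 | h4
      · exfalso
        have h6 := Subgroup.card_eq_one.1 h4
        have h7 : ζ ∈ π.ker := hζ1
        rw [h6, Subgroup.mem_bot] at h7
        exact hζ2 h7
      · exact h4
    have h6 : (⟨x, hx⟩ : π.ker) ∈ Subgroup.zpowers (⟨ζ, hζ1⟩ : π.ker) :=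
      mem_zpowers_of_prime_card h5 (fun h => hζ2 (congrArg Subtype.val h))
    obtain ⟨n, hn⟩ := h6
    have h7 : ζ ^ n = x := congrArg Subtype.val hn
    refine ⟨t i (dg a) ^ n, t j (dg b), ?_, ?_, by rw [← h7]; exact _root_.Cfsg.Agent.H231.QS.TwCen.zpow_comm hζ (hc hζ1) n⟩
    · rw [map_zpow]
      exact zpow_mem (hTL (Cfsg.Agent.OddHalf.NI.Mult.dg_mem_T R' C' i a)) n
    · exact hTL (Cfsg.Agent.OddHalf.NI.Mult.dg_mem_T R' C' j b)


/-- **Z3LEV** -/
theorem z3lev {F : Type u} [Field F] [Fintype F] (hF : Fintype.card F = 4) {φ : F →+* F} (hφ : ∀ t, φ t = t ^ 2)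
    {L : Type v} [Group L] [Finite L] {π : L →* KK F} (hπ : PCE π) (hk : Nat.card π.ker = 12) (z : L) (hz : π z = 1)
    (hz3 : z ^ 3 = 1) : z ∈ ⁅(Lv φ j1).comap π, (Lv φ j1).comap π⁆ := by
  have h2 : Fact (Nat.Prime 2) := ⟨Nat.prime_two⟩
  obtain ⟨N₀, hN₀⟩ := Sylow.exists_subgroup_card_pow_prime (G := π.ker) 2 (n := 2) (by rw [hk]; norm_num)
  let N₁ : Subgroup L := N₀.map π.ker.subtype
  have hN₁ : N₁ ≤ π.ker := by
    rintro _ ⟨z, -, rfl⟩
    exact z.2
  have hcN₁ : Nat.card N₁ = 4 := by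
    have e := Nat.card_congr (N₀.equivMapOfInjective π.ker.subtype (Subgroup.subtype_injective _)).toEquiv
    rw [← e, hN₀]
    norm_num
  obtain ⟨L', _, q, ρ, hq, hqk, hρ, hρc⟩ := hπ.quot hN₁
  have hfin : Finite L' := Finite.of_surjective q hq
  have hk' : Nat.card ρ.ker = 3 := by
    have e := Cfsg.Agent.H51.Mult.card_ker_of_quot hq hρ
    rw [hk, hqk, hcN₁] at e
    omega
  have hz' : q z ∈ ρ.ker := by
    rw [MonoidHom.mem_ker, hρ, hz]
  obtain ⟨a', b', ha', hb', e⟩ := central hF hφ hρc.surj hρc.cen (by rw [hk']) hρc.perf hz'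
  obtain ⟨a, rfl⟩ := hq a'
  obtain ⟨b, rfl⟩ := hq b'
  rw [hρ] at ha' hb'
  obtain ⟨c, hc⟩ : ∃ c, c = a * b * a⁻¹ * b⁻¹ := ⟨_, rfl⟩
  have hcm : c ∈ ⁅(Lv φ j1).comap π, (Lv φ j1).comap π⁆ := by
    rw [hc]
    exact Subgroup.commutator_mem_commutator ha' hb'
  have hn : c⁻¹ * z ∈ N₁ := by
    rw [← hqk, MonoidHom.mem_ker, map_mul, map_inv, e, hc]
    simp only [map_mul, map_inv]
    group
  have hn4 : (c⁻¹ * z) ^ 4 = 1 := by
    have h1 := pow_card_eq_one' (x := (⟨c⁻¹ * z, hn⟩ : N₁))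
    rw [hcN₁] at h1
    exact congrArg Subtype.val h1
  have hzc : Commute z c := by
    have := hπ.comm (z := z) hz c
    exact this
  have e1 : z = c ^ 4 := by
    have h1 : (c⁻¹ * z) ^ 4 = (c⁻¹) ^ 4 * z ^ 4 := (hzc.symm.inv_left).mul_pow 4
    rw [h1] at hn4
    have h3 : z ^ 4 = z := by rw [pow_succ, hz3, one_mul]
    rw [h3, inv_pow, inv_mul_eq_one] at hn4
    exact hn4.symm
  rw [e1]
  exact pow_mem hcm 4

end Cfsg.Agent.H374.QF.ZThree
end

-- part: H461/QF/P1Main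
section
/-!
# S2491, row F4 = `²E₆(2)` : `P1`: all elements over `P_1 ∖ V_1` are commutators (helper461)
-/

set_option autoImplicit false
set_option linter.unusedSectionVars false

namespace Cfsg.Agent.H461.QF

open Cfsg.Lie Subgroup
open Cfsg.Agent.H51.Mult (PCE)
open Cfsg.Agent.H777.Ore (AllC IsC)
open Cfsg.Agent.H231.QF

universe u v

variable {F : Type u} [Field F] [Fintype F] (hF : Fintype.card F = 4) {φ : F →+* F} (hφ : ∀ t, φ t = t ^ 2)
  {L : Type v} [Group L] [Finite L] {π : L →* KK F} (hπ : PCE π) (hk : Nat.card π.ker = 12)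

include hF hφ hπ hk

/-- **P1**, from Z3 -/
theorem p1_of_z3
    (Z3 : ∀ z : L, π z = 1 → z ^ 3 = 1 → z ∈ ⁅(Lv φ j1).comap π, (Lv φ j1).comap π⁆)
    (hp4 : ∀ g : L, π g ∈ P φ j4 → π g ∉ V φ j4 → IsC g) (g : L) (h : π g ∈ P φ j1) (h1 : π g ∉ V φ j1) : IsC g := by
  have hF2 : Fintype.card F = 2 ^ 2 := hF
  have hperf := Cfsg.Agent.H259.QF.perf hF hφ
  obtain ⟨f, hf, hfk, -, hT⟩ := Cfsg.Agent.H297.QF.Su.exists_su6_T hF hφ hF2
  exact p1_of hF hφ hπ hk f hf hfk
    (fun hF2' w hw h0 v hv => Cfsg.Agent.H150.QF.transvection_out hF hφ hf hfk (hF2 := hF2') hT w hw h0 v hv)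
    (Cfsg.Agent.H594.QF.V1_struct hF hφ) (fun h hh => Cfsg.Agent.H486.F4.rank_ge hF hφ hf hfk h hh) (Cfsg.Agent.H326.QF.tstar_lft_of hF hφ hπ hperf)
    (fun g v hv h hg => Cfsg.Agent.H434.QF.match3 hF hφ hπ hk hperf (fun z h1 h3 => Cfsg.Agent.H434.QF.z3_of Z3 z h1 h3)
      hf hfk g hv h hg)
    (Cfsg.Agent.H259.QF.V_le_comm hF hφ) (fun z hz hz2 => Cfsg.Agent.H231.QF.HOne.h1 hF hφ hπ z hz hz2) hp4 g h h1

/-- **P1** (the stub `p1`) -/
theorem p1 (hp4 : ∀ g : L, π g ∈ P φ j4 → π g ∉ V φ j4 → IsC g)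
    (g : L) (h : π g ∈ P φ j1) (h1 : π g ∉ V φ j1) : IsC g :=
  p1_of_z3 hF hφ hπ hk (fun z hz hz3 => Cfsg.Agent.H374.QF.ZThree.z3lev hF hφ hπ hk z hz hz3) hp4 g h h1

end Cfsg.Agent.H461.QF
end

-- part: H588/F4/Iden
section
/-!
# `²E₆(2)`: the action of the Levi subgroup of `P₄ = 2^(8+16):Ω₈⁻(2)` on the layer `2^8` (helper588, row F4 of S2491)

`top` : the eight roots of `E₆` with fold coordinate 2 at node 3; `P8 c` : the product of the root elements; `Ph v` : the coordinates of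
the vector `v` of the orthogonal space `V` of minus type; `p v = P8 (Ph v)` : `V → ²E₆(2)`.
-/

set_option autoImplicit false

namespace Cfsg.Agent.H588.F4

open Cfsg Cfsg.Lie Subgroup
open Cfsg.Agent.ChevalleyStructure Cfsg.Agent.ChevalleyStructure.TwE6Basic
open Cfsg.Agent.ChevalleyStructure.Elts (xG wordG)

universe u

/-! ### The tables -/

/-- the roots of level two -/
def top : Fin 8 → ℕ := ![60, 63, 65, 66, 68, 69, 70, 71]

/-- the roots `r` of level zero; `r + top j = top i`, `r + top (7 - i) = top (7 - j)` -/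
def tab : List (ℕ × Fin 8 × Fin 8) := [(18, 6, 0), (20, 5, 0), (21, 4, 0), (23, 3, 0), (24, 2, 0), (25, 1, 0), (27, 5, 1),
  (28, 4, 1), (29, 4, 2), (31, 3, 1), (32, 2, 1), (34, 3, 2), (37, 2, 3), (39, 1, 2), (40, 1, 3), (42, 2, 4), (43, 1, 4),
  (44, 1, 5), (46, 0, 1), (47, 0, 2), (48, 0, 3), (50, 0, 4), (51, 0, 5), (53, 0, 6)]

/-- the check of the commutator relations -/
def chk (e : ℕ × Fin 8 × Fin 8) (k : Fin 8) : Bool :=
  match chevE6.commTerms e.1 (top k) with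
  | [] => k != e.2.1 && k != Fin.rev e.2.2
  | [(w, C, a, b)] => (C == 1 || C == -1) && a == 1 && b == 1 &&
      ((k == e.2.1 && w == top e.2.2) || (k == Fin.rev e.2.2 && w == top (Fin.rev e.2.1)))
  | _ => false

theorem chk_all : ∀ e ∈ tab, ∀ k, chk e k = true := by (delta Cfsg.Agent.H588.F4.chk; rewrite [Cfsg.Agent.ChevFast.E6.commTerms]; decide +kernel)

theorem tab_ne : ∀ e ∈ tab, e.1 < 72 ∧ e.2.1 ≠ Fin.rev e.2.2 ∧ e.2.2 ≠ e.2.1 ∧
    ∀ k, top k ≠ e.1 ∧ top k ≠ chevE6.neg e.1 := by (rewrite [Cfsg.Agent.ChevFast.E6.neg]; decide +kernel)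

theorem top_lt : ∀ k, top k < 72 := by decide

theorem top_comm : ∀ k l, k ≠ l → top l ≠ top k ∧ top l ≠ chevE6.neg (top k) ∧ chevE6.commTerms (top k) (top l) = [] := by
  (rewrite [Cfsg.Agent.ChevFast.E6.commTerms, Cfsg.Agent.ChevFast.E6.neg]; decide +kernel)

theorem lev_zero : ∀ r < 72, Nodes.RGDFold.V chevE6 Nodes.RGDTwE6.J r 3 = 0 → r ∈ tab.map Prod.fst := by decide +kernel

theorem lev_two : ∀ r < 72, Nodes.RGDFold.V chevE6 Nodes.RGDTwE6.J r 3 = 2 → ∃ k, top k = r := by decide +kernel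

theorem rho_top : ∀ k : Fin 8, ∃ h : top k < 72, ((rho ⟨top k, h⟩).val = top (![0, 1, 2, 4, 3, 5, 6, 7] k)) := by
  decide +kernel

/-! ### The elements of the layer -/

section

variable {F : Type u} [Field F]

/-- products of commuting pairs -/
theorem prod_mul {ι M : Type*} [Monoid M] (l : List ι) (a b : ι → M) (h : ∀ i ∈ l, ∀ j ∈ l, Commute (b i) (a j)) :
    (l.map fun i => a i * b i).prod = (l.map a).prod * (l.map b).prod := by
  induction l with
  | nil => simp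
  | cons i l ih =>
    rw [List.map_cons, List.prod_cons, List.map_cons, List.prod_cons, List.map_cons, List.prod_cons,
      ih fun i hi j hj => h i (List.mem_cons_of_mem _ hi) j (List.mem_cons_of_mem _ hj)]
    have h1 : Commute (b i) (l.map a).prod := by
      apply Commute.list_prod_right
      intro x hx
      obtain ⟨j, hj, rfl⟩ := List.mem_map.1 hx
      exact h i List.mem_cons_self j (List.mem_cons_of_mem _ hj)
    calc a i * b i * ((l.map a).prod * (l.map b).prod) = a i * (b i * (l.map a).prod) * (l.map b).prod := by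
          simp only [mul_assoc]
      _ = _ := by rw [h1.eq]; simp only [mul_assoc]

theorem x_top_comm (k l : Fin 8) (t w : F) : Commute (x (top k) t) (x (top l) w) := by
  by_cases h : k = l
  · subst h
    show _ * _ = _ * _
    rw [x_add, x_add, add_comm]
  · obtain ⟨h1, h2, h3⟩ := top_comm k l h
    exact (comm_of_commTerms (top_lt k) (top_lt l) h1 h2 h3 t w).symm

/-- the elements of the layer -/
noncomputable def P8 : Multiplicative (Fin 8 → F) →* GL chevE6.Idx F where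
  toFun c := ((List.finRange 8).map fun k => x (top k) (c.toAdd k)).prod
  map_one' := by
    show ((List.finRange 8).map fun k => x (top k) (0 : F)).prod = 1
    simp [x_zero]
  map_mul' c d := by
    rw [← prod_mul _ _ _ fun i _ j _ => x_top_comm i j _ _]
    congr 1
    apply List.map_congr_left
    intro k _
    rw [x_add]
    rfl

/-- additive form -/
noncomputable def Pc (c : Fin 8 → F) : GL chevE6.Idx F := P8 (Multiplicative.ofAdd c)

theorem Pc_add (c d : Fin 8 → F) : Pc (c + d) = Pc c * Pc d := P8.map_mul _ _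

theorem Pc_def (c : Fin 8 → F) : Pc c = ((List.finRange 8).map fun k => x (top k) (c k)).prod := rfl

theorem Pc_single (k : Fin 8) (t : F) : Pc (Pi.single k t) = x (top k) t := by
  rw [Pc_def]
  have h : ∀ l : List (Fin 8), l.Nodup → (l.map fun i => x (top i) ((Pi.single k t : Fin 8 → F) i)).prod =
      if k ∈ l then x (top k) t else 1 := by
    intro l
    induction l with
    | nil => intro _; simp
    | cons i l ih =>
      intro hl
      rw [List.nodup_cons] at hl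
      rw [List.map_cons, List.prod_cons, ih hl.2]
      by_cases h1 : i = k
      · subst h1
        rw [Pi.single_eq_same, if_neg hl.1, if_pos List.mem_cons_self, mul_one]
      · rw [Pi.single_eq_of_ne h1, x_zero, one_mul]
        by_cases h2 : k ∈ l
        · rw [if_pos h2, if_pos (List.mem_cons_of_mem _ h2)]
        · rw [if_neg h2, if_neg]
          rw [List.mem_cons, not_or]
          exact ⟨fun h => h1 h.symm, h2⟩
  rw [h _ (List.nodup_finRange 8), if_pos (List.mem_finRange k)]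

/-- homomorphisms agreeing on the unit vectors agree -/
theorem hext {M : Type*} [Monoid M] {f g : Multiplicative (Fin 8 → F) →* M}
    (h : ∀ k t, f (Multiplicative.ofAdd (Pi.single k t)) = g (Multiplicative.ofAdd (Pi.single k t))) (c : Fin 8 → F) :
    f (Multiplicative.ofAdd c) = g (Multiplicative.ofAdd c) := by
  have h1 : Multiplicative.ofAdd c ∈ MonoidHom.eqLocusM f g := by
    rw [← Finset.univ_sum_single c, ofAdd_sum]
    exact Submonoid.prod_mem _ fun k _ => h k _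
  exact h1

open UnipProd in
theorem Pc_injective : Function.Injective (Pc : (Fin 8 → F) → GL chevE6.Idx F) := by
  have key : ∀ c : Fin 8 → F, Pc c = wordG hE6 ((rootsGE chevE6 60).map fun r =>
      (r, if r = 60 then c 0 else if r = 63 then c 1 else if r = 65 then c 2 else if r = 66 then c 3 else
        if r = 68 then c 4 else if r = 69 then c 5 else if r = 70 then c 6 else if r = 71 then c 7 else 0)) := by
    intro c
    have h1 : rootsGE chevE6 60 = [60, 61, 62, 63, 64, 65, 66, 67, 68, 69, 70, 71] := by decide +kernel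
    rw [h1, Pc_def]
    have h2 : List.finRange 8 = [0, 1, 2, 3, 4, 5, 6, 7] := by decide
    rw [h2]
    simp only [wordG, top, Elts.xG_zero, _root_.Fin.isValue, _root_.List.map_cons, _root_.Matrix.cons_val_zero, _root_.Matrix.cons_val_one, _root_.Matrix.cons_val, _root_.List.map_nil, _root_.List.prod_cons, _root_.List.prod_nil, _root_.mul_one, ↓ _root_.reduceIte, _root_.Nat.succ_ne_self, _root_.Nat.reduceEqDiff, _root_.one_mul]
  intro c d h
  rw [key, key] at h
  have h1 := prod_injective hE6 (k := 60) (by decide +kernel) h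
  funext k
  fin_cases k
  · simpa using h1 60 (by norm_num) (by decide +kernel)
  · simpa using h1 63 (by norm_num) (by decide +kernel)
  · simpa using h1 65 (by norm_num) (by decide +kernel)
  · simpa using h1 66 (by norm_num) (by decide +kernel)
  · simpa using h1 68 (by norm_num) (by decide +kernel)
  · simpa using h1 69 (by norm_num) (by decide +kernel)
  · simpa using h1 70 (by norm_num) (by decide +kernel)
  · simpa using h1 71 (by norm_num) (by decide +kernel)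

/-! ### Conjugation by the root elements of level zero -/

/-- the action of `x_r(t)` -/
def Am (e : ℕ × Fin 8 × Fin 8) (t : F) : (Fin 8 → F) →+ (Fin 8 → F) where
  toFun c := c + Pi.single e.2.2 (t * c e.2.1) + Pi.single (Fin.rev e.2.1) (t * c (Fin.rev e.2.2))
  map_zero' := by simp
  map_add' c d := by
    simp only [Pi.add_apply, mul_add, Pi.single_add]
    abel

theorem Am_apply (e : ℕ × Fin 8 × Fin 8) (t : F) (c : Fin 8 → F) :
    Am e t c = c + Pi.single e.2.2 (t * c e.2.1) + Pi.single (Fin.rev e.2.1) (t * c (Fin.rev e.2.2)) := rfl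

/-- the form -/
def Qc (c : Fin 8 → F) : F := c 0 * c 7 + c 1 * c 6 + c 2 * c 5 + c 3 * c 4

theorem Qc_Am (h2 : (2 : F) = 0) {e : ℕ × Fin 8 × Fin 8} (he : e ∈ tab) (t : F) (c : Fin 8 → F) :
    Qc (Am e t c) = Qc c := by
  have h : Qc (Am e t c) = Qc c + 2 * (t * c e.2.1 * c (Fin.rev e.2.2)) := by
    simp only [tab, List.mem_cons, List.not_mem_nil, or_false] at he
    rcases he with rfl | rfl | rfl | rfl | rfl | rfl | rfl | rfl | rfl | rfl | rfl | rfl | rfl | rfl | rfl | rfl | rfl |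
      rfl | rfl | rfl | rfl | rfl | rfl | rfl <;>
    simp only [Qc, Am_apply, Pi.add_apply, Pi.single_apply, Fin.rev, Fin.isValue, Fin.reduceEq, if_true, if_false] <;>
    simp only [_root_.Fin.isValue, _root_.Fin.coe_ofNat_eq_mod, _root_.Nat.reduceMod, _root_.Nat.reduceAdd, _root_.Nat.reduceSub, _root_.Fin.mk_one, _root_.zero_ne_one, ↓ _root_.reduceIte, _root_.add_zero, _root_.Fin.reduceEq, _root_.Nat.zero_mod, _root_.zero_add, _root_.Nat.add_one_sub_one, _root_.Fin.reduceFinMk, _root_.Nat.one_mod] <;> ring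
  rw [h, h2, zero_mul, add_zero]

theorem tab_nil : ∀ e ∈ tab, chevE6.commTerms e.1 (top e.2.2) = [] ∧
    chevE6.commTerms e.1 (top (Fin.rev e.2.1)) = [] := by (rewrite [Cfsg.Agent.ChevFast.E6.commTerms]; decide +kernel)

theorem cast_pm (h2 : (2 : F) = 0) {C : ℤ} (h : C = 1 ∨ C = -1) : (C : F) = 1 := by
  rcases h with rfl | rfl
  · simp
  · rw [Int.cast_neg, Int.cast_one]
    linear_combination -h2

theorem conj_x (h2 : (2 : F) = 0) {e : ℕ × Fin 8 × Fin 8} (he : e ∈ tab) (t : F) (c : Fin 8 → F) :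
    x e.1 t * Pc c * (x e.1 t)⁻¹ = Pc (Am e t c) := by
  obtain ⟨h72, hji, hij, hne⟩ := tab_ne e he
  have hneg1 : ∀ y : F, -y = y := fun y => by linear_combination -y * h2
  refine hext (f := (MulAut.conj (x e.1 t)).toMonoidHom.comp P8) (g := P8.comp (AddMonoidHom.toMultiplicative (Am e t)))
    (fun k w => ?_) c
  show x e.1 t * Pc (Pi.single k w) * (x e.1 t)⁻¹ = Pc (Am e t (Pi.single k w))
  rw [Am_apply, Pc_add, Pc_add, Pc_single, Pc_single, Pc_single]
  -- the relation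
  have hrel := Cfsg.Agent.S1025.result (F := F) chevE6 hE6 e.1 (top k) h72 (top_lt k) (hne k).1 (hne k).2 t w
  have hk := chk_all e he k
  unfold chk at hk
  split at hk
  · rename_i h
    have h1 := comm_of_commTerms (K := F) h72 (top_lt k) (hne k).1 (hne k).2 h t w
    rw [← h1, mul_inv_cancel_right]
    simp only [bne_iff_ne, ne_eq, Bool.and_eq_true] at hk
    rw [Pi.single_eq_of_ne (fun h => hk.1 h.symm), Pi.single_eq_of_ne (fun h => hk.2 h.symm), mul_zero, TwE6Basic.x_zero,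
      TwE6Basic.x_zero, mul_one, mul_one]
  · rename_i u C a b h
    simp only [Bool.and_eq_true, Bool.or_eq_true, beq_iff_eq] at hk
    obtain ⟨⟨⟨hC, rfl⟩, rfl⟩, hu⟩ := hk
    have hword : chevE6.commWord F e.1 (top k) t w = [(u, (C : F) * (-t) ^ 1 * w ^ 1)] := by
      show (chevE6.commTerms e.1 (top k)).map _ = _
      rw [h]
      rfl
    have h3 : x (top k) w * x e.1 t = x e.1 t * x (top k) w * x u (t * w) := by
      apply Units.ext
      have e1 : (C : F) * (-t) ^ 1 * w ^ 1 = t * w := by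
        rw [cast_pm h2 hC, hneg1]
        ring
      rw [hword, e1] at hrel
      refine hrel.trans ?_
      show _ * (chevE6.x F u (t * w) * 1) = _
      rw [mul_one]
      rfl
    have hcu : ∃ i, u = top i ∧ chevE6.commTerms e.1 (top i) = [] := by
      rcases hu with ⟨-, hu⟩ | ⟨-, hu⟩
      · exact ⟨_, hu, (tab_nil e he).1⟩
      · exact ⟨_, hu, (tab_nil e he).2⟩
    obtain ⟨i, hui, hnil⟩ := hcu
    have h4 : x u (t * w) * x e.1 t = x e.1 t * x u (t * w) := by
      rw [hui]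
      exact comm_of_commTerms h72 (top_lt i) (hne i).1 (hne i).2 hnil t (t * w)
    have h5 : x e.1 t * x (top k) w * (x e.1 t)⁻¹ = x (top k) w * x u (t * w) := by
      have h6 : x e.1 t * x (top k) w = x (top k) w * x u (t * w) * x e.1 t := by
        rw [mul_assoc, h4, ← mul_assoc, h3, mul_assoc, TwE6Basic.x_add]
        have : t * w + t * w = 0 := by linear_combination (t * w) * h2
        rw [this, TwE6Basic.x_zero, mul_one]
      rw [h6, mul_inv_cancel_right]
    rw [h5, mul_assoc]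
    congr 1
    rcases hu with ⟨hk1, hu⟩ | ⟨hk1, hu⟩
    · rw [hk1, Pi.single_eq_same, Pi.single_eq_of_ne (fun h => hji h.symm), mul_zero, TwE6Basic.x_zero, mul_one, hu]
    · rw [hk1, Pi.single_eq_same, Pi.single_eq_of_ne hji, mul_zero, TwE6Basic.x_zero, one_mul, hu]
  · exact absurd hk (by simp)

/-! ### The Frobenius and the torus -/

/-- the exchange of the two short coordinates -/
def τ : Fin 8 → Fin 8 := ![0, 1, 2, 4, 3, 5, 6, 7]

theorem τ_τ : ∀ k, τ (τ k) = k := by decide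

/-- the semilinear map -/
def sm (φ : F →+* F) : (Fin 8 → F) →+ (Fin 8 → F) where
  toFun c := fun k => φ (c (τ k))
  map_zero' := by funext k; simp
  map_add' c d := by funext k; simp only [_root_.Pi.add_apply, _root_.map_add]

theorem sm_apply (φ : F →+* F) (c : Fin 8 → F) (k : Fin 8) : sm φ c k = φ (c (τ k)) := rfl

theorem sg_Pc (h2 : (2 : F) = 0) (φ : F →+* F) (c : Fin 8 → F) : sg φ (Pc c) = Pc (sm φ c) := by
  refine hext (f := (sg φ).comp P8) (g := P8.comp (AddMonoidHom.toMultiplicative (sm φ))) (fun k t => ?_) c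
  show sg φ (Pc (Pi.single k t)) = Pc (sm φ (Pi.single k t))
  have h1 : sm φ (Pi.single k t) = Pi.single (τ k) (φ t) := by
    funext l
    rw [sm_apply]
    by_cases h : τ l = k
    · subst h
      rw [Pi.single_eq_same, τ_τ, Pi.single_eq_same]
    · rw [Pi.single_eq_of_ne h, Pi.single_eq_of_ne (fun h' => h (by rw [h', τ_τ])), map_zero]
  rw [h1, Pc_single, Pc_single]
  obtain ⟨h72, hr⟩ := rho_top k
  have h3 : sg φ (x (top k) t) = x (top (τ k)) (((GraphSymm.symmE6.ε ⟨top k, h72⟩ : ℤ) : F) * φ t) := by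
    rw [show top (τ k) = (rho ⟨top k, h72⟩).val from hr.symm]
    exact sg_x φ ⟨top k, h72⟩ t
  have h4 : ((GraphSymm.symmE6.ε ⟨top k, h72⟩ : ℤ) : F) = 1 := by
    apply cast_pm h2
    exact Int.isUnit_iff.1 (IsUnit.of_mul_eq_one _ (GraphSymm.symmE6.ε_sq ⟨top k, h72⟩))
  rw [h3, h4, one_mul]

theorem diag_x {g : GL chevE6.Idx F} (hg : g ∈ chevE6.diagonalSubgroup F) {r : ℕ} (hr : r < chevE6.nroots) :
    ∃ y : F, y ≠ 0 ∧ ∀ t, g * x r t * g⁻¹ = x r (y * t) :=
  BNChev.diagonal_conj hE6 hg hr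

theorem top_lt' : ∀ k, top k < chevE6.nroots := top_lt

/-- a diagonal map -/
def dm (χ : Fin 8 → F) : (Fin 8 → F) →+ (Fin 8 → F) where
  toFun c := fun k => χ k * c k
  map_zero' := by funext k; simp
  map_add' c d := by funext k; simp [mul_add]

theorem dm_apply (χ c : Fin 8 → F) (k : Fin 8) : dm χ c k = χ k * c k := rfl

theorem dm_single (χ : Fin 8 → F) (k : Fin 8) (t : F) : dm χ (Pi.single k t) = Pi.single k (χ k * t) := by
  funext l
  rw [dm_apply]
  by_cases h : l = k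
  · subst h; rw [Pi.single_eq_same, Pi.single_eq_same]
  · rw [Pi.single_eq_of_ne h, Pi.single_eq_of_ne h, mul_zero]

theorem conj_of {g : GL chevE6.Idx F} (A : (Fin 8 → F) →+ (Fin 8 → F))
    (h : ∀ k t, g * x (top k) t * g⁻¹ = Pc (A (Pi.single k t))) (c : Fin 8 → F) : g * Pc c * g⁻¹ = Pc (A c) := by
  refine hext (f := (MulAut.conj g).toMonoidHom.comp P8) (g := P8.comp (AddMonoidHom.toMultiplicative A))
    (fun k t => ?_) c
  show g * Pc (Pi.single k t) * g⁻¹ = Pc (A (Pi.single k t))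
  rw [Pc_single]
  exact h k t

theorem conj_diag {g : GL chevE6.Idx F} (hg : g ∈ chevE6.diagonalSubgroup F) :
    ∃ χ : Fin 8 → F, (∀ k, χ k ≠ 0) ∧ ∀ c : Fin 8 → F, g * Pc c * g⁻¹ = Pc (dm χ c) := by
  have h1 : ∀ k : Fin 8, ∃ y : F, y ≠ 0 ∧ ∀ t, g * x (top k) t * g⁻¹ = x (top k) (y * t) := fun k =>
    diag_x hg (top_lt' k)
  choose χ h2 h3 using h1
  refine ⟨χ, h2, conj_of (dm χ) fun k t => ?_⟩
  rw [h3, dm_single, Pc_single]

end

/-! ### The space over `𝔽₂` -/

open Cfsg.Agent.H181.O8m (V q)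

section

variable {F : Type u} [Field F] [CharP F 2]

/-- the embedding of the prime field -/
def io : ZMod 2 →+* F := ZMod.castHom (dvd_refl 2) F

theorem io_inj : Function.Injective (io : ZMod 2 →+* F) := (io : ZMod 2 →+* F).injective

/-- the coordinates -/
def Ph (w : F) : V →+ (Fin 8 → F) where
  toFun v := ![io (v (.inl (.inl 0))), io (v (.inl (.inl 1))), io (v (.inl (.inl 2))),
    io (v (.inr 0)) + io (v (.inr 1)) * w, io (v (.inr 0)) + io (v (.inr 1)) * w ^ 2,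
    io (v (.inl (.inr 2))), io (v (.inl (.inr 1))), io (v (.inl (.inr 0)))]
  map_zero' := by
    funext k
    (revert k; simp only [_root_.Fin.forall_fin_succ, _root_.Nat.succ_eq_add_one, Nat.reduceAdd, _root_.Pi.zero_apply, _root_.map_zero, _root_.MulZeroClass.zero_mul, _root_.add_zero, Fin.isValue, _root_.Matrix.cons_val_zero, _root_.Matrix.cons_val_succ, _root_.Matrix.cons_val_fin_one, _root_.implies_true, _root_.and_self])
  map_add' v v' := by
    funext k
    (revert k; simp only [_root_.Fin.forall_fin_succ, _root_.Nat.succ_eq_add_one, Nat.reduceAdd, Fin.isValue, _root_.Pi.add_apply, _root_.map_add, _root_.Matrix.cons_val_zero, _root_.Matrix.cons_val_succ, _root_.Matrix.cons_val_fin_one, _root_.implies_true, _root_.and_self, _root_.and_true, _root_.true_and]) <;> (repeat' with_reducible apply And.intro) <;> ring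

theorem Ph_apply (w : F) (v : V) : Ph w v = ![io (v (.inl (.inl 0))), io (v (.inl (.inl 1))), io (v (.inl (.inl 2))),
    io (v (.inr 0)) + io (v (.inr 1)) * w, io (v (.inr 0)) + io (v (.inr 1)) * w ^ 2,
    io (v (.inl (.inr 2))), io (v (.inl (.inr 1))), io (v (.inl (.inr 0)))] := rfl

theorem two_zero : (2 : F) = 0 := by exact_mod_cast CharP.cast_eq_zero F 2

variable {w : F} (hw : w ^ 2 + w + 1 = 0)

include hw

theorem Qc_Ph (v : V) : Qc (Ph w v) = io (q v) := by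
  have h2 := two_zero (F := F)
  rw [Cfsg.Agent.H181.O8m.q_apply, Fin.sum_univ_three]
  simp only [Qc, Ph_apply, map_add, map_mul, map_pow]
  show _ * _ + _ * _ + _ * _ + (io (v (.inr 0)) + io (v (.inr 1)) * w) * (io (v (.inr 0)) + io (v (.inr 1)) * w ^ 2) = _
  have h1 : w ^ 3 = 1 := by linear_combination (w - 1) * hw
  have h3 : (io (v (.inr 0)) + io (v (.inr 1)) * w) * (io (v (.inr 0)) + io (v (.inr 1)) * w ^ 2) =
      io (v (.inr 0)) ^ 2 + io (v (.inr 0)) * io (v (.inr 1)) + io (v (.inr 1)) ^ 2 := by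
    linear_combination io (v (.inr 0)) * io (v (.inr 1)) * hw + io (v (.inr 1)) ^ 2 * h1 -
      io (v (.inr 0)) * io (v (.inr 1)) * h2
  rw [h3]
  rfl

theorem w_ne (y : ZMod 2) : w ≠ io y := by
  rintro rfl
  have h1 : (io (y ^ 2 + y + 1) : F) = 0 := by
    rw [map_add, map_add, map_pow, map_one]
    exact hw
  have h2 : ∀ y : ZMod 2, y ^ 2 + y + 1 = 1 := by decide
  rw [h2, map_one] at h1
  exact one_ne_zero h1

theorem pair_inj {a b a' b' : ZMod 2} (h : (io a + io b * w : F) = io a' + io b' * w) : a = a' ∧ b = b' := by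
  have h1 : (io (a - a') : F) = io (b' - b) * w := by
    rw [map_sub, map_sub]
    linear_combination h
  have hz : ∀ y : ZMod 2, y = 0 ∨ y = 1 := by decide
  rcases hz (b' - b) with h2 | h2
  · rw [h2, map_zero, zero_mul] at h1
    have h3 : a - a' = 0 := io_inj (by rw [h1, map_zero])
    exact ⟨sub_eq_zero.1 h3, (sub_eq_zero.1 h2).symm⟩
  · rw [h2, map_one, one_mul] at h1
    exact absurd h1.symm (w_ne hw _)

theorem Ph_injective : Function.Injective (Ph w : V → Fin 8 → F) := by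
  intro v v' h
  rw [Ph_apply, Ph_apply] at h
  have h0 := congrFun h 0
  have h1 := congrFun h 1
  have h2 := congrFun h 2
  have h3 := congrFun h 3
  have h5 := congrFun h 5
  have h6 := congrFun h 6
  have h7 := congrFun h 7
  have h8 := pair_inj hw (show (io (v (.inr 0)) + io (v (.inr 1)) * w : F) = io (v' (.inr 0)) + io (v' (.inr 1)) * w from h3)
  funext k
  rcases k with (k | k) | k
  · fin_cases k
    · exact io_inj h0
    · exact io_inj h1
    · exact io_inj h2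
  · fin_cases k
    · exact io_inj h7
    · exact io_inj h6
    · exact io_inj h5
  · fin_cases k
    · exact h8.1
    · exact h8.2

omit hw in
theorem io_fix (φ : F →+* F) (a : ZMod 2) : φ (io a) = io a := by
  have h : φ.comp (io : ZMod 2 →+* F) = io := RingHom.ext_zmod _ _
  exact congrArg (fun f : ZMod 2 →+* F => f a) h

omit [CharP F 2] in
theorem w_cube : w ^ 3 = 1 := by linear_combination (w - 1) * hw

theorem sm_Ph {φ : F →+* F} (hφ : ∀ t, φ t = t ^ 2) (v : V) : sm φ (Ph w v) = Ph w v := by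
  have h3 := w_cube hw
  funext k
  rw [sm_apply, Ph_apply]
  fin_cases k
  · exact io_fix φ _
  · exact io_fix φ _
  · exact io_fix φ _
  · show φ (io (v (.inr 0)) + io (v (.inr 1)) * w ^ 2) = io (v (.inr 0)) + io (v (.inr 1)) * w
    rw [map_add, map_mul, map_pow, io_fix, io_fix, hφ]
    linear_combination (io (v (.inr 1)) * w) * h3
  · show φ (io (v (.inr 0)) + io (v (.inr 1)) * w) = io (v (.inr 0)) + io (v (.inr 1)) * w ^ 2
    rw [map_add, map_mul, io_fix, io_fix, hφ]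
  · exact io_fix φ _
  · exact io_fix φ _
  · exact io_fix φ _

omit hw in
theorem fix_io {t : F} (h : t ^ 2 = t) : ∃ a : ZMod 2, io a = t := by
  have h1 : t * (t - 1) = 0 := by linear_combination h
  rcases mul_eq_zero.1 h1 with h2 | h2
  · exact ⟨0, by rw [map_zero, h2]⟩
  · exact ⟨1, by rw [map_one]; linear_combination -h2⟩

theorem exists_pair (h4 : ∀ t : F, t ^ 4 = t) (t : F) : ∃ a b : ZMod 2, t = io a + io b * w := by
  have h2 := two_zero (F := F)
  have h1 : (t * (t - 1)) * ((t - w) * (t - (w + 1))) = 0 := by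
    linear_combination h4 t + (t ^ 2 - t) * hw + (- t ^ 3 * w + t ^ 2 * w - t ^ 3 + t ^ 2 + t - t ^ 2) * h2
  rcases mul_eq_zero.1 h1 with h | h
  · rcases mul_eq_zero.1 h with h | h
    · exact ⟨0, 0, by rw [map_zero, zero_mul, add_zero, h]⟩
    · exact ⟨1, 0, by rw [map_one, map_zero, zero_mul, add_zero]; linear_combination h⟩
  · rcases mul_eq_zero.1 h with h | h
    · exact ⟨0, 1, by rw [map_one, map_zero, one_mul, zero_add]; linear_combination h⟩
    · exact ⟨1, 1, by rw [map_one, one_mul]; linear_combination h⟩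

theorem exists_of_fix (h4 : ∀ t : F, t ^ 4 = t) {φ : F →+* F} (hφ : ∀ t, φ t = t ^ 2) {c : Fin 8 → F}
    (hc : sm φ c = c) : ∃ v : V, Ph w v = c := by
  have h3 := w_cube hw
  have e : ∀ k, (c (τ k)) ^ 2 = c k := fun k => by rw [← hφ]; exact congrFun hc k
  obtain ⟨a0, e0⟩ := fix_io (e 0)
  obtain ⟨a1, e1⟩ := fix_io (e 1)
  obtain ⟨a2, e2⟩ := fix_io (e 2)
  obtain ⟨a5, e5⟩ := fix_io (e 5)
  obtain ⟨a6, e6⟩ := fix_io (e 6)
  obtain ⟨a7, e7⟩ := fix_io (e 7)
  obtain ⟨y, z, e3⟩ := exists_pair hw h4 (c 3)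
  have e4 : c 4 = io y + io z * w ^ 2 := by
    have h5 : φ (c 3) = c 4 := by rw [hφ]; exact e 4
    rw [← h5, e3, map_add, map_mul, io_fix, io_fix, hφ]
  refine ⟨Sum.elim (Sum.elim ![a0, a1, a2] ![a7, a6, a5]) ![y, z], ?_⟩
  rw [Ph_apply]
  funext k
  fin_cases k
  · exact e0
  · exact e1
  · exact e2
  · exact e3.symm
  · exact e4.symm
  · exact e5
  · exact e6
  · exact e7

end

/-! ### Stabilisers of families -/

/-- the elements which permute a family, preserving a function -/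
def St {ι β G : Type*} [Group G] (P : ι → G) (f : ι → β) : Subgroup G where
  carrier := {g | (∀ i, ∃ j, f j = f i ∧ g * P i * g⁻¹ = P j) ∧ ∀ i, ∃ j, f j = f i ∧ g⁻¹ * P i * g = P j}
  mul_mem' := by
    rintro a b ⟨ha, ha'⟩ ⟨hb, hb'⟩
    refine ⟨fun i => ?_, fun i => ?_⟩
    · obtain ⟨j, h1, h2⟩ := hb i
      obtain ⟨k, h3, h4⟩ := ha j
      exact ⟨k, h3.trans h1, by rw [← h4, ← h2]; group⟩
    · obtain ⟨j, h1, h2⟩ := ha' i
      obtain ⟨k, h3, h4⟩ := hb' j
      exact ⟨k, h3.trans h1, by rw [← h4, ← h2]; group⟩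
  one_mem' := ⟨fun i => ⟨i, rfl, by group⟩, fun i => ⟨i, rfl, by group⟩⟩
  inv_mem' := by
    rintro a ⟨ha, ha'⟩
    exact ⟨fun i => by rw [inv_inv]; exact ha' i, fun i => by rw [inv_inv]; exact ha i⟩

theorem le_St {ι β G : Type*} [Group G] {P : ι → G} {f : ι → β} {H : Subgroup G}
    (h : ∀ g ∈ H, ∀ i, ∃ j, f j = f i ∧ g * P i * g⁻¹ = P j) : H ≤ St P f := fun g hg =>
  ⟨h g hg, fun i => by
    have h1 := h g⁻¹ (inv_mem hg) i
    rwa [inv_inv] at h1⟩

section

variable {F : Type u} [Field F] [CharP F 2] {w : F} (hw : w ^ 2 + w + 1 = 0) (h4 : ∀ t : F, t ^ 4 = t)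
  {φ : F →+* F} (hφ : ∀ t, φ t = t ^ 2)

/-- the elements which act on the layer as isometries -/
noncomputable def Hs (w : F) : Subgroup (GL chevE6.Idx F) := St (fun v : V => Pc (Ph w v)) q

omit h4 in
theorem x_mem_St {r : ℕ} (hr : r ∈ tab.map Prod.fst) (t : F) : x r t ∈ St (Pc (F := F)) Qc := by
  obtain ⟨e, he, rfl⟩ := List.mem_map.1 hr
  refine ⟨fun c => ⟨_, Qc_Am two_zero he t c, conj_x two_zero he t c⟩, fun c => ⟨_, Qc_Am two_zero he (-t) c, ?_⟩⟩
  rw [← conj_x two_zero he (-t) c, ← TwE6Basic.x_inv, inv_inv]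

include hw h4 hφ

/-- the image is determined by the fixed point condition -/
theorem exists_of_sg {g : GL chevE6.Idx F} (hg : g ∈ fix φ) {v : V} {d : Fin 8 → F}
    (h : g * Pc (Ph w v) * g⁻¹ = Pc d) : ∃ v', Ph w v' = d := by
  apply exists_of_fix hw h4 hφ
  apply Pc_injective
  rw [← sg_Pc two_zero, ← h, map_mul, map_mul, map_inv, sg_Pc two_zero, sm_Ph hw hφ, mem_fix.1 hg]

theorem le_Hs_of_rspan {H : Subgroup (GL chevE6.Idx F)} (h1 : H ≤ St (Pc (F := F)) Qc) (h2 : H ≤ fix φ) : H ≤ Hs w := by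
  refine le_St fun g hg v => ?_
  obtain ⟨d, hd, he⟩ := (h1 hg).1 (Ph w v)
  obtain ⟨v', rfl⟩ := exists_of_sg hw h4 hφ (h2 hg) he
  refine ⟨v', ?_, he⟩
  rw [Qc_Ph hw, Qc_Ph hw] at hd
  exact io_inj hd

theorem diag_le_Hs {H : Subgroup (GL chevE6.Idx F)} (h1 : H ≤ chevE6.diagonalSubgroup F) (h2 : H ≤ fix φ) :
    H ≤ Hs w := by
  refine le_St fun g hg v => ?_
  obtain ⟨χ, hχ, he⟩ := conj_diag (h1 hg)
  obtain ⟨v', hv'⟩ := exists_of_sg hw h4 hφ (h2 hg) (he (Ph w v))
  refine ⟨v', ?_, by rw [hv']; exact he _⟩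
  apply io_inj (F := F)
  rw [← Qc_Ph hw, ← Qc_Ph hw]
  have e1 : ∀ k, (Ph w v (τ k)) ^ 2 = Ph w v k := fun k => by
    rw [← hφ]; exact congrFun (sm_Ph hw hφ v) k
  have e2 : ∀ k, (Ph w v' (τ k)) ^ 2 = Ph w v' k := fun k => by
    rw [← hφ]; exact congrFun (sm_Ph hw hφ v') k
  have e3 : ∀ k, Ph w v' k = χ k * Ph w v k := fun k => congrFun hv' k
  have key : ∀ k, τ k = k → Ph w v' k = Ph w v k := by
    intro k hk
    have e4 := e1 k
    have e5 := e2 k
    rw [hk] at e4 e5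
    have e6 : Ph w v k * (Ph w v k - 1) = 0 := by linear_combination e4
    have e7 : Ph w v' k * (Ph w v' k - 1) = 0 := by linear_combination e5
    rcases mul_eq_zero.1 e6 with h | h
    · rw [e3, h, mul_zero]
    · have h' : Ph w v k = 1 := sub_eq_zero.1 h
      rcases mul_eq_zero.1 e7 with h3 | h3
      · rw [e3, h', mul_one] at h3
        exact absurd h3 (hχ k)
      · rw [h', sub_eq_zero.1 h3]
  have cube : ∀ t : F, t = 0 ∨ t ^ 3 = 1 := fun t => by
    have : t * (t ^ 3 - 1) = 0 := by linear_combination h4 t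
    rcases mul_eq_zero.1 this with h | h
    · exact Or.inl h
    · exact Or.inr (sub_eq_zero.1 h)
  have e8 : Ph w v' 3 * Ph w v' 4 = Ph w v 3 * Ph w v 4 := by
    have a1 : Ph w v 4 = (Ph w v 3) ^ 2 := (e1 4).symm
    have a2 : Ph w v' 4 = (Ph w v' 3) ^ 2 := (e2 4).symm
    rw [a1, a2]
    rcases cube (Ph w v 3) with h | h
    · rw [e3 3, h]; ring
    · rcases cube (Ph w v' 3) with h' | h'
      · rw [e3 3] at h'
        rcases mul_eq_zero.1 h' with h5 | h5
        · exact absurd h5 (hχ 3)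
        · rw [h5] at h
          exact absurd h (by norm_num)
      · linear_combination h' - h
  unfold Qc
  rw [key 0 (by decide), key 1 (by decide), key 2 (by decide), key 5 (by decide), key 6 (by decide), key 7 (by decide), e8]

end

/-! ### The layer as a subgroup of `²E₆(2)` -/

section

open CoxeterSystem Cfsg.Agent.ChevalleyStructure.CoxeterGeom Cfsg.Agent.Tits.Roots Cfsg.Agent.Tits.Core
  Cfsg.Agent.Nodes Cfsg.Agent.Nodes.Reps Cfsg.Agent.Nodes.BNOf Cfsg.Agent.Nodes.RGDLib Cfsg.Agent.Nodes.Bruhat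
  Cfsg.Agent.Nodes.OppDec Cfsg.Agent.Nodes.LeviDec Cfsg.Agent.Nodes.StabComb
open Cfsg.Agent.ChevalleyStructure.TwistedU (rspan mem_rspan rspan_le)
open Cfsg.Agent.H231.QF Cfsg.Agent.H590.F4
open Cfsg.Agent.Nodes.RGDFold (R)

variable {F : Type u} [Field F] [Fintype F] [CharP F 2] {w : F} (hw : w ^ 2 + w + 1 = 0) (h4 : ∀ t : F, t ^ 4 = t)
  {φ : F →+* F} (hφ : ∀ t, φ t = t ^ 2)

/-- the root groups in the general linear group -/
noncomputable abbrev RR (φ : F →+* F) (z : Fin 4 → ℤ) : Subgroup (GL chevE6.Idx F) :=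
  R chevE6 Nodes.RGDTwE6.hp F Nodes.RGDTwE6.J (sg φ) z

omit [Fintype F] [CharP F 2] in
theorem RR_le_fix (φ : F →+* F) (z : Fin 4 → ℤ) : RR φ z ≤ fix φ := inf_le_right

omit [Fintype F] [CharP F 2] in
theorem mem_RR {φ : F →+* F} {z : Fin 4 → ℤ} {g : GL chevE6.Idx F} (h1 : g ∈ fix φ)
    (h2 : g ∈ rspan (x (K := F)) {k | k < 72 ∧ Nodes.RGDFold.V chevE6 Nodes.RGDTwE6.J k = z}) : g ∈ RR φ z := ⟨h2, h1⟩

omit [Fintype F] [CharP F 2] in
theorem x_mem_rs2 {z : Fin 4 → ℤ} {k : ℕ} (hk : k < 72) (hz : Nodes.RGDFold.V chevE6 Nodes.RGDTwE6.J k = z) (t : F) :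
    x k t ∈ rspan (x (K := F)) {k | k < 72 ∧ Nodes.RGDFold.V chevE6 Nodes.RGDTwE6.J k = z} :=
  Subgroup.subset_closure ⟨k, ⟨hk, hz⟩, t, rfl⟩

omit [Fintype F] [CharP F 2] in
theorem RR_le {φ : F →+* F} {z : Fin 4 → ℤ} {H : Subgroup (GL chevE6.Idx F)}
    (h : ∀ k < 72, Nodes.RGDFold.V chevE6 Nodes.RGDTwE6.J k = z → ∀ t, x k t ∈ H) : RR φ z ≤ H :=
  inf_le_left.trans (rspan_le _ fun k hk t => h k hk.1 hk.2 t)

include hw h4 hφ in
omit [Fintype F] in
theorem RR_le_Hs {z : Fin 4 → ℤ} (hz : z 3 = 0) : RR φ z ≤ Hs w :=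
  le_Hs_of_rspan hw h4 hφ (RR_le fun k hk hkz t => x_mem_St (lev_zero k hk (by rw [hkz]; exact hz)) t) (RR_le_fix φ z)

include h4 in
omit [CharP F 2] [Fintype F] in
theorem hqq (t : F) : (t ^ 2) ^ 2 = t := by rw [← pow_mul]; exact h4 t

include h4 hφ in
omit [CharP F 2] in
theorem RR_le_G {p : ℕ} [Fact p.Prime] [CharP F p] {z : Fin 4 → ℤ} (hz : IsRoot cs Nodes.RGDTwE6.isCartan z) :
    RR φ z ≤ twistedE6 F 2 :=
  Nodes.RGDFold.R_le cs Nodes.RGDTwE6.isCartan Nodes.RGDTwE6.foldData (Nodes.RGDTwE6.foldGrp hφ (hqq h4)) p hz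

omit [Fintype F] [CharP F 2] in
theorem Pc_fix {c : Fin 8 → F} (hc : sm φ c = c) (h2 : (2 : F) = 0) : Pc c ∈ fix φ := by
  rw [mem_fix, sg_Pc h2, hc]

theorem V_top : ∀ k : Fin 8, Nodes.RGDFold.V chevE6 Nodes.RGDTwE6.J (top (τ k)) = Nodes.RGDFold.V chevE6 Nodes.RGDTwE6.J (top k) ∧
    Nodes.RGDFold.V chevE6 Nodes.RGDTwE6.J (top k) 3 = 2 := by decide +kernel

omit [Fintype F] in
/-- the layer is generated by its root groups -/
theorem Pc_mem_of {c : Fin 8 → F} (hc : sm φ c = c) {H : Subgroup (GL chevE6.Idx F)}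
    (h : ∀ k, RR φ (Nodes.RGDFold.V chevE6 Nodes.RGDTwE6.J (top k)) ≤ H) : Pc c ∈ H := by
  have h2 := two_zero (F := F)
  -- the long coordinates
  have hlong : ∀ k, τ k = k → Pc (Pi.single k (c k)) ∈ H := by
    intro k hk
    apply h k
    refine mem_RR (Pc_fix ?_ h2) ?_
    · funext l
      rw [sm_apply]
      by_cases hl : l = k
      · subst hl
        rw [hk, Pi.single_eq_same]
        have := congrFun hc l
        rw [sm_apply, hk] at this
        exact this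
      · have hl' : τ l ≠ k := fun h' => hl (by rw [← hk, ← h', τ_τ])
        rw [Pi.single_eq_of_ne hl, Pi.single_eq_of_ne hl', map_zero]
    · rw [Pc_single]
      exact x_mem_rs2 (top_lt k) rfl _
  have hshort : Pc (Pi.single 3 (c 3) + Pi.single 4 (c 4)) ∈ H := by
    apply h 3
    refine mem_RR (Pc_fix ?_ h2) ?_
    · have e3 : φ (c 4) = c 3 := congrFun hc 3
      have e4 : φ (c 3) = c 4 := congrFun hc 4
      funext l
      rw [sm_apply]
      fin_cases l <;> simp [τ, e3, e4]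
    · rw [Pc_add, Pc_single, Pc_single]
      exact mul_mem (x_mem_rs2 (top_lt 3) rfl _) (x_mem_rs2 (top_lt 4) (V_top 3).1 _)
  have e : c = Pi.single 0 (c 0) + Pi.single 1 (c 1) + Pi.single 2 (c 2) + (Pi.single 3 (c 3) + Pi.single 4 (c 4)) +
      Pi.single 5 (c 5) + Pi.single 6 (c 6) + Pi.single 7 (c 7) := by
    funext l
    fin_cases l <;> simp
  rw [e]
  simp only [Pc_add] at hshort ⊢
  exact mul_mem (mul_mem (mul_mem (mul_mem (mul_mem (mul_mem (hlong 0 (by decide)) (hlong 1 (by decide)))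
    (hlong 2 (by decide))) hshort) (hlong 5 (by decide))) (hlong 6 (by decide))) (hlong 7 (by decide))

include hw h4 hφ in
theorem Pc_mem_G (v : _root_.Cfsg.Agent.H181.O8m.V) : Pc (Ph w v) ∈ twistedE6 F 2 := by
  have : Fact (Nat.Prime 2) := ⟨Nat.prime_two⟩
  exact Pc_mem_of (sm_Ph hw hφ v) fun k => RR_le_G h4 hφ (p := 2) (Nodes.RGDTwComE6.isRoot_V (top_lt' k))

/-- the embedding of the orthogonal space -/
noncomputable def pp (hw : w ^ 2 + w + 1 = 0) (h4 : ∀ t : F, t ^ 4 = t) (hφ : ∀ t, φ t = t ^ 2) :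
    Multiplicative _root_.Cfsg.Agent.H181.O8m.V →* KK F :=
  (P8.comp (AddMonoidHom.toMultiplicative (Ph w))).codRestrict (twistedE6 F 2) fun v => Pc_mem_G hw h4 hφ v.toAdd

theorem coe_pp (v : _root_.Cfsg.Agent.H181.O8m.V) : ((pp hw h4 hφ (.ofAdd v) : KK F) : GL chevE6.Idx F) = Pc (Ph w v) := rfl

theorem pp_injective : Function.Injective (pp hw h4 hφ) := by
  intro a b h
  have h1 : Pc (Ph w a.toAdd) = Pc (Ph w b.toAdd) := congrArg (fun g : KK F => (g : GL chevE6.Idx F)) h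
  exact Ph_injective hw (Pc_injective h1)

theorem range_pp : (pp hw h4 hφ).range = V2 φ := by
  have : Fact (Nat.Prime 2) := ⟨Nat.prime_two⟩
  apply le_antisymm
  · rintro _ ⟨a, rfl⟩
    have h1 : Pc (Ph w a.toAdd) ∈ (V2 φ).map (twistedE6 F 2).subtype := by
      refine Pc_mem_of (sm_Ph hw hφ _) fun k => ?_
      have hr : IsRoot cs Nodes.RGDTwE6.isCartan (Nodes.RGDFold.V chevE6 Nodes.RGDTwE6.J (top k)) :=
        Nodes.RGDTwComE6.isRoot_V (top_lt' k)
      intro g hg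
      have hG : g ∈ twistedE6 F 2 := RR_le_G h4 hφ (p := 2) hr hg
      refine ⟨⟨g, hG⟩, ?_, rfl⟩
      have h2 : X φ (Nodes.RGDFold.V chevE6 Nodes.RGDTwE6.J (top k)) ≤ V2 φ :=
        RGD.le_Sup ⟨(KFacts.TwESix.Comb.mem_rts cs).1 hr, (V_top k).2⟩
      exact h2 hg
    obtain ⟨y, hy, e⟩ := h1
    have h2 : y = pp hw h4 hφ a := Subtype.ext e
    rwa [← h2]
  · refine RGD.Sup_le fun z hz g hg => ?_
    have hg' : (g : GL chevE6.Idx F) ∈ RR φ z := hg
    have h1 : RR φ z ≤ (P8 (F := F)).range := RR_le fun k hk hkz t => by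
      obtain ⟨i, rfl⟩ := lev_two k hk (by rw [hkz]; exact hz.2)
      exact ⟨_, Pc_single i t⟩
    obtain ⟨c, hc⟩ := h1 hg'
    have h2 : sm φ c.toAdd = c.toAdd := by
      apply Pc_injective
      rw [← sg_Pc two_zero]
      have h3 : Pc c.toAdd = (g : GL chevE6.Idx F) := hc
      rw [h3]
      exact mem_fix.1 (RR_le_fix φ z hg')
    obtain ⟨v, hv⟩ := exists_of_fix hw h4 hφ h2
    exact ⟨.ofAdd v, Subtype.ext (by rw [coe_pp, hv]; exact hc)⟩

omit [Fintype F] in
include hw h4 hφ in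
theorem Lv_le_Hs : Lv φ j4 ≤ (Hs w).subgroupOf (twistedE6 F 2) := by
  refine sup_le ?_ ?_
  · intro g hg
    exact diag_le_Hs hw h4 hφ (H := chevE6.diagonalSubgroup F ⊓ twistedE6 F 2) inf_le_left
      (inf_le_right.trans (twisted_le_fix φ hφ (hqq h4))) hg
  · refine RGD.Sup_le fun z hz g hg => ?_
    exact RR_le_Hs hw h4 hφ (hz.2 3 (by simp [j4])) hg

theorem act_pp {g : KK F} (hg : g ∈ Lv φ j4) (v : _root_.Cfsg.Agent.H181.O8m.V) :
    ∃ v', q v' = q v ∧ g * pp hw h4 hφ (.ofAdd v) * g⁻¹ = pp hw h4 hφ (.ofAdd v') := by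
  obtain ⟨v', h1, h2⟩ := (Lv_le_Hs hw h4 hφ hg).1 v
  exact ⟨v', h1, Subtype.ext h2⟩

end

/-! ### The homomorphism -/

section

open Cfsg.Agent.H181.O8m (O8)

/-- isometries from conjugation -/
theorem exists_psi {K : Type*} [Group K] {p : Multiplicative V →* K} (hp : Function.Injective p) {L : Subgroup K}
    (h : ∀ g ∈ L, ∀ v : V, ∃ v', q v' = q v ∧ g * p (.ofAdd v) * g⁻¹ = p (.ofAdd v')) :
    ∃ ψ : ↥L →* ↥O8, ∀ (g : ↥L) (v : V), (g : K) * p (.ofAdd v) * (g : K)⁻¹ =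
      p (.ofAdd ((ψ g : V ≃ₗ[ZMod 2] V) v)) := by
  choose f hf1 hf2 using fun (g : ↥L) v => h g g.2 v
  have inj : ∀ {a b : V}, p (.ofAdd a) = p (.ofAdd b) → a = b := fun h => hp h
  have hadd : ∀ g a b, f g (a + b) = f g a + f g b := fun g a b => inj (by
    rw [ofAdd_add, map_mul, ← hf2, ← hf2, ← hf2, ofAdd_add, map_mul]
    group)
  have hmul : ∀ g k v, f (g * k) v = f g (f k v) := fun g k v => inj (by
    rw [← hf2, ← hf2, ← hf2, Subgroup.coe_mul]
    group)
  have hone : ∀ v, f 1 v = v := fun v => inj (by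
    rw [← hf2, Subgroup.coe_one]
    group)
  let A : ↥L → V →ₗ[ZMod 2] V := fun g => (AddMonoidHom.mk' (f g) (hadd g)).toZModLinearMap 2
  have hA : ∀ g v, A g v = f g v := fun _ _ => rfl
  let e : ↥L → V ≃ₗ[ZMod 2] V := fun g => LinearEquiv.ofLinearMap (A g) (A g⁻¹)
    (LinearMap.ext fun v => by rw [LinearMap.comp_apply, hA, hA, ← hmul, mul_inv_cancel, hone]; rfl)
    (LinearMap.ext fun v => by rw [LinearMap.comp_apply, hA, hA, ← hmul, inv_mul_cancel, hone]; rfl)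
  have he : ∀ g v, e g v = f g v := fun _ _ => rfl
  refine ⟨MonoidHom.mk' (fun g => ⟨e g, fun v => by rw [he]; exact hf1 g v⟩) fun g k => Subtype.ext ?_, fun g v => ?_⟩
  · apply LinearEquiv.ext
    intro v
    exact hmul g k v
  · rw [hf2]
    rfl

end

/-! ### The field of four elements -/

section

variable {F : Type u} [Field F] [Fintype F] (hF : Fintype.card F = 4)

include hF

theorem char_two : CharP F 2 := by
  have : Fact (Nat.Prime 2) := ⟨Nat.prime_two⟩
  exact charP_of_card_eq_prime_pow (f := 2) (by rw [hF]; norm_num)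

theorem pow_four (t : F) : t ^ 4 = t := by
  have h := FiniteField.pow_card t
  rwa [hF] at h

theorem exists_w : ∃ w : F, w ^ 2 + w + 1 = 0 := by
  classical
  obtain ⟨t, ht⟩ : ∃ t : F, t ∉ ({0, 1} : Finset F) := by
    by_contra h
    push Not at h
    have h1 : Finset.univ ⊆ ({0, 1} : Finset F) := fun x _ => h x
    have h2 := (Finset.card_le_card h1).trans Finset.card_le_two
    rw [Finset.card_univ, hF] at h2
    omega
  rw [Finset.mem_insert, Finset.mem_singleton, not_or] at ht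
  have h1 : (t * (t - 1)) * (t ^ 2 + t + 1) = 0 := by linear_combination pow_four hF t
  rcases mul_eq_zero.1 h1 with h | h
  · rcases mul_eq_zero.1 h with h | h
    · exact absurd h ht.1
    · exact absurd (sub_eq_zero.1 h) ht.2
  · exact ⟨t, h⟩

end

end Cfsg.Agent.H588.F4
end

private theorem dce_0f57db5b9119 : _root_.True := by
  try have : _root_.True := by simp only [_root_.Cfsg.Agent.H588.F4.Ph.congr_simp]
  try have : _root_.True := by simp only [_root_.Cfsg.Agent.H588.F4.top.eq_1]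
  try have : _root_.True := by simp only [_root_.Cfsg.Agent.H231.QF.j4.eq_1]
  try have : _root_.True := by simp only [_root_.Cfsg.Agent.H588.F4.tab.eq_1]
  try have : _root_.True := by simp only [_root_.Cfsg.Agent.H326.QS.VP.Q.eq_1]
  try have : _root_.True := by simp only [_root_.Cfsg.Agent.H588.F4.chk._sparseCasesOn_1.else_eq]
  try have : _root_.True := by simp only [_root_.Cfsg.Agent.H588.F4.io.congr_simp]
  try have : _root_.True := by simp only [_root_.Cfsg.Agent.H588.F4.Qc.eq_1]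
  try have : _root_.True := by simp only [_root_.Cfsg.Agent.H588.F4.τ.eq_1]
  exact _root_.True.intro
end
end
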